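import Groth.Agent.L19.OmegaSh.Lift

/-!
# Sections, maps and exact sequences of conormal sheaves of quasi-compact immersions
-/

set_option autoImplicit false
set_option linter.style.haveILetI false
set_option backward.isDefEq.respectTransparency.types false
set_option backward.isDefEq.respectTransparency false

universe u

open CategoryTheory CategoryTheory.Limits AlgebraicGeometry TopologicalSpace Opposite

noncomputable section

namespace Groth.L19.OmegaSh

open Groth.L18.Frame (rs ro rs_rs ro_ro rs_smul ro_self rs_self)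
open _root_.OmegaSh (idealSect pullSect conormalSect strSect fnSect)

variable {Z X : Scheme.{u}} (i : Z ⟶ X)

/-- The ideal of `i` as a module. -/
abbrev idl : X.Modules := ClSub.idealMod i.ker

theorem idealSect_injective (U : X.Opens) : Function.Injective (idealSect i.ker U) := fun _ _ h =>
  _root_.OmegaSh.idealModι_app_injective U i.ker h

theorem idealSect_smul (U : X.Opens) (r : Γ(X, U)) (s : Γ(idl i, U)) :
    idealSect i.ker U (r • s) = r * idealSect i.ker U s :=
  Scheme.Modules.Hom.app_smul (ClSub.idealModι i.ker) r s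

theorem idealSect_rs {U U' : X.Opens} (h : U' ≤ U) (s : Γ(idl i, U)) :
    idealSect i.ker U' (rs (idl i) h s) = ro h (idealSect i.ker U s) :=
  _root_.OmegaSh.idealModι_app_map U i.ker h s

theorem app_idealSect (U : X.Opens) (s : Γ(idl i, U)) : i.app U (idealSect i.ker U s) = 0 := by
  have h0 : i.ker.subschemeι.app U (idealSect i.ker U s) = 0 :=
    congr($(kernel.condition (ClSub.toSubscheme i.ker)).app U s)
  have h1 : (i.toImage ≫ i.imageι).app U (idealSect i.ker U s) = 0 := by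
    rw [Scheme.Hom.comp_app, CommRingCat.comp_apply]
    exact (congrArg _ h0).trans (map_zero _)
  have h2 : (i.toImage ≫ i.imageι).appLE U (i ⁻¹ᵁ U) (by rw [Scheme.Hom.toImage_imageι])
      (idealSect i.ker U s) = 0 := by
    rw [Scheme.Hom.appLE, CommRingCat.comp_apply, h1]
    exact map_zero _
  rwa [_root_.OmegaSh.appLE_congr_hom i.toImage_imageι _ le_rfl, ← Scheme.Hom.app_eq_appLE] at h2

variable {i} in
theorem app_ro {U U' : X.Opens} (h : U' ≤ U) (a : Γ(X, U)) :
    i.app U' (ro h a) = ro (Scheme.Hom.preimage_mono i h) (i.app U a) :=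
  congr($(i.naturality (homOfLE h).op) a)

theorem subschemeι_app_eq_zero [QuasiCompact i] (U : X.Opens) (a : Γ(X, U)) (ha : i.app U a = 0) :
    i.ker.subschemeι.app U a = 0 := by
  refine i.ker.subscheme.IsSheaf.section_ext fun x hx => ?_
  obtain ⟨_, ⟨W, hW, rfl⟩, hxW, hWU⟩ :=
    X.isBasis_affineOpens.exists_subset_of_mem_open (show i.ker.subschemeι x ∈ U from hx) U.2
  have hle : W ≤ U := hWU
  refine ⟨i.ker.subschemeι ⁻¹ᵁ W, Scheme.Hom.preimage_mono _ hle, hxW, ?_⟩
  have h1 : ro hle a ∈ i.ker.ideal ⟨W, hW⟩ := by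
    rw [Scheme.Hom.ker_apply, RingHom.mem_ker]
    exact (app_ro hle a).trans ((congrArg _ ha).trans (map_zero _))
  rw [← i.ker.ker_subschemeι_app ⟨W, hW⟩, RingHom.mem_ker] at h1
  exact ((app_ro (i := i.ker.subschemeι) hle a).symm.trans h1).trans (map_zero _).symm

/-- Functions vanishing on `Z` are sections of the ideal. -/
theorem exists_idealSect [QuasiCompact i] (U : X.Opens) (a : Γ(X, U)) (ha : i.app U a = 0) :
    ∃ s : Γ(idl i, U), idealSect i.ker U s = a :=
  ⟨_root_.OmegaSh.kerLift (ClSub.toSubscheme i.ker) U (strSect X U a)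
      ((_root_.OmegaSh.toSubscheme_app_strSect U i.ker a).trans (subschemeι_app_eq_zero i U a ha)),
    congrArg (fnSect X U) (_root_.OmegaSh.ι_kerLift (ClSub.toSubscheme i.ker) U _ _)⟩

/-! ### Maps out of the conormal sheaf -/

variable {i} {N : Z.Modules}

theorem app_conormalSect (α : Omega.conormal i ⟶ N) (U : X.Opens) (s : Γ(idl i, U)) :
    ((Scheme.Modules.pullbackPushforwardAdjunction i).homEquiv _ _ α).app U s =
      α.app (i ⁻¹ᵁ U) (conormalSect i U s) := by
  rw [Adjunction.homEquiv_unit]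
  rfl

theorem conormal_hom_ext {α β : Omega.conormal i ⟶ N}
    (h : ∀ (U : X.Opens) (s : Γ(idl i, U)), α.app (i ⁻¹ᵁ U) (conormalSect i U s) =
      β.app (i ⁻¹ᵁ U) (conormalSect i U s)) : α = β := by
  apply ((Scheme.Modules.pullbackPushforwardAdjunction i).homEquiv _ _).injective
  apply Scheme.Modules.hom_ext
  intro U
  ext s
  exact (app_conormalSect α U s).trans ((h U s).trans (app_conormalSect β U s).symm)

/-- A map out of the conormal sheaf from its values. -/
theorem exists_conormal_hom (ψ : ∀ U : X.Opens, Γ(idl i, U) → Γ(N, i ⁻¹ᵁ U))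
    (hadd : ∀ U s t, ψ U (s + t) = ψ U s + ψ U t)
    (hsmul : ∀ U (r : Γ(X, U)) s, ψ U (r • s) = i.app U r • ψ U s)
    (hres : ∀ (U U' : X.Opens) (h : U' ≤ U) s,
      ψ U' (rs (idl i) h s) = rs N (Scheme.Hom.preimage_mono i h) (ψ U s)) :
    ∃ α : Omega.conormal i ⟶ N, ∀ U s, α.app (i ⁻¹ᵁ U) (conormalSect i U s) = ψ U s := by
  let β : idl i ⟶ (Scheme.Modules.pushforward i).obj N :=
    ⟨PresheafOfModules.homMk
      { app := fun U => AddCommGrpCat.ofHom (AddMonoidHom.mk' (fun s => ψ U.unop s) (hadd U.unop))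
        naturality := fun U U' f => by
          ext s
          exact hres U.unop U'.unop f.unop.le s }
      fun U r s => hsmul U.unop r s⟩
  refine ⟨((Scheme.Modules.pullbackPushforwardAdjunction i).homEquiv _ _).symm β, fun U s => ?_⟩
  refine (app_conormalSect _ U s).symm.trans ?_
  rw [Equiv.apply_symm_apply]
  rfl

theorem conormalSect_smul (U : X.Opens) (r : Γ(X, U)) (s : Γ(idl i, U)) :
    conormalSect i U (r • s) = i.app U r • (conormalSect i U s : Γ(Omega.conormal i, i ⁻¹ᵁ U)) :=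
  _root_.OmegaSh.pullSect_smul i (idl i) U r s

theorem conormalSect_rs {U U' : X.Opens} (h : U' ≤ U) (s : Γ(idl i, U)) :
    conormalSect i U' (rs (idl i) h s) =
      rs (Omega.conormal i) (Scheme.Hom.preimage_mono i h) (conormalSect i U s) :=
  _root_.OmegaSh.pullSect_map i (idl i) h s

/-! ### Closed pieces of immersions -/

theorem exists_affine_surjective [IsImmersion i] (z : Z) (O : X.Opens) (hO : i z ∈ O) :
    ∃ W : X.affineOpens, i z ∈ W.1 ∧ W.1 ≤ O ∧ IsAffineOpen (i ⁻¹ᵁ W.1) ∧ Function.Surjective (i.app W.1) := by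
  let R := i.coborderRange
  have hz : i z ∈ R := subset_coborder ⟨z, rfl⟩
  obtain ⟨_, ⟨W, hW, rfl⟩, hzW, hWle⟩ :=
    X.isBasis_affineOpens.exists_subset_of_mem_open (show i z ∈ O ⊓ R from ⟨hO, hz⟩) (O ⊓ R).2
  have hWR : W ≤ R := fun x hx => (hWle hx).2
  let W₀ : (R : Scheme.{u}).Opens := R.ι ⁻¹ᵁ W
  have hW₀ : R.ι ''ᵁ W₀ = W := by
    rw [Scheme.Hom.image_preimage_eq_opensRange_inf, Scheme.Opens.opensRange_ι, inf_eq_right.mpr hWR]
  have hW₀a : IsAffineOpen W₀ := by
    rw [← Scheme.Hom.isAffineOpen_iff_of_isOpenImmersion R.ι, hW₀]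
    exact hW
  have hpre : i.liftCoborder ⁻¹ᵁ W₀ = i ⁻¹ᵁ W := by rw [i.liftCoborder_preimage, hW₀]
  refine ⟨⟨W, hW⟩, hzW, fun x hx => (hWle hx).1, hpre ▸ hW₀a.preimage i.liftCoborder, ?_⟩
  have hs := i.liftCoborder.app_surjective W₀ hW₀a
  rw [liftCoborder_app] at hs
  have h1 : Function.Surjective (i.app (R.ι ''ᵁ W₀)) := fun b => by
    obtain ⟨a, ha⟩ := hs (Z.presheaf.map (eqToHom (i.liftCoborder_preimage W₀)).op b)
    refine ⟨a, ?_⟩
    exact (ConcreteCategory.bijective_of_isIso (Z.presheaf.map (eqToHom (i.liftCoborder_preimage W₀)).op)).1 ha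
  have h2 : ∀ V : X.Opens, R.ι ''ᵁ W₀ = V → Function.Surjective (i.app V) := by
    rintro V rfl
    exact h1
  exact h2 W hW₀

/-! ### Maps defined on a basis -/

/-- A map `M ⟶ i_* N` from linear values on a basis of opens around the image. -/
theorem exists_hom_of_basis {M : X.Modules} (P : X.affineOpens → Prop)
    (hP : ∀ (z : Z) (O : X.Opens), i z ∈ O → ∃ W, P W ∧ i z ∈ W.1 ∧ W.1 ≤ O)
    (ψ : ∀ W : X.affineOpens, P W → Γ(M, W.1) → Γ(N, i ⁻¹ᵁ W.1))
    (hadd : ∀ W p s t, ψ W p (s + t) = ψ W p s + ψ W p t)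
    (hsmul : ∀ W p (r : Γ(X, W.1)) s, ψ W p (r • s) = i.app W.1 r • ψ W p s)
    (hres : ∀ (W W' : X.affineOpens) (p : P W) (p' : P W') (h : W'.1 ≤ W.1) s,
      ψ W' p' (rs M h s) = rs N (Scheme.Hom.preimage_mono i h) (ψ W p s)) :
    ∃ α : M ⟶ (Scheme.Modules.pushforward i).obj N, ∀ W p s, α.app W.1 s = ψ W p s := by
  let G : TopCat.Sheaf Ab Z.toTopCat := ⟨N.presheaf, N.isSheaf⟩
  have key : ∀ (U : X.Opens) (s : Γ(M, U)), ∃! t : Γ(N, i ⁻¹ᵁ U),
      ∀ (W : X.affineOpens) (p : P W) (h : W.1 ≤ U),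
        rs N (Scheme.Hom.preimage_mono i h) t = ψ W p (rs M h s) := by
    intro U s
    let ι := {W : X.affineOpens // P W ∧ W.1 ≤ U}
    let V : ι → Z.Opens := fun w => i ⁻¹ᵁ w.1.1
    have hcov : i ⁻¹ᵁ U ≤ iSup V := fun z hz => by
      obtain ⟨W, p, hzW, hWU⟩ := hP z U hz
      exact Opens.mem_iSup.mpr ⟨⟨W, p, hWU⟩, hzW⟩
    have hcompat : TopCat.Presheaf.IsCompatible G.obj V fun w => ψ w.1 w.2.1 (rs M w.2.2 s) := by
      intro a b
      refine G.eq_of_locally_eq' (fun k : {W : X.affineOpens // P W ∧ W.1 ≤ a.1.1 ⊓ b.1.1} => i ⁻¹ᵁ k.1.1)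
        (V a ⊓ V b) (fun k => homOfLE ((Scheme.Hom.preimage_mono i k.2.2) : i ⁻¹ᵁ k.1.1 ≤ i ⁻¹ᵁ (a.1.1 ⊓ b.1.1))) ?_ _ _ fun k => ?_
      · intro z hz
        obtain ⟨W, p, hzW, hWle⟩ := hP z (a.1.1 ⊓ b.1.1) hz
        exact Opens.mem_iSup.mpr ⟨⟨W, p, hWle⟩, hzW⟩
      · have hk : i ⁻¹ᵁ k.1.1 ≤ V a ⊓ V b := Scheme.Hom.preimage_mono i k.2.2
        show rs N hk (rs N inf_le_left (ψ a.1 a.2.1 (rs M a.2.2 s))) =
          rs N hk (rs N inf_le_right (ψ b.1 b.2.1 (rs M b.2.2 s)))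
        rw [rs_rs, rs_rs, ← hres a.1 k.1 a.2.1 k.2.1 (k.2.2.trans inf_le_left),
          ← hres b.1 k.1 b.2.1 k.2.1 (k.2.2.trans inf_le_right), rs_rs, rs_rs]
    obtain ⟨t, ht, huniq⟩ := G.existsUnique_gluing' V (i ⁻¹ᵁ U)
      (fun w => homOfLE (Scheme.Hom.preimage_mono i w.2.2)) hcov _ hcompat
    exact ⟨t, fun W p h => ht ⟨W, p, h⟩, fun t' ht' => huniq t' fun w => ht' w.1 w.2.1 w.2.2⟩
  choose v hv huniq using key
  let β : M ⟶ (Scheme.Modules.pushforward i).obj N :=
    ⟨PresheafOfModules.homMk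
      { app := fun U => AddCommGrpCat.ofHom (AddMonoidHom.mk' (fun s => v U.unop s) fun s s' =>
          (huniq U.unop (s + s') (v U.unop s + v U.unop s') fun W p h => by
            refine (map_add _ _ _).trans ?_
            refine Eq.trans ?_ (congrArg (ψ W p) (map_add _ _ _).symm)
            rw [hadd]
            exact congrArg₂ (· + ·) (hv U.unop s W p h) (hv U.unop s' W p h)).symm)
        naturality := fun U U' f => by
          ext s
          refine (huniq U'.unop (rs M f.unop.le s)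
            (rs N (Scheme.Hom.preimage_mono i f.unop.le) (v U.unop s)) fun W p h => ?_).symm
          rw [rs_rs, rs_rs]
          exact hv U.unop s W p (h.trans f.unop.le) }
      fun U (r : Γ(X, U.unop)) s => (huniq U.unop (r • s) (i.app U.unop r • v U.unop s) fun W p h => by
        rw [rs_smul, rs_smul, hsmul, app_ro, hv U.unop s W p h]).symm⟩
  refine ⟨β, fun W p s => ?_⟩
  have h := hv W.1 s W p le_rfl
  rw [rs_self, rs_self] at h
  exact h

/-! ### Exactness -/

theorem exact_and_epi_of_desc {A B C : Z.Modules} (f : A ⟶ B) (g : B ⟶ C) (w : f ≫ g = 0)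
    (h : ∀ (M : Z.Modules) (α : B ⟶ M), f ≫ α = 0 → ∃! β : C ⟶ M, g ≫ β = α) :
    (ShortComplex.mk f g w).Exact ∧ Epi g := by
  have he : Epi g := ⟨fun {M} β β' hβ => by
    obtain ⟨γ, -, hγ⟩ := h M (g ≫ β) (by rw [reassoc_of% w, zero_comp])
    exact (hγ β rfl).trans (hγ β' hβ.symm).symm⟩
  refine ⟨?_, he⟩
  refine (ShortComplex.mk f g w).exact_of_g_is_cokernel ?_
  exact CokernelCofork.IsColimit.ofπ g w (fun α hα => (h _ α hα).choose)
    (fun α hα => (h _ α hα).choose_spec.1) (fun α hα β hβ => (h _ α hα).choose_spec.2 β hβ)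

end Groth.L19.OmegaSh
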