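import Groth.Agent.L19.OmegaSh.SqZero
import Groth.Agent.L00.PullStalk
import Groth.Prelude.Def_Omega4
import Mathlib.AlgebraicGeometry.Morphisms.Flat

/-!
# `dOmega` is universal
-/

set_option autoImplicit false
set_option linter.style.haveILetI false
set_option backward.isDefEq.respectTransparency.types false
set_option backward.isDefEq.respectTransparency false

universe u

open CategoryTheory CategoryTheory.Limits AlgebraicGeometry TopologicalSpace Opposite

noncomputable section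

namespace Groth.L19.OmegaSh

open Groth.L18.Frame (rs ro rs_rs ro_ro rs_smul ro_self rs_self)
open _root_.OmegaSh (Der idealSect diagNbhd diagDiff idealLift dOmega dSect strSect fnSect)

variable {X Y : Scheme.{u}} (f : X ⟶ Y) {F : X.Modules}

/-- An affine open lying over an affine open of the base. -/
def Good (U : X.affineOpens) : Prop := ∃ V : Y.affineOpens, U.1 ≤ f ⁻¹ᵁ V.1

variable {f}

theorem exists_good (x : X) (O : X.Opens) (hx : x ∈ O) :
    ∃ U : X.affineOpens, Good f U ∧ x ∈ U.1 ∧ U.1 ≤ O := by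
  obtain ⟨_, ⟨V, hV, rfl⟩, hxV, -⟩ :=
    Y.isBasis_affineOpens.exists_subset_of_mem_open (Set.mem_univ (f x)) isOpen_univ
  obtain ⟨_, ⟨U, hU, rfl⟩, hxU, hUle⟩ :=
    X.isBasis_affineOpens.exists_subset_of_mem_open (a := x) (show x ∈ O ⊓ f ⁻¹ᵁ V from ⟨hx, hxV⟩)
      (O ⊓ f ⁻¹ᵁ V).2
  exact ⟨⟨U, hU⟩, ⟨⟨V, hV⟩, fun z hz => (hUle hz).2⟩, hxU, fun z hz => (hUle hz).1⟩

theorem Good.mono {U U' : X.affineOpens} (hU : Good f U) (h : U'.1 ≤ U.1) : Good f U' :=
  hU.imp fun _ hV => h.trans hV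

/-- Sections agreeing on all good affines are equal. -/
theorem eq_of_good {Z : X.Opens} (s t : Γ(F, Z))
    (h : ∀ (U : X.affineOpens) (_ : Good f U) (hU : U.1 ≤ Z), rs F hU s = rs F hU t) : s = t := by
  obtain ⟨w, -, hw⟩ := existsUnique_glue F (Good f) exists_good Z (fun U _ hU => rs F hU s)
    (fun U U' _ _ hZ hZ' hUU' => rs_rs F hZ hUU' s)
  exact (hw s fun _ _ _ => rfl).trans (hw t fun U p hU => (h U p hU).symm).symm

theorem der_map (D : Der f F) {U U' : X.Opens} (h : U' ≤ U) (a : Γ(X, U)) :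
    D.app U' (ro h a) = rs F h (D.app U a) :=
  D.d_map (homOfLE h).op a

theorem der_mul (D : Der f F) {U : X.Opens} (a b : Γ(X, U)) :
    D.app U (a * b) = a • D.app U b + b • D.app U a :=
  D.d_mul a b

theorem der_appLE (D : Der f F) {V : Y.Opens} {U : X.Opens} (e : U ≤ f ⁻¹ᵁ V) (c : Γ(Y, V)) :
    D.app U (f.appLE V U e c) = 0 := by
  show D.app U (ro e (f.app V c)) = 0
  rw [der_map, show D.app (f ⁻¹ᵁ V) (f.app V c) = 0 from D.d_app (X := op V) c]
  exact map_zero _

/-- `a ↦ (a, D a)`. -/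
def dHom (D : Der f F) (U : X.Opens) : Γ(X, U) ⟶ L F U :=
  liftHom F (𝟙 _) (D.app U) fun a b => der_mul D a b

theorem inlL_prL (U : X.Opens) : inlL F U ≫ prL F U = 𝟙 _ := by
  ext a; exact fst_mk F _ _

theorem dHom_prL (D : Der f F) (U : X.Opens) : dHom D U ≫ prL F U = 𝟙 _ := by
  ext a; exact fst_mk F _ _

theorem inlL_resL {U U' : X.Opens} (h : U' ≤ U) :
    inlL F U ≫ resL F h = X.presheaf.map (homOfLE h).op ≫ inlL F U' := by
  ext a
  refine ext F ?_ ?_
  · simp [inlL]
  · simp [inlL]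

theorem dHom_resL (D : Der f F) {U U' : X.Opens} (h : U' ≤ U) :
    dHom D U ≫ resL F h = X.presheaf.map (homOfLE h).op ≫ dHom D U' := by
  ext a
  refine ext F ?_ ?_
  · simp [dHom]
  · simpa [dHom] using (der_map D h a).symm

theorem good_comm (D : Der f F) {U : X.affineOpens} (hU : Good f U) :
    (Spec.map (inlL F U.1) ≫ U.2.fromSpec) ≫ f = (Spec.map (dHom D U.1) ≫ U.2.fromSpec) ≫ f := by
  obtain ⟨V, e⟩ := hU
  simp only [Category.assoc, ← IsAffineOpen.SpecMap_appLE_fromSpec f V.2 U.2 e, ← Spec.map_comp_assoc]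
  congr 2
  ext c
  refine ext F ?_ ?_
  · simp [inlL, dHom]
  · simpa [inlL, dHom] using (der_appLE D e c).symm

/-- The point of `X ×_Y X` with values in `U ⋉ F` given by `(id, id + D)`. -/
def lPt (D : Der f F) (U : X.affineOpens) (hU : Good f U) : Spec (L F U.1) ⟶ pullback f f :=
  pullback.lift (Spec.map (inlL F U.1) ≫ U.2.fromSpec) (Spec.map (dHom D U.1) ≫ U.2.fromSpec)
    (good_comm D hU)

theorem prL_lPt (D : Der f F) (U : X.affineOpens) (hU : Good f U) :
    Spec.map (prL F U.1) ≫ lPt D U hU = U.2.fromSpec ≫ pullback.diagonal f := by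
  apply pullback.hom_ext <;>
  simp [lPt, ← Spec.map_comp_assoc, inlL_prL, dHom_prL]

theorem resL_lPt (D : Der f F) {U U' : X.affineOpens} (hU : Good f U) (hU' : Good f U') (h : U'.1 ≤ U.1) :
    Spec.map (resL F h) ≫ lPt D U hU = lPt D U' hU' := by
  apply pullback.hom_ext
  · rw [Category.assoc, lPt, lPt, pullback.lift_fst, pullback.lift_fst, ← Spec.map_comp_assoc, inlL_resL,
      Spec.map_comp_assoc, IsAffineOpen.map_fromSpec]
  · rw [Category.assoc, lPt, lPt, pullback.lift_snd, pullback.lift_snd, ← Spec.map_comp_assoc, dHom_resL,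
      Spec.map_comp_assoc, IsAffineOpen.map_fromSpec]

theorem top_le_lPt (D : Der f F) (U : X.affineOpens) (hU : Good f U) {W : (pullback f f).Opens}
    (h : U.1 ≤ pullback.diagonal f ⁻¹ᵁ W) : ⊤ ≤ lPt D U hU ⁻¹ᵁ W := by
  refine le_preimage_of_range F _ W fun z _ => ?_
  rw [prL_lPt]
  exact h (U.2.range_fromSpec.le ⟨z, rfl⟩)

theorem μ_specMap {U : X.Opens} (hU : IsAffineOpen U) (φ : Γ(X, U) ⟶ L F U) (W : X.Opens) (hW : U ≤ W)
    (e : ⊤ ≤ (Spec.map φ ≫ hU.fromSpec) ⁻¹ᵁ W) (a : Γ(X, W)) :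
    μ F (Spec.map φ ≫ hU.fromSpec) W e a = snd' F (φ (ro hW a)) := by
  have h : τ F (Spec.map φ ≫ hU.fromSpec) W e = X.presheaf.map (homOfLE hW).op ≫ φ := by
    have e2 : (⊤ : (Spec Γ(X, U)).Opens) ≤ hU.fromSpec ⁻¹ᵁ W :=
      hU.fromSpec_preimage_self.ge.trans (Scheme.Hom.preimage_mono _ hW)
    have h1 : hU.fromSpec.appLE W ⊤ e2 =
        X.presheaf.map (homOfLE hW).op ≫ (Scheme.ΓSpecIso Γ(X, U)).inv := by
      rw [Scheme.Hom.appLE, hU.fromSpec_app_of_le W hW, Category.assoc, Category.assoc,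
        ← Functor.map_comp]
      exact congrArg (X.presheaf.map (homOfLE hW).op ≫ ·)
        ((congrArg ((Scheme.ΓSpecIso Γ(X, U)).inv ≫ ·) ((Spec Γ(X, U)).presheaf.map_id _)).trans
          (Category.comp_id _))
    rw [τ, ← Scheme.Hom.appLE_comp_appLE (Spec.map φ) hU.fromSpec W ⊤ ⊤ e2 le_top, h1]
    simp only [Category.assoc]
    congr 1
    rw [← cancel_epi (Scheme.ΓSpecIso Γ(X, U)).hom, Iso.hom_inv_id_assoc,
      ← Scheme.ΓSpecIso_naturality, Scheme.Hom.appTop, Scheme.Hom.app_eq_appLE]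
    rfl
  rw [μ, h]
  rfl

theorem μ_diagDiff (D : Der f F) (U₀ : X.Opens) (U : X.affineOpens) (hU : Good f U) (h : U.1 ≤ U₀)
    (e : ⊤ ≤ lPt D U hU ⁻¹ᵁ diagNbhd f U₀) (a : Γ(X, U₀)) :
    μ F (lPt D U hU) (diagNbhd f U₀) e (diagDiff f U₀ a) = D.app U.1 (ro h a) := by
  have e₁ : ⊤ ≤ (Spec.map (inlL F U.1) ≫ U.2.fromSpec) ⁻¹ᵁ U₀ := fun z hz => by
    show (Spec.map (inlL F U.1) ≫ U.2.fromSpec) z ∈ U₀
    rw [← show lPt D U hU ≫ pullback.fst f f = _ from pullback.lift_fst _ _ _]
    exact (e hz).1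
  have e₂ : ⊤ ≤ (Spec.map (dHom D U.1) ≫ U.2.fromSpec) ⁻¹ᵁ U₀ := fun z hz => by
    show (Spec.map (dHom D U.1) ≫ U.2.fromSpec) z ∈ U₀
    rw [← show lPt D U hU ≫ pullback.snd f f = _ from pullback.lift_snd _ _ _]
    exact (e hz).2
  have h₁ : μ F (lPt D U hU) (diagNbhd f U₀) e
      ((pullback.fst f f).appLE U₀ (diagNbhd f U₀) inf_le_left a) = 0 := by
    rw [← μ_comp F (lPt D U hU) (pullback.fst f f) e inf_le_left (by exact fun z hz => (e hz).1)]
    refine (congrArg (snd' F) (congr($(τ_congr F (pullback.lift_fst _ _ _) U₀ _ e₁) a))).trans ?_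
    show μ F _ U₀ e₁ a = 0
    rw [μ_specMap U.2 _ U₀ h]
    exact snd_liftHom F _ _ _ _
  have h₂ : μ F (lPt D U hU) (diagNbhd f U₀) e
      ((pullback.snd f f).appLE U₀ (diagNbhd f U₀) inf_le_right a) = D.app U.1 (ro h a) := by
    rw [← μ_comp F (lPt D U hU) (pullback.snd f f) e inf_le_right (by exact fun z hz => (e hz).2)]
    refine (congrArg (snd' F) (congr($(τ_congr F (pullback.lift_snd _ _ _) U₀ _ e₂) a))).trans ?_
    show μ F _ U₀ e₂ a = _
    rw [μ_specMap U.2 _ U₀ h]
    exact snd_liftHom F _ _ _ _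
  have := μ_add F (lPt D U hU) (diagNbhd f U₀) e (diagDiff f U₀ a)
    ((pullback.fst f f).appLE U₀ (diagNbhd f U₀) inf_le_left a)
  rw [diagDiff, sub_add_cancel, h₁, h₂, add_zero] at this
  exact this.symm

theorem appLE_idealSect (W : (pullback f f).Opens) {U : X.Opens}
    (hU : U ≤ pullback.diagonal f ⁻¹ᵁ W) (s : Γ(ClSub.idealMod (pullback.diagonal f).ker, W)) :
    (pullback.diagonal f).appLE W U hU (idealSect (pullback.diagonal f).ker W s) = 0 := by
  have h0 : (pullback.diagonal f).ker.subschemeι.app W (idealSect (pullback.diagonal f).ker W s) = 0 :=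
    congr($(kernel.condition (ClSub.toSubscheme (pullback.diagonal f).ker)).app W s)
  have h1 : (pullback.diagonal f).appLE W U hU =
      (pullback.diagonal f).ker.subschemeι.app W ≫ (pullback.diagonal f).toImage.appLE ((pullback.diagonal f).ker.subschemeι ⁻¹ᵁ W) U
        (by rw [← Scheme.Hom.comp_preimage]; exact hU.trans_eq (congrArg (· ⁻¹ᵁ W) (pullback.diagonal f).toImage_imageι.symm)) := by
    rw [← Scheme.Hom.comp_appLE]
    exact _root_.OmegaSh.appLE_congr_hom (pullback.diagonal f).toImage_imageι.symm _ _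
  rw [h1, CommRingCat.comp_apply, h0, map_zero]

variable (D : Der f F)

theorem existsUnique_β (W : (pullback f f).Opens) (s : Γ(ClSub.idealMod (pullback.diagonal f).ker, W)) :
    ∃! t : Γ(F, pullback.diagonal f ⁻¹ᵁ W), ∀ (U : X.affineOpens) (p : Good f U)
      (h : U.1 ≤ pullback.diagonal f ⁻¹ᵁ W),
      rs F h t = μ F (lPt D U p) W (top_le_lPt D U p h) (idealSect (pullback.diagonal f).ker W s) :=
  existsUnique_glue F (Good f) exists_good _
    (fun U p h => μ F (lPt D U p) W (top_le_lPt D U p h) (idealSect (pullback.diagonal f).ker W s))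
    fun U U' p p' hZ hZ' h => by
      rw [← μ_res F h (lPt D U p) (lPt D U' p') (resL_lPt D p p' h) le_rfl (top_le_lPt D U p hZ)
        (top_le_lPt D U' p' hZ'), ro_self]

/-- The value of the linear map defined by a derivation. -/
def βFun (W : (pullback f f).Opens) (s : Γ(ClSub.idealMod (pullback.diagonal f).ker, W)) :
    Γ(F, pullback.diagonal f ⁻¹ᵁ W) :=
  (existsUnique_β D W s).choose

theorem βFun_spec (W : (pullback f f).Opens) (s : Γ(ClSub.idealMod (pullback.diagonal f).ker, W))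
    (U : X.affineOpens) (p : Good f U) (h : U.1 ≤ pullback.diagonal f ⁻¹ᵁ W) :
    rs F h (βFun D W s) = μ F (lPt D U p) W (top_le_lPt D U p h) (idealSect (pullback.diagonal f).ker W s) :=
  (existsUnique_β D W s).choose_spec.1 U p h

theorem βFun_add (W : (pullback f f).Opens) (s s' : Γ(ClSub.idealMod (pullback.diagonal f).ker, W)) :
    βFun D W (s + s') = βFun D W s + βFun D W s' :=
  eq_of_good (f := f) _ _ fun U p h => by
    refine (βFun_spec D W _ U p h).trans (Eq.trans ?_ (map_add _ _ _).symm)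
    rw [map_add (idealSect _ W), μ_add, ← βFun_spec D W s U p h, ← βFun_spec D W s' U p h]

theorem βFun_smul (W : (pullback f f).Opens) (r : Γ(pullback f f, W))
    (s : Γ(ClSub.idealMod (pullback.diagonal f).ker, W)) :
    βFun D W (r • s) = (pullback.diagonal f).app W r • βFun D W s :=
  eq_of_good (f := f) _ _ fun U p h => by
    have hs : idealSect (pullback.diagonal f).ker W (r • s) = r * idealSect (pullback.diagonal f).ker W s :=
      Scheme.Modules.Hom.app_smul (ClSub.idealModι (pullback.diagonal f).ker) r s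
    rw [βFun_spec D W _ U p h, rs_smul, βFun_spec D W s U p h, hs,
      μ_mul F U.2 (lPt D U p) (pullback.diagonal f) (prL_lPt D U p) W _ h, appLE_idealSect W h s,
      zero_smul, add_zero]
    rfl

theorem idealSect_map (K : (pullback f f).IdealSheafData) {W W' : (pullback f f).Opens} (h : W' ≤ W)
    (s : Γ(ClSub.idealMod K, W)) :
    idealSect K W' (rs (ClSub.idealMod K) h s) = ro h (idealSect K W s) :=
  _root_.OmegaSh.idealModι_app_map W K h s

/-- The linear map defined by a derivation. -/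
def βHom : ClSub.idealMod (pullback.diagonal f).ker ⟶ (Scheme.Modules.pushforward (pullback.diagonal f)).obj F :=
  ⟨PresheafOfModules.homMk
    { app := fun W => AddCommGrpCat.ofHom (AddMonoidHom.mk' (fun s => βFun D W.unop s) (βFun_add D W.unop))
      naturality := fun W W' i => by
        ext s
        show βFun D W'.unop (rs (ClSub.idealMod _) i.unop.le s) =
          rs F (Scheme.Hom.preimage_mono _ i.unop.le) (βFun D W.unop s)
        refine eq_of_good (f := f) _ _ fun U p h => ?_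
        rw [rs_rs, βFun_spec D W'.unop _ U p h, βFun_spec D W.unop s U p, idealSect_map,
          μ_res F le_rfl (lPt D U p) (lPt D U p) (resL_lPt D p p le_rfl) i.unop.le
            (top_le_lPt D U p (h.trans (Scheme.Hom.preimage_mono _ i.unop.le))), rs_self] }
    fun W r s => βFun_smul D W.unop r s⟩

theorem βHom_app (W : (pullback f f).Opens) (s : Γ(ClSub.idealMod (pullback.diagonal f).ker, W)) :
    (βHom D).app W s = βFun D W s := rfl

variable [QuasiSeparated f]

theorem βFun_idealLift (U₀ : X.Opens) (a : Γ(X, U₀)) (U : X.affineOpens) (p : Good f U) (h : U.1 ≤ U₀) :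
    rs F (h.trans (_root_.OmegaSh.le_preimage_diagNbhd f U₀)) (βFun D (diagNbhd f U₀) (idealLift f U₀ a)) =
      rs F h (D.app U₀ a) := by
  rw [βFun_spec D _ _ U p, show idealSect _ _ (idealLift f U₀ a) = diagDiff f U₀ a from
    congrArg (fnSect _ _) (_root_.OmegaSh.ι_idealLift f U₀ a), μ_diagDiff D U₀ U p h, der_map]

end Groth.L19.OmegaSh
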