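import Groth.Agent.L19.OmegaSh.DiagPoint

/-!
# The ideal of the diagonal is generated by `pr₂♯ a - pr₁♯ a`; `dOmega` is universal
-/

set_option autoImplicit false
set_option linter.style.haveILetI false
set_option backward.isDefEq.respectTransparency.types false
set_option backward.isDefEq.respectTransparency false

universe u

open CategoryTheory CategoryTheory.Limits AlgebraicGeometry TopologicalSpace Opposite

noncomputable section

namespace Groth.L19.OmegaSh

open Groth.L18.Frame (rs ro rs_rs ro_ro rs_smul ro_self rs_self)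
open _root_.OmegaSh (Der idealSect diagNbhd diagDiff idealLift dOmega dSect fnSect)

variable {X Y : Scheme.{u}} {f : X ⟶ Y} {F : X.Modules}

theorem isAffineOpen_diagNbhd {U : X.affineOpens} (hU : Good f U) : IsAffineOpen (diagNbhd f U.1) := by
  obtain ⟨V, e⟩ := hU
  haveI : IsAffine U.1.toScheme := U.2
  haveI : IsAffine V.1.toScheme := V.2
  exact .of_isIso (Scheme.Hom.isPullback_resLE (IsPullback.of_hasPullback f f) e e rfl).isoPullback.hom

theorem isPushout_diagNbhd (U : X.affineOpens) (V : Y.affineOpens) (e : U.1 ≤ f ⁻¹ᵁ V.1) :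
    IsPushout (f.appLE V.1 U.1 e) (f.appLE V.1 U.1 e)
      ((pullback.fst f f).appLE U.1 (diagNbhd f U.1) inf_le_left)
      ((pullback.snd f f).appLE U.1 (diagNbhd f U.1) inf_le_right) :=
  (isIso_pushoutSection_iff (IsPullback.of_hasPullback f f) e e rfl).mp
    (isIso_pushoutSection_of_isAffineOpen (IsPullback.of_hasPullback f f) e e rfl V.2 U.2 U.2)

theorem closure_range_eq_top {R A B T : CommRingCat.{u}} {a : R ⟶ A} {b : R ⟶ B} {p : A ⟶ T} {q : B ⟶ T}
    (h : IsPushout a b p q) : Subring.closure (Set.range p ∪ Set.range q) = ⊤ := by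
  let S := Subring.closure (Set.range p ∪ Set.range q)
  let p' : A ⟶ CommRingCat.of S := CommRingCat.ofHom
    (p.hom.codRestrict S fun x => Subring.subset_closure (Or.inl ⟨x, rfl⟩))
  let q' : B ⟶ CommRingCat.of S := CommRingCat.ofHom
    (q.hom.codRestrict S fun x => Subring.subset_closure (Or.inr ⟨x, rfl⟩))
  let i : CommRingCat.of S ⟶ T := CommRingCat.ofHom S.subtype
  have hw : a ≫ p' = b ≫ q' := by
    ext x
    exact congr($(h.w) x)
  have hid : h.desc p' q' hw ≫ i = 𝟙 T := by
    refine h.hom_ext ?_ ?_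
    · rw [h.inl_desc_assoc, Category.comp_id]; rfl
    · rw [h.inr_desc_assoc, Category.comp_id]; rfl
  refine eq_top_iff.mpr fun t _ => ?_
  rw [← show i (h.desc p' q' hw t) = t from congr($hid t)]
  exact (h.desc p' q' hw t).2

theorem diagonal_appLE_proj (p : pullback f f ⟶ X) (hp : pullback.diagonal f ≫ p = 𝟙 X) (U : X.Opens)
    (e : diagNbhd f U ≤ p ⁻¹ᵁ U) (a : Γ(X, U)) :
    (pullback.diagonal f).appLE (diagNbhd f U) U (_root_.OmegaSh.le_preimage_diagNbhd f U)
      (p.appLE U (diagNbhd f U) e a) = a :=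
  _root_.OmegaSh.res_diagonal_app_appLE f p hp U e a

theorem diagonal_appLE_diagDiff (U : X.Opens) (a : Γ(X, U)) :
    (pullback.diagonal f).appLE (diagNbhd f U) U (_root_.OmegaSh.le_preimage_diagNbhd f U)
      (diagDiff f U a) = 0 := by
  rw [diagDiff, map_sub, diagonal_appLE_proj _ (pullback.diagonal_snd f),
    diagonal_appLE_proj _ (pullback.diagonal_fst f), sub_self]

theorem sub_mem_span_diagDiff {U : X.affineOpens} (hU : Good f U) (t : Γ(pullback f f, diagNbhd f U.1)) :
    t - (pullback.fst f f).appLE U.1 (diagNbhd f U.1) inf_le_left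
        ((pullback.diagonal f).appLE (diagNbhd f U.1) U.1 (_root_.OmegaSh.le_preimage_diagNbhd f U.1) t) ∈
      Ideal.span (Set.range (diagDiff f U.1)) := by
  obtain ⟨V, e⟩ := hU
  set p := (pullback.fst f f).appLE U.1 (diagNbhd f U.1) inf_le_left
  set q := (pullback.snd f f).appLE U.1 (diagNbhd f U.1) inf_le_right
  set δ := (pullback.diagonal f).appLE (diagNbhd f U.1) U.1 (_root_.OmegaSh.le_preimage_diagNbhd f U.1)
  have hp : ∀ a, δ (p a) = a := fun a => diagonal_appLE_proj _ (pullback.diagonal_fst f) U.1 inf_le_left a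
  have hq : ∀ a, δ (q a) = a := fun a => diagonal_appLE_proj _ (pullback.diagonal_snd f) U.1 inf_le_right a
  have ht : t ∈ Subring.closure (Set.range p ∪ Set.range q) := by
    rw [closure_range_eq_top (isPushout_diagNbhd U V e)]
    exact Subring.mem_top t
  refine Subring.closure_induction (p := fun t _ => t - p (δ t) ∈ Ideal.span (Set.range (diagDiff f U.1)))
    ?_ ?_ ?_ ?_ ?_ ?_ ht
  · rintro x (⟨a, rfl⟩ | ⟨a, rfl⟩)
    · rw [hp, sub_self]; exact zero_mem _
    · rw [hq]; exact Ideal.subset_span ⟨a, rfl⟩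
  · rw [map_zero, map_zero, sub_self]; exact zero_mem _
  · rw [map_one, map_one, sub_self]; exact zero_mem _
  · intro x y _ _ hx hy
    rw [show x + y - p (δ (x + y)) = (x - p (δ x)) + (y - p (δ y)) by rw [map_add, map_add]; ring]
    exact add_mem hx hy
  · intro x _ hx
    rw [show -x - p (δ (-x)) = -(x - p (δ x)) by rw [map_neg, map_neg]; ring]
    exact neg_mem hx
  · intro x y _ _ hx hy
    rw [show x * y - p (δ (x * y)) = y * (x - p (δ x)) + p (δ x) * (y - p (δ y)) by
      rw [map_mul, map_mul]; ring]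
    exact add_mem (Ideal.mul_mem_left _ _ hx) (Ideal.mul_mem_left _ _ hy)

variable [QuasiSeparated f]

/-- Two linear maps out of the ideal of the diagonal agreeing on the `idealLift`s agree. -/
theorem hom_ext_idealLift
    (β β' : ClSub.idealMod (pullback.diagonal f).ker ⟶ (Scheme.Modules.pushforward (pullback.diagonal f)).obj F)
    (h : ∀ (U : X.Opens) (a : Γ(X, U)),
      rs F (_root_.OmegaSh.le_preimage_diagNbhd f U) (β.app (diagNbhd f U) (idealLift f U a)) =
        rs F (_root_.OmegaSh.le_preimage_diagNbhd f U) (β'.app (diagNbhd f U) (idealLift f U a))) :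
    β = β' := by
  apply Scheme.Modules.hom_ext
  intro W
  ext s
  let K := (pullback.diagonal f).ker
  let N := ClSub.idealMod K
  refine eq_of_good (f := f) _ _ fun U p hUW => ?_
  let Wᵤ := diagNbhd f U.1
  have hW : IsAffineOpen Wᵤ := isAffineOpen_diagNbhd p
  have hex : ∀ x ∈ U.1, ∃ g : Γ(pullback f f, Wᵤ),
      pullback.diagonal f x ∈ (pullback f f).basicOpen g ∧ (pullback f f).basicOpen g ≤ W := by
    intro x hx
    obtain ⟨g, hg, hxg⟩ := hW.exists_basicOpen_le (V := W)
      ⟨pullback.diagonal f x, hUW hx⟩ (_root_.OmegaSh.le_preimage_diagNbhd f U.1 hx)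
    exact ⟨g, hxg, hg⟩
  have key : ∀ (g : Γ(pullback f f, Wᵤ)) (hgW : (pullback f f).basicOpen g ≤ W)
      (O : X.Opens) (hO : O ≤ pullback.diagonal f ⁻¹ᵁ (pullback f f).basicOpen g) (hOU : O ≤ U.1),
      rs F hO (β.app _ (rs N hgW s)) = rs F hO (β'.app _ (rs N hgW s)) := by
    intro g hgW O hO hOU
    let Dg := (pullback f f).basicOpen g
    have hle : Dg ≤ Wᵤ := (pullback f f).basicOpen_le g
    have hm : idealSect K Dg (rs N hgW s) ∈ K.ideal ⟨Dg, hW.basicOpen g⟩ := by
      rw [← Scheme.IdealSheafData.ker_subschemeι_app]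
      exact congr($(kernel.condition (ClSub.toSubscheme K)).app Dg (rs N hgW s))
    replace hm : idealSect K Dg (rs N hgW s) ∈
        Ideal.map ((pullback f f).presheaf.map (homOfLE hle).op).hom (K.ideal ⟨Wᵤ, hW⟩) := by
      rw [show (homOfLE hle).op = (homOfLE ((pullback f f).basicOpen_le g)).op from rfl]
      exact (K.map_ideal_basicOpen ⟨Wᵤ, hW⟩ g).symm ▸ hm
    haveI := hW.isLocalization_basicOpen g
    obtain ⟨⟨⟨j, hj⟩, ⟨_, n, rfl⟩⟩, hjn⟩ :=
      (IsLocalization.mem_map_algebraMap_iff (Submonoid.powers g) Γ(pullback f f, Dg)).mp hm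
    have hspan : j ∈ Ideal.span (Set.range (diagDiff f U.1)) := by
      have hjker : (pullback.diagonal f).appLE Wᵤ U.1 (_root_.OmegaSh.le_preimage_diagNbhd f U.1) j = 0 := by
        have hj' : (pullback.diagonal f).app Wᵤ j = 0 := by
          have := hj
          rwa [Scheme.Hom.ker_apply, RingHom.mem_ker] at this
        show ro _ ((pullback.diagonal f).app Wᵤ j) = 0
        rw [hj']
        exact map_zero _
      have := sub_mem_span_diagDiff p j
      rwa [hjker, map_zero, sub_zero] at this
    obtain ⟨k, hk, hkeq⟩ : ∃ k : Γ(N, Wᵤ), idealSect K Wᵤ k = j ∧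
        rs F (_root_.OmegaSh.le_preimage_diagNbhd f U.1) (β.app Wᵤ k) =
          rs F (_root_.OmegaSh.le_preimage_diagNbhd f U.1) (β'.app Wᵤ k) := by
      refine Submodule.span_induction (p := fun j _ => ∃ k : Γ(N, Wᵤ), idealSect K Wᵤ k = j ∧
        rs F (_root_.OmegaSh.le_preimage_diagNbhd f U.1) (β.app Wᵤ k) =
          rs F (_root_.OmegaSh.le_preimage_diagNbhd f U.1) (β'.app Wᵤ k)) ?_ ?_ ?_ ?_ hspan
      · rintro _ ⟨a, rfl⟩
        exact ⟨idealLift f U.1 a, congrArg (fnSect _ _) (_root_.OmegaSh.ι_idealLift f U.1 a), h U.1 a⟩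
      · exact ⟨0, map_zero _, by rw [map_zero, map_zero]⟩
      · rintro x y _ _ ⟨kx, hkx, ex⟩ ⟨ky, hky, ey⟩
        refine ⟨kx + ky, by rw [map_add, hkx, hky], ?_⟩
        simp only [map_add]
        exact congrArg₂ (· + ·) ex ey
      · rintro r x _ ⟨kx, hkx, ex⟩
        refine ⟨r • kx, ?_, ?_⟩
        · rw [← hkx]
          exact Scheme.Modules.Hom.app_smul (ClSub.idealModι K) r kx
        · rw [Scheme.Modules.Hom.app_smul, Scheme.Modules.Hom.app_smul]
          show rs F _ ((pullback.diagonal f).app Wᵤ r • (show Γ(F, _) from β.app Wᵤ kx)) =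
            rs F _ ((pullback.diagonal f).app Wᵤ r • (show Γ(F, _) from β'.app Wᵤ kx))
          rw [rs_smul, rs_smul]
          exact congrArg _ ex
    have hk' : ro hle (g ^ n) • rs N hgW s = rs N hle k := by
      apply _root_.OmegaSh.idealModι_app_injective
      show idealSect K Dg (ro hle (g ^ n) • rs N hgW s) = idealSect K Dg (rs N hle k)
      rw [idealSect_map K hle k, hk, show idealSect K Dg (ro hle (g ^ n) • rs N hgW s) =
        ro hle (g ^ n) * idealSect K Dg (rs N hgW s) from
        Scheme.Modules.Hom.app_smul (ClSub.idealModι K) _ _, mul_comm]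
      exact hjn
    have hres : ∀ b : N ⟶ (Scheme.Modules.pushforward (pullback.diagonal f)).obj F,
        ro hO ((pullback.diagonal f).app Dg (ro hle (g ^ n))) • rs F hO (b.app Dg (rs N hgW s)) =
          rs F hOU (rs F (_root_.OmegaSh.le_preimage_diagNbhd f U.1) (b.app Wᵤ k)) := by
      intro b
      have h1 : (pullback.diagonal f).app Dg (ro hle (g ^ n)) • (show Γ(F, pullback.diagonal f ⁻¹ᵁ Dg) from
          b.app Dg (rs N hgW s)) = rs F (Scheme.Hom.preimage_mono _ hle) (b.app Wᵤ k) := by
        have h2 := Scheme.Modules.Hom.app_smul b (ro hle (g ^ n)) (rs N hgW s)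
        rw [hk'] at h2
        refine Eq.trans ?_ (congr($((Scheme.Modules.Hom.mapPresheaf b).naturality (homOfLE hle).op) k))
        exact h2.symm
      have h3 := congrArg (rs F hO) h1
      rw [rs_smul, rs_rs] at h3
      rw [rs_rs]
      exact h3
    have hg : IsUnit (ro hle g : Γ(pullback f f, Dg)) := (pullback f f).toRingedSpace.isUnit_res_basicOpen g
    have hg' : IsUnit (ro hle (g ^ n) : Γ(pullback f f, Dg)) := by
      rw [show ro hle (g ^ n) = ro hle g ^ n from map_pow _ _ _]
      exact hg.pow n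
    have hu : IsUnit (ro hO ((pullback.diagonal f).app Dg (ro hle (g ^ n)))) :=
      (hg'.map ((pullback.diagonal f).app Dg).hom).map (X.presheaf.map (homOfLE hO).op).hom
    refine hu.smul_left_cancel.mp ?_
    exact (hres β).trans ((congrArg (rs F hOU) hkeq).trans (hres β').symm)
  let G : TopCat.Sheaf Ab X.toTopCat := ⟨F.presheaf, F.isSheaf⟩
  choose g hxg hgW using hex
  refine G.eq_of_locally_eq' (fun x : U.1 => U.1 ⊓ pullback.diagonal f ⁻¹ᵁ (pullback f f).basicOpen (g x.1 x.2))
    U.1 (fun x => homOfLE inf_le_left) (fun x hx => Opens.mem_iSup.mpr ⟨⟨x, hx⟩, hx, hxg x hx⟩) _ _ fun x => ?_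
  have hn : ∀ b : N ⟶ (Scheme.Modules.pushforward (pullback.diagonal f)).obj F,
      rs F inf_le_left (rs F hUW (b.app W s)) =
        rs F (inf_le_right : U.1 ⊓ _ ≤ _) (b.app _ (rs N (hgW x.1 x.2) s)) := by
    intro b
    refine Eq.trans ?_ (congrArg (rs F inf_le_right)
      (congr($((Scheme.Modules.Hom.mapPresheaf b).naturality (homOfLE (hgW x.1 x.2)).op) s)).symm)
    exact (rs_rs F _ _ _).trans (rs_rs F (Scheme.Hom.preimage_mono _ (hgW x.1 x.2)) _ _).symm
  show rs F inf_le_left (rs F hUW (β.app W s)) = rs F inf_le_left (rs F hUW (β'.app W s))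
  rw [hn β, hn β']
  exact key _ _ _ inf_le_right inf_le_left

/-- The adjoint of a map out of the sheaf of differentials, on `dSect`. -/
theorem app_dSect (β : ClSub.idealMod (pullback.diagonal f).ker ⟶
      (Scheme.Modules.pushforward (pullback.diagonal f)).obj F) (U : X.Opens) (a : Γ(X, U)) :
    (((Scheme.Modules.pullbackPushforwardAdjunction (pullback.diagonal f)).homEquiv _ _).symm β :
        Omega.sheaf f ⟶ F).app U (dSect f U a) =
      rs F (_root_.OmegaSh.le_preimage_diagNbhd f U) (β.app (diagNbhd f U) (idealLift f U a)) := by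
  let adj := Scheme.Modules.pullbackPushforwardAdjunction (pullback.diagonal f)
  let α := (adj.homEquiv (ClSub.idealMod (pullback.diagonal f).ker) F).symm β
  have hα : adj.unit.app _ ≫ (Scheme.Modules.pushforward (pullback.diagonal f)).map α = β := by
    exact (adj.homEquiv_unit _ _ α).symm.trans (Equiv.apply_symm_apply _ β)
  refine Eq.trans (congr($((Scheme.Modules.Hom.mapPresheaf α).naturality
    (homOfLE (_root_.OmegaSh.le_preimage_diagNbhd f U)).op)
    (_root_.OmegaSh.pullSect (pullback.diagonal f) (ClSub.idealMod (pullback.diagonal f).ker)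
      (diagNbhd f U) (idealLift f U a)))) ?_
  exact congrArg (rs F _) (congr($(hα).app (diagNbhd f U) (idealLift f U a)))

/-- `dOmega` is universal. -/
theorem isUniversal_dOmega : _root_.OmegaSh.IsUniversal (dOmega f) := by
  intro G D
  let adj := Scheme.Modules.pullbackPushforwardAdjunction (pullback.diagonal f)
  have hval : ∀ (U : X.Opens) (a : Γ(X, U)),
      rs G (_root_.OmegaSh.le_preimage_diagNbhd f U) (βFun D (diagNbhd f U) (idealLift f U a)) = D.app U a := by
    intro U a
    refine eq_of_good (f := f) _ _ fun U' p h => ?_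
    rw [rs_rs]
    exact βFun_idealLift D U a U' p h
  refine ⟨(adj.homEquiv _ _).symm (βHom D), ?_, ?_⟩
  · refine PresheafOfModules.Derivation.ext ?_
    ext U a
    exact (app_dSect (βHom D) U.unop a).trans (hval U.unop a)
  · intro α hα
    refine ((Equiv.symm_apply_apply (adj.homEquiv _ _) α).symm).trans (congrArg _ ?_)
    refine hom_ext_idealLift _ _ fun U a => ?_
    rw [βHom_app, hval, ← app_dSect, Equiv.symm_apply_apply]
    exact congrArg (fun E : Der f G => E.app U a) hα

end Groth.L19.OmegaSh
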