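import Groth.Agent.L19.OmegaSh.Universal
import Mathlib.AlgebraicGeometry.Modules.Tilde
import Mathlib.RingTheory.Kaehler.Basic

/-!
# Derivations on affine schemes, restriction of universal derivations, and the chart `tilde Ω[A⁄R]`
-/

set_option autoImplicit false
set_option linter.style.haveILetI false
set_option backward.isDefEq.respectTransparency.types false
set_option backward.isDefEq.respectTransparency false

universe u

open CategoryTheory CategoryTheory.Limits AlgebraicGeometry TopologicalSpace Opposite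

noncomputable section

namespace Groth.L19.OmegaSh

open Groth.L18.Frame (rs ro rs_rs ro_ro rs_smul ro_self rs_self)
open _root_.OmegaSh (Der IsUniversal)

variable {X Y : Scheme.{u}}

section Affine

variable [IsAffine X] (G : X.Modules) (δ : Γ(X, ⊤) →+ Γ(G, ⊤))
  (hδ : ∀ a b : Γ(X, ⊤), δ (a * b) = a • δ b + b • δ a)

/-- `a ↦ (a|U, (δ a)|U)`. -/
def resHom (U : X.Opens) : Γ(X, ⊤) ⟶ L G U :=
  liftHom G (X.presheaf.map (homOfLE le_top).op)
    (((G.presheaf.map (homOfLE (le_top : U ≤ ⊤)).op).hom).comp δ) fun a b => by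
      show rs G le_top (δ (a * b)) = ro le_top a • rs G le_top (δ b) + ro le_top b • rs G le_top (δ a)
      rw [hδ, ← rs_smul, ← rs_smul]
      exact map_add _ _ _

theorem resHom_prL (U : X.Opens) : resHom G δ hδ U ≫ prL G U = X.presheaf.map (homOfLE le_top).op := by
  ext a; exact fst_mk G _ _

theorem resHom_resL {U U' : X.Opens} (h : U' ≤ U) : resHom G δ hδ U ≫ resL G h = resHom G δ hδ U' := by
  ext a
  refine ext G ?_ ?_
  · simp only [resHom, CommRingCat.hom_comp, RingHom.comp_apply]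
    rw [fst_resL]
    exact (congrArg (ro h) (fst_mk G _ _)).trans ((ro_ro _ _ _).trans (fst_mk G _ _).symm)
  · simp only [resHom, CommRingCat.hom_comp, RingHom.comp_apply]
    rw [snd_resL]
    exact (congrArg (rs G h) (snd_mk G _ _)).trans ((rs_rs G _ _ _).trans (snd_mk G _ _).symm)

/-- The `U ⋉ G`-valued point of `X` defined by `δ`. -/
def rPt (U : X.Opens) : Spec (L G U) ⟶ X :=
  Spec.map (resHom G δ hδ U) ≫ (isAffineOpen_top X).fromSpec

theorem prL_rPt (U : X.affineOpens) :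
    Spec.map (prL G U.1) ≫ rPt G δ hδ U.1 = U.2.fromSpec ≫ 𝟙 X := by
  rw [rPt, ← Spec.map_comp_assoc, resHom_prL, IsAffineOpen.map_fromSpec _ U.2, Category.comp_id]

theorem top_le_rPt (U : X.affineOpens) {Z : X.Opens} (h : U.1 ≤ Z) : ⊤ ≤ rPt G δ hδ U.1 ⁻¹ᵁ Z := by
  refine le_preimage_of_range G _ Z fun z _ => ?_
  rw [prL_rPt, Category.comp_id]
  exact h (U.2.range_fromSpec.le ⟨z, rfl⟩)

theorem resL_rPt {U U' : X.Opens} (h : U' ≤ U) :
    Spec.map (resL G h) ≫ rPt G δ hδ U = rPt G δ hδ U' := by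
  rw [rPt, rPt, ← Spec.map_comp_assoc, resHom_resL]

theorem existsUnique_ext (Z : X.Opens) (a : Γ(X, Z)) :
    ∃! t : Γ(G, Z), ∀ (U : X.affineOpens) (_ : True) (h : U.1 ≤ Z),
      rs G h t = μ G (rPt G δ hδ U.1) Z (top_le_rPt G δ hδ U h) a :=
  existsUnique_glue G (fun _ => True)
    (fun x O hx => by
      obtain ⟨_, ⟨W, hW, rfl⟩, hxW, hWO⟩ := X.isBasis_affineOpens.exists_subset_of_mem_open hx O.2
      exact ⟨⟨W, hW⟩, trivial, hxW, hWO⟩)
    Z (fun U _ h => μ G (rPt G δ hδ U.1) Z (top_le_rPt G δ hδ U h) a)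
    fun U U' _ _ hZ hZ' h => by
      rw [← μ_res G h (rPt G δ hδ U.1) (rPt G δ hδ U'.1) (resL_rPt G δ hδ h) le_rfl (top_le_rPt G δ hδ U hZ)
        (top_le_rPt G δ hδ U' hZ'), ro_self]

/-- The extension of `δ` to all opens. -/
def extFun (Z : X.Opens) (a : Γ(X, Z)) : Γ(G, Z) := (existsUnique_ext G δ hδ Z a).choose

theorem extFun_spec (Z : X.Opens) (a : Γ(X, Z)) (U : X.affineOpens) (h : U.1 ≤ Z) :
    rs G h (extFun G δ hδ Z a) = μ G (rPt G δ hδ U.1) Z (top_le_rPt G δ hδ U h) a :=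
  (existsUnique_ext G δ hδ Z a).choose_spec.1 U trivial h

theorem eq_of_affine {Z : X.Opens} (s t : Γ(G, Z))
    (h : ∀ (U : X.affineOpens) (hU : U.1 ≤ Z), rs G hU s = rs G hU t) : s = t :=
  eq_of_good (f := 𝟙 X) s t fun U _ hU => h U hU

theorem id_appLE {Z U : X.Opens} (h : U ≤ Z) (a : Γ(X, Z)) :
    (𝟙 X : X ⟶ X).appLE Z U h a = ro h a := by
  rw [_root_.OmegaSh.id_appLE_eq rfl h h]

/-- The derivation extending `δ`. -/
def derOfAlg {Y₀ : Scheme.{u}} [IsAffine Y₀] (g : X ⟶ Y₀) (k : Y₀ ⟶ Y) (f : X ⟶ Y) (hf : g ≫ k = f)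
    (hg : ∀ c : Γ(Y₀, ⊤), δ (g.appTop c) = 0) : Der f G where
  d {Z} := AddMonoidHom.mk' (fun a => extFun G δ hδ Z.unop a) fun a b => eq_of_affine G _ _ fun U h => by
    rw [extFun_spec, μ_add]
    refine Eq.trans ?_ (map_add _ _ _).symm
    rw [← extFun_spec G δ hδ Z.unop a U h, ← extFun_spec G δ hδ Z.unop b U h]
  d_mul {Z} (a b : Γ(X, Z.unop)) := eq_of_affine G _ _ fun U h => by
    show rs G h (extFun G δ hδ Z.unop (a * b)) =
      rs G h ((a • extFun G δ hδ Z.unop b : Γ(G, Z.unop)) + b • extFun G δ hδ Z.unop a)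
    rw [extFun_spec, μ_mul G U.2 _ (𝟙 X) (prL_rPt G δ hδ U) _ _ h, id_appLE, id_appLE]
    refine Eq.trans ?_ (map_add _ _ _).symm
    show _ = rs G h (a • extFun G δ hδ Z.unop b : Γ(G, Z.unop)) + rs G h (b • extFun G δ hδ Z.unop a : Γ(G, Z.unop))
    rw [rs_smul, rs_smul, extFun_spec, extFun_spec]
  d_map {Z Z'} i a := eq_of_affine G _ _ fun U h => by
    show rs G h (extFun G δ hδ Z'.unop (ro i.unop.le a)) = rs G h (rs G i.unop.le (extFun G δ hδ Z.unop a))
    rw [rs_rs, extFun_spec, extFun_spec, μ_res G le_rfl (rPt G δ hδ U.1) (rPt G δ hδ U.1) (resL_rPt G δ hδ le_rfl)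
      i.unop.le (top_le_rPt G δ hδ U (h.trans i.unop.le)), rs_self]
  d_app {V} c := eq_of_affine G _ _ fun U h => by
    show rs G h (extFun G δ hδ (f ⁻¹ᵁ V.unop) (f.app V.unop c)) = rs G h 0
    have hle : (X.presheaf.map (homOfLE (le_top : U.1 ≤ ⊤)).op) ≫ inlL G U.1 = resHom G 0 (by simp) U.1 := by
      ext a
      refine ext G ((fst_mk G _ _).trans (fst_mk G _ _).symm) ?_
      refine (snd_mk G _ _).trans (Eq.trans ?_ (snd_mk G _ _).symm)
      show (0 : Γ(G, U.1)) = rs G le_top 0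
      exact (map_zero _).symm
    have hr : rPt G δ hδ U.1 ≫ f = (Spec.map (inlL G U.1) ≫ U.2.fromSpec) ≫ f := by
      subst hf
      rw [← Category.assoc, ← Category.assoc]
      congr 1
      refine ext_of_isAffine ?_
      simp only [rPt, ← IsAffineOpen.map_fromSpec (isAffineOpen_top X) U.2 (homOfLE le_top).op,
        Scheme.Hom.comp_appTop, Category.assoc]
      have hk : g.appTop ≫ (isAffineOpen_top X).fromSpec.appTop =
          g.appTop ≫ (Scheme.ΓSpecIso Γ(X, ⊤)).inv := by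
        congr 1
        rw [Scheme.Hom.appTop, (isAffineOpen_top X).fromSpec_app_self]
        exact (congrArg ((Scheme.ΓSpecIso Γ(X, ⊤)).inv ≫ ·) ((Spec Γ(X, ⊤)).presheaf.map_id _)).trans
          (Category.comp_id _)
      rw [reassoc_of% hk, reassoc_of% hk, ← Scheme.ΓSpecIso_inv_naturality,
        ← Scheme.ΓSpecIso_inv_naturality_assoc, ← Scheme.ΓSpecIso_inv_naturality]
      simp only [← Category.assoc]
      congr 1
      ext b
      refine ext G ?_ ?_
      · refine (fst_mk G _ _).trans ?_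
        exact (congrArg (fst' G) (congr($hle (g.appTop b))) |>.trans (fst_mk G _ _)).symm
      · refine (snd_mk G _ _).trans ?_
        refine Eq.trans ?_ ((congrArg (snd' G) (congr($hle (g.appTop b)))).trans (snd_mk G _ _)).symm
        show rs G le_top (δ (g.appTop b)) = rs G le_top 0
        rw [hg]
    refine (extFun_spec G δ hδ _ _ U h).trans ?_
    refine Eq.trans ?_ (map_zero _).symm
    have e : ⊤ ≤ (rPt G δ hδ U.1 ≫ f) ⁻¹ᵁ V.unop := top_le_rPt G δ hδ U h
    have e' : ⊤ ≤ ((Spec.map (inlL G U.1) ≫ U.2.fromSpec) ≫ f) ⁻¹ᵁ V.unop := hr ▸ e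
    have h1 := μ_comp G (rPt G δ hδ U.1) f (W := f ⁻¹ᵁ V.unop) (top_le_rPt G δ hδ U h) le_rfl e c
    rw [← Scheme.Hom.app_eq_appLE] at h1
    rw [← h1]
    refine (congrArg (snd' G) (congr($(τ_congr G hr V.unop e e') c))).trans ?_
    have e'' : ⊤ ≤ (Spec.map (inlL G U.1) ≫ U.2.fromSpec) ⁻¹ᵁ (f ⁻¹ᵁ V.unop) := e'
    refine (μ_comp G _ f (W := f ⁻¹ᵁ V.unop) e'' le_rfl e' c).trans ?_
    rw [μ_specMap U.2 _ _ h]
    exact snd_mk G _ _

theorem derOfAlg_top {Y₀ : Scheme.{u}} [IsAffine Y₀] (g : X ⟶ Y₀) (k : Y₀ ⟶ Y) (f : X ⟶ Y) (hf : g ≫ k = f)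
    (hg : ∀ c : Γ(Y₀, ⊤), δ (g.appTop c) = 0) (a : Γ(X, ⊤)) :
    (derOfAlg G δ hδ g k f hf hg).app ⊤ a = δ a := by
  refine eq_of_affine G _ _ fun U h => ?_
  refine (extFun_spec G δ hδ ⊤ a U h).trans ?_
  rw [show rPt G δ hδ U.1 = Spec.map (resHom G δ hδ U.1) ≫ (isAffineOpen_top X).fromSpec from rfl]
  have e2 : (⊤ : (Spec Γ(X, ⊤)).Opens) ≤ (isAffineOpen_top X).fromSpec ⁻¹ᵁ ⊤ := fun _ _ => trivial
  have h1 : (isAffineOpen_top X).fromSpec.appLE ⊤ ⊤ e2 = (Scheme.ΓSpecIso Γ(X, ⊤)).inv := by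
    rw [Scheme.Hom.appLE, (isAffineOpen_top X).fromSpec_app_self, Category.assoc, ← Functor.map_comp]
    exact (congrArg ((Scheme.ΓSpecIso Γ(X, ⊤)).inv ≫ ·) ((Spec Γ(X, ⊤)).presheaf.map_id _)).trans
      (Category.comp_id _)
  rw [μ, τ, ← Scheme.Hom.appLE_comp_appLE (Spec.map (resHom G δ hδ U.1)) _ ⊤ ⊤ ⊤ e2 le_top, h1]
  have h2 : (Scheme.ΓSpecIso Γ(X, ⊤)).inv ≫ (Spec.map (resHom G δ hδ U.1)).appLE ⊤ ⊤ le_top ≫
      (Scheme.ΓSpecIso (L G U.1)).hom = resHom G δ hδ U.1 := by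
    rw [show (Spec.map (resHom G δ hδ U.1)).appLE ⊤ ⊤ le_top = (Spec.map (resHom G δ hδ U.1)).appTop from
      (Scheme.Hom.app_eq_appLE _).symm, Scheme.ΓSpecIso_naturality, Iso.inv_hom_id_assoc]
  simp only [Category.assoc, h2]
  exact snd_mk G _ _

/-- Derivations on an affine scheme are determined by their values on global functions. -/
theorem der_ext {f : X ⟶ Y} (D D' : Der f G) (h : ∀ a : Γ(X, ⊤), D.app ⊤ a = D'.app ⊤ a) : D = D' := by
  refine PresheafOfModules.Derivation.ext ?_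
  ext Z a
  refine eq_of_good (f := f) _ _ fun U _ hU => ?_
  show rs G hU (D.app Z.unop a) = rs G hU (D'.app Z.unop a)
  rw [← der_map, ← der_map]
  have hD : dHom D U.1 = dHom D' U.1 := by
    have hm : ∀ (E : Der f G), X.presheaf.map (homOfLE (le_top : U.1 ≤ ⊤)).op ≫ dHom E U.1 =
        resHom G (E.app ⊤) (fun a b => der_mul E a b) U.1 := by
      intro E
      ext b
      refine ext G ((fst_mk G _ _).trans (fst_mk G _ _).symm) ?_
      exact (snd_mk G _ _).trans ((der_map E le_top b).trans (snd_mk G _ _).symm)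
    apply Spec.map_injective
    rw [← cancel_mono U.2.fromSpec, ← IsAffineOpen.map_fromSpec (isAffineOpen_top X) U.2 (homOfLE le_top).op,
      ← Spec.map_comp_assoc, ← Spec.map_comp_assoc, hm, hm]
    congr 2
    ext b
    refine ext G ((fst_mk G _ _).trans (fst_mk G _ _).symm) ?_
    exact (snd_mk G _ _).trans ((congrArg (rs G le_top) (h b)).trans (snd_mk G _ _).symm)
  exact (snd_mk G _ _).symm.trans ((congrArg (fun φ => snd' G (φ (ro hU a))) hD).trans (snd_mk G _ _))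

end Affine

/-- For an open immersion into the base, derivations kill the functions of the smaller base. -/
theorem der_appTop {Y₀ : Scheme.{u}} (g : X ⟶ Y₀) (k : Y₀ ⟶ Y) [IsOpenImmersion k] {f : X ⟶ Y}
    (hf : g ≫ k = f) {G : X.Modules} (D : Der f G) (c : Γ(Y₀, ⊤)) : D.app ⊤ (g.appTop c) = 0 := by
  subst hf
  have e : (⊤ : X.Opens) ≤ (g ≫ k) ⁻¹ᵁ k.opensRange := fun x _ => ⟨g x, rfl⟩
  haveI : IsIso (k.appLE k.opensRange ⊤ fun y _ => ⟨y, rfl⟩) := by
    haveI : IsIso (k.app k.opensRange) := k.isIso_app _ le_rfl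
    rw [Scheme.Hom.appLE]
    haveI : IsIso (homOfLE (show (⊤ : Y₀.Opens) ≤ k ⁻¹ᵁ k.opensRange from fun y _ => ⟨y, rfl⟩)) :=
      ⟨homOfLE le_top, rfl, rfl⟩
    infer_instance
  obtain ⟨c', rfl⟩ : ∃ c', k.appLE k.opensRange ⊤ (fun y _ => ⟨y, rfl⟩) c' = c :=
    (ConcreteCategory.bijective_of_isIso (k.appLE k.opensRange ⊤ fun y _ => ⟨y, rfl⟩)).2 c
  have h : g.appTop (k.appLE k.opensRange ⊤ (fun y _ => ⟨y, rfl⟩) c') = (g ≫ k).appLE k.opensRange ⊤ e c' := by
    rw [Scheme.Hom.appTop, Scheme.Hom.app_eq_appLE, ← CommRingCat.comp_apply, Scheme.Hom.appLE_comp_appLE]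
    rfl
  rw [h]
  exact der_appLE D e c'

section Restrict

variable {f : X ⟶ Y} {X' : Scheme.{u}} (j : X' ⟶ X) [IsOpenImmersion j]

/-- Push a derivation forward. -/
def pushDer {G : X'.Modules} (D : Der (j ≫ f) G) : Der f ((Scheme.Modules.pushforward j).obj G) where
  d {U} := (D.app (j ⁻¹ᵁ U.unop)).comp (j.app U.unop).hom.toAddMonoidHom
  d_mul {U} a b := by
    show D.app (j ⁻¹ᵁ U.unop) (j.app U.unop (a * b)) = _
    rw [map_mul, der_mul]
    rfl
  d_map {U V} i a := by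
    show D.app (j ⁻¹ᵁ V.unop) (j.app V.unop (ro i.unop.le a)) =
      rs G (Scheme.Hom.preimage_mono _ i.unop.le) (D.app (j ⁻¹ᵁ U.unop) (j.app U.unop a))
    rw [← der_map]
    exact congrArg _ (congr($(j.naturality (homOfLE i.unop.le).op) a))
  d_app {V} c := by
    show D.app (j ⁻¹ᵁ (f ⁻¹ᵁ V.unop)) (j.app (f ⁻¹ᵁ V.unop) (f.app V.unop c)) = 0
    exact D.d_app (X := op V.unop) c

/-- Restrict a derivation. -/
def resDer {Ω : X.Modules} (d : Der f Ω) : Der (j ≫ f) (Ω.restrict j) where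
  d {U} := (d.app (j ''ᵁ U.unop)).comp (j.appIso U.unop).inv.hom.toAddMonoidHom
  d_mul {U} a b := by
    show d.app (j ''ᵁ U.unop) ((j.appIso U.unop).inv (a * b)) = _
    rw [map_mul, der_mul]
    rfl
  d_map {U V} i a := by
    show d.app (j ''ᵁ V.unop) ((j.appIso V.unop).inv (X'.presheaf.map i a)) =
      rs Ω (j.image_mono i.unop.le) (d.app (j ''ᵁ U.unop) ((j.appIso U.unop).inv a))
    rw [← der_map]
    exact congrArg _ (congr($(j.appIso_inv_naturality (U := U.unop) (V := V.unop) i) a))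
  d_app {V} c := by
    show d.app (j ''ᵁ (j ⁻¹ᵁ (f ⁻¹ᵁ V.unop))) ((j.appIso (j ⁻¹ᵁ (f ⁻¹ᵁ V.unop))).inv ((j ≫ f).app V.unop c)) = 0
    have : (j.appIso (j ⁻¹ᵁ (f ⁻¹ᵁ V.unop))).inv ((j ≫ f).app V.unop c) =
        f.appLE V.unop (j ''ᵁ (j ⁻¹ᵁ (f ⁻¹ᵁ V.unop))) (j.image_preimage_le _) c :=
      congr($(Scheme.Hom.app_appIso_inv j (f ⁻¹ᵁ V.unop)) (f.app V.unop c))
    rw [this]
    exact der_appLE d _ c

/-- The restriction of a universal derivation to an open is universal. -/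
theorem isUniversal_resDer {Ω : X.Modules} {d : Der f Ω} (hd : IsUniversal d) :
    IsUniversal (resDer j d) := by
  intro G D
  let adj := Scheme.Modules.restrictAdjunction j
  obtain ⟨β, hβ, huniq⟩ := hd _ (pushDer j D)
  have happ : ∀ (α : Ω.restrict j ⟶ G) (U : X.Opens) (a : Γ(X, U)),
      (adj.homEquiv Ω G α).app U (d.app U a) = α.app (j ⁻¹ᵁ U) ((resDer j d).app (j ⁻¹ᵁ U) (j.app U a)) := by
    intro α U a
    rw [Adjunction.homEquiv_unit]
    show α.app (j ⁻¹ᵁ U) (rs Ω (j.image_preimage_le U) (d.app U a)) = _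
    rw [← der_map]
    refine congrArg (α.app (j ⁻¹ᵁ U)) (congrArg (d.app _) ?_)
    show _ = (j.appIso (j ⁻¹ᵁ U)).inv (j.app U a)
    rw [← CommRingCat.comp_apply, Scheme.Hom.app_appIso_inv]
    rfl
  refine ⟨(adj.homEquiv Ω G).symm β, ?_, fun α hα => ?_⟩
  · refine PresheafOfModules.Derivation.ext ?_
    ext U' a
    have h1 := happ ((adj.homEquiv Ω G).symm β) (j ''ᵁ U'.unop) ((j.appIso U'.unop).inv a)
    have h2 := congrArg (fun E : Der f _ => E.app (j ''ᵁ U'.unop) ((j.appIso U'.unop).inv a)) hβ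
    rw [Equiv.apply_symm_apply] at h1
    have h3 : D.app (j ⁻¹ᵁ (j ''ᵁ U'.unop)) (j.app (j ''ᵁ U'.unop) ((j.appIso U'.unop).inv a)) =
        ((adj.homEquiv Ω G).symm β).app (j ⁻¹ᵁ (j ''ᵁ U'.unop))
          ((resDer j d).app (j ⁻¹ᵁ (j ''ᵁ U'.unop)) (j.app (j ''ᵁ U'.unop) ((j.appIso U'.unop).inv a))) :=
      h2.symm.trans h1
    have hle : U'.unop ≤ j ⁻¹ᵁ (j ''ᵁ U'.unop) := (j.preimage_image_eq _).ge
    have hja : ro hle (j.app (j ''ᵁ U'.unop) ((j.appIso U'.unop).inv a)) = a := by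
      rw [← CommRingCat.comp_apply, Scheme.Hom.appIso_inv_app]
      exact (ro_ro _ _ _).trans (ro_self _ _)
    refine Eq.symm ?_
    show D.app U'.unop a = ((adj.homEquiv Ω G).symm β).app U'.unop ((resDer j d).app U'.unop a)
    rw [← hja, der_map, der_map, h3]
    exact congr($((Scheme.Modules.Hom.mapPresheaf ((adj.homEquiv Ω G).symm β)).naturality (homOfLE hle).op) _).symm
  · refine (Equiv.symm_apply_apply (adj.homEquiv Ω G) α).symm.trans (congrArg _ (huniq _ ?_))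
    refine PresheafOfModules.Derivation.ext ?_
    ext U a
    refine (happ α U.unop a).trans ?_
    exact congrArg (fun E : Der (j ≫ f) G => E.app (j ⁻¹ᵁ U.unop) (j.app U.unop a)) hα

end Restrict

/-- Universal receptacles are unique. -/
theorem exists_iso_of_isUniversal {f : X ⟶ Y} {Ω Ω' : X.Modules} {d : Der f Ω} {d' : Der f Ω'}
    (hd : IsUniversal d) (hd' : IsUniversal d') : ∃ e : Ω ≅ Ω', d.postcomp e.hom.val = d' := by
  obtain ⟨a, ha, -⟩ := hd Ω' d'
  obtain ⟨b, hb, -⟩ := hd' Ω d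
  have hab : a ≫ b = 𝟙 Ω := by
    obtain ⟨w, -, hw⟩ := hd Ω d
    refine (hw _ ?_).trans (hw _ ?_).symm
    · refine PresheafOfModules.Derivation.ext ?_
      ext U s
      show b.app U.unop (a.app U.unop (d.app U.unop s)) = d.app U.unop s
      exact (congrArg (b.app U.unop) (congrArg (fun E : Der f Ω' => E.app U.unop s) ha)).trans
        (congrArg (fun E : Der f Ω => E.app U.unop s) hb)
    · refine PresheafOfModules.Derivation.ext ?_
      ext U s
      rfl
  have hba : b ≫ a = 𝟙 Ω' := by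
    obtain ⟨w, -, hw⟩ := hd' Ω' d'
    refine (hw _ ?_).trans (hw _ ?_).symm
    · refine PresheafOfModules.Derivation.ext ?_
      ext U s
      show a.app U.unop (b.app U.unop (d'.app U.unop s)) = d'.app U.unop s
      exact (congrArg (a.app U.unop) (congrArg (fun E : Der f Ω => E.app U.unop s) hb)).trans
        (congrArg (fun E : Der f Ω' => E.app U.unop s) ha)
    · refine PresheafOfModules.Derivation.ext ?_
      ext U s
      rfl
  exact ⟨⟨a, b, hab, hba⟩, ha⟩

section Spec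

variable {R A : CommRingCat.{u}} (φ : R ⟶ A) (k : Spec R ⟶ Y) [IsOpenImmersion k]

theorem isUniversal_of_algebraic {f : Spec A ⟶ Y} (hf : Spec.map φ ≫ k = f) (M : ModuleCat.{u} A)
    (D : Der f (tilde M))
    (h : ∀ (N : ModuleCat.{u} A) (δ : A →+ N), (∀ a b, δ (a * b) = a • δ b + b • δ a) → (∀ c, δ (φ c) = 0) →
      ∃! ψ : M ⟶ N, ∀ a : A, δ a = ψ ((tilde.isoTop M).inv
        (D.app ⊤ ((Scheme.ΓSpecIso A).inv a)))) :
    IsUniversal D := by
  intro G E
  let N := moduleSpecΓFunctor.obj G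
  let δ : A →+ N := AddMonoidHom.comp (E.app ⊤) (Scheme.ΓSpecIso A).inv.hom.toAddMonoidHom
  have hsmul : ∀ (a : A) (n : N), a • n = ((Scheme.ΓSpecIso A).inv a • (show Γ(G, ⊤) from n) : Γ(G, ⊤)) := by
    intro a n
    refine (Scheme.Modules.smul_Spec_def a _).trans ?_
    exact congrArg (· • (show Γ(G, ⊤) from n)) (ro_self _ _)
  obtain ⟨ψ, hψ, hψu⟩ := h N δ
    (fun a b => by
      show E.app ⊤ ((Scheme.ΓSpecIso A).inv (a * b)) = _
      rw [map_mul, der_mul, hsmul, hsmul]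
      rfl)
    (fun c => by
      show E.app ⊤ ((Scheme.ΓSpecIso A).inv (φ c)) = 0
      rw [show (Scheme.ΓSpecIso A).inv (φ c) = (Spec.map φ).appTop ((Scheme.ΓSpecIso R).inv c) from
        congr($(Scheme.ΓSpecIso_inv_naturality φ) c)]
      exact der_appTop (Spec.map φ) k hf E _)
  let eqv := (tilde.adjunction (R := A)).homEquiv M G
  have happ : ∀ (α : tilde M ⟶ G) (m : M),
      (α.app ⊤ ((tilde.toOpen M ⊤) m) : Γ(G, ⊤)) = eqv α m := fun α m => rfl
  have htop : ∀ (α : tilde M ⟶ G) (a : A),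
      α.app ⊤ (D.app ⊤ ((Scheme.ΓSpecIso A).inv a)) =
        eqv α ((tilde.isoTop M).inv (D.app ⊤ ((Scheme.ΓSpecIso A).inv a))) := by
    intro α a
    rw [← happ]
    exact congrArg (α.app ⊤) (congr($((tilde.isoTop M).inv_hom_id) _)).symm
  have key : ∀ α : tilde M ⟶ G, D.postcomp α.val = E ↔ eqv α = ψ := by
    intro α
    constructor
    · intro hα
      refine hψu _ fun a => ?_
      rw [← htop]
      exact congrArg (fun Q : Der f G => Q.app ⊤ ((Scheme.ΓSpecIso A).inv a)) hα.symm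
    · intro hα
      refine der_ext G _ _ fun b => ?_
      obtain ⟨a, rfl⟩ := (ConcreteCategory.bijective_of_isIso (Scheme.ΓSpecIso A).inv).2 b
      show α.app ⊤ (D.app ⊤ ((Scheme.ΓSpecIso A).inv a)) = E.app ⊤ ((Scheme.ΓSpecIso A).inv a)
      rw [htop, hα]
      exact (hψ a).symm
  exact ⟨eqv.symm ψ, (key _).mpr (eqv.apply_symm_apply ψ), fun α hα =>
    (eqv.symm_apply_apply α).symm.trans (congrArg _ ((key α).mp hα))⟩

/-- The universal derivation into `tilde Ω[A⁄R]`. -/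
theorem exists_universal_tilde {R A : Type u} [CommRing R] [CommRing A] [Algebra R A]
    (k : Spec (CommRingCat.of R) ⟶ Y) [IsOpenImmersion k] (f : Spec (CommRingCat.of A) ⟶ Y)
    (hf : Spec.map (CommRingCat.ofHom (algebraMap R A)) ≫ k = f) :
    ∃ D : Der f (tilde (R := CommRingCat.of A) (ModuleCat.of A Ω[A⁄R])), IsUniversal D ∧
      ∀ a : A, D.app ⊤ ((Scheme.ΓSpecIso (CommRingCat.of A)).inv a) =
        tilde.toOpen (R := CommRingCat.of A) (ModuleCat.of A Ω[A⁄R]) ⊤ (KaehlerDifferential.D R A a) := by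
  let M : ModuleCat.{u} (CommRingCat.of A) := ModuleCat.of A Ω[A⁄R]
  let γ := Scheme.ΓSpecIso (CommRingCat.of A)
  let δ : Γ(Spec (CommRingCat.of A), ⊤) →+ Γ(tilde M, ⊤) :=
    AddMonoidHom.comp (tilde.toOpen M ⊤).hom.toAddMonoidHom
      (AddMonoidHom.comp (KaehlerDifferential.D R A).toLinearMap.toAddMonoidHom γ.hom.hom.toAddMonoidHom)
  have hδ : ∀ a b, δ (a * b) = a • δ b + b • δ a := by
    intro a b
    show (tilde.toOpen M ⊤).hom (KaehlerDifferential.D R A (γ.hom (a * b))) = _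
    rw [map_mul, Derivation.leibniz]
    refine (map_add (tilde.toOpen M ⊤).hom _ _).trans ?_
    have hs : ∀ (x : Γ(Spec (CommRingCat.of A), ⊤)) (w : M),
        (show Γ(tilde M, ⊤) from (tilde.toOpen M ⊤).hom (γ.hom x • w)) =
          x • (show Γ(tilde M, ⊤) from (tilde.toOpen M ⊤).hom w) := by
      intro x w
      refine ((tilde.toOpen M ⊤).hom.map_smul _ _).trans ?_
      refine (Scheme.Modules.smul_Spec_def (γ.hom x) _).trans ?_
      exact congrArg (fun y : Γ(Spec (CommRingCat.of A), ⊤) =>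
          y • (show Γ(tilde M, ⊤) from (tilde.toOpen M ⊤).hom w))
        ((ro_self _ _).trans (congr($(γ.hom_inv_id) x)))
    exact congrArg₂ (· + ·) (hs a _) (hs b _)
  let D := derOfAlg (tilde M) δ hδ (Spec.map (CommRingCat.ofHom (algebraMap R A))) k f hf (fun c => by
    show (tilde.toOpen M ⊤).hom (KaehlerDifferential.D R A (γ.hom _)) = 0
    rw [show γ.hom ((Spec.map (CommRingCat.ofHom (algebraMap R A))).appTop c) =
      algebraMap R A ((Scheme.ΓSpecIso (CommRingCat.of R)).hom c) from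
      congr($(Scheme.ΓSpecIso_naturality (CommRingCat.ofHom (algebraMap R A))) c),
      Derivation.map_algebraMap]
    exact map_zero _)
  have hD : ∀ a : A, D.app ⊤ (γ.inv a) = tilde.toOpen M ⊤ (KaehlerDifferential.D R A a) := by
    intro a
    refine (derOfAlg_top (tilde M) δ hδ _ _ _ _ _ _).trans ?_
    show (tilde.toOpen M ⊤).hom (KaehlerDifferential.D R A (γ.hom (γ.inv a))) = _
    rw [← CommRingCat.comp_apply, γ.inv_hom_id]
    rfl
  refine ⟨D, isUniversal_of_algebraic (CommRingCat.ofHom (algebraMap R A)) k hf M D ?_, hD⟩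
  intro N δ' hmul hker
  have hM : ∀ a : A, (tilde.isoTop M).inv (D.app ⊤ (γ.inv a)) = KaehlerDifferential.D R A a := by
    intro a
    rw [hD]
    exact congr($((tilde.isoTop M).hom_inv_id) (KaehlerDifferential.D R A a))
  letI : Module A N := inferInstanceAs (Module (CommRingCat.of A) N)
  letI : Module R N := Module.compHom N (algebraMap R A)
  haveI : IsScalarTower R A N := IsScalarTower.of_compHom R A N
  let δR : A →ₗ[R] N :=
    { toFun := δ'
      map_add' := map_add δ'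
      map_smul' := fun c a => by
        rw [Algebra.smul_def, hmul, show δ' (algebraMap R A c) = 0 from hker c, smul_zero, add_zero]
        rfl }
  let E : Derivation R A N := Derivation.mk' δR hmul
  refine ⟨ModuleCat.ofHom E.liftKaehlerDifferential, fun a => ?_, fun ψ hψ => ?_⟩
  · show δ' a = E.liftKaehlerDifferential ((tilde.isoTop M).inv (D.app ⊤ (γ.inv a)))
    rw [hM]
    exact (Derivation.liftKaehlerDifferential_comp_D E a).symm
  · ext1
    refine Derivation.liftKaehlerDifferential_unique (R := R) _ _ ?_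
    ext a
    refine ((congrArg ψ.hom (hM a).symm).trans (hψ a).symm).trans ?_
    exact (Derivation.liftKaehlerDifferential_comp_D E a).symm

/-- The chart of a sheaf of differentials. -/
theorem exists_chart {f : X ⟶ Y} {Ω : X.Modules} {d : Der f Ω} (hd : IsUniversal d)
    {R A : Type u} [CommRing R] [CommRing A] [Algebra R A]
    (j : Spec (CommRingCat.of A) ⟶ X) [IsOpenImmersion j]
    (k : Spec (CommRingCat.of R) ⟶ Y) [IsOpenImmersion k]
    (hjk : Spec.map (CommRingCat.ofHom (algebraMap R A)) ≫ k = j ≫ f) :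
    ∃ e : Ω.restrict j ≅ tilde (R := CommRingCat.of A) (ModuleCat.of A Ω[A⁄R]),
      ∀ a : A, e.hom.app ⊤ ((resDer j d).app ⊤ ((Scheme.ΓSpecIso (CommRingCat.of A)).inv a)) =
        tilde.toOpen (R := CommRingCat.of A) (ModuleCat.of A Ω[A⁄R]) ⊤ (KaehlerDifferential.D R A a) := by
  obtain ⟨D, hD, hDa⟩ := exists_universal_tilde k (j ≫ f) hjk
  obtain ⟨e, he⟩ := exists_iso_of_isUniversal (isUniversal_resDer j hd) hD
  exact ⟨e, fun a => (congrArg (fun E : Der (j ≫ f) _ => E.app ⊤ _) he).trans (hDa a)⟩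

end Spec

end Groth.L19.OmegaSh
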