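import Groth.Agent.L19.OmegaSh.ConormalSeq

/-!
# `C_{X/Y} → j^* Ω_{Y/Z} → Ω_{X/Z} → 0`
-/

set_option autoImplicit false
set_option linter.style.haveILetI false
set_option backward.isDefEq.respectTransparency.types false
set_option backward.isDefEq.respectTransparency false

universe u

open CategoryTheory CategoryTheory.Limits AlgebraicGeometry TopologicalSpace Opposite

noncomputable section

namespace Groth.L19.OmegaSh

open Groth.L18.Frame (rs ro rs_rs ro_ro rs_smul ro_self rs_self)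
open _root_.OmegaSh (Der IsUniversal IsDiffCompat IsConormalDiff idealSect pullSect conormalSect)

variable {X Y Z : Scheme.{u}} {f : Y ⟶ Z} (j : X ⟶ Y) [IsImmersion j] [QuasiCompact j] {N : X.Modules}

/-- A derivation killing the ideal of `j` descends. -/
theorem exists_der_of_kills (E : Der f ((Scheme.Modules.pushforward j).obj N))
    (hE : ∀ (U : Y.Opens) (s : Γ(idl j, U)), E.app U (idealSect j.ker U s) = 0) :
    ∃ D : Der (j ≫ f) N, pushDerSq j (𝟙 Z) (Category.comp_id (j ≫ f)) D = E := by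
  let P : X.affineOpens → Prop := fun U => ∃ W : Y.affineOpens, Good f W ∧ U.1 = j ⁻¹ᵁ W.1 ∧
    Function.Surjective (j.app W.1)
  have hP : ∀ (x : X) (O : X.Opens), x ∈ O → ∃ U, P U ∧ x ∈ U.1 ∧ U.1 ≤ O := by
    intro x O hx
    obtain ⟨O', hO', hOO'⟩ := j.isEmbedding.isInducing.isOpen_iff.mp O.2
    obtain ⟨W₀, hW₀, hxW₀, hle⟩ := exists_good (f := f) (j x) ⟨O', hO'⟩ (hOO'.symm.subset hx)
    obtain ⟨W, hxW, hWle, haff, hs⟩ := exists_affine_surjective (i := j) x W₀.1 hxW₀
    exact ⟨⟨_, haff⟩, ⟨W, hW₀.mono hWle, rfl, hs⟩, hxW, fun z hz => hOO'.subset (hle (hWle hz))⟩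
  have hl : ∀ (U : X.affineOpens) (p : P U), ∃ r : Spec (L N U.1) ⟶ X,
      r ≫ j = ePt E U p.choose p.choose_spec.2.1.le := by
    intro U p
    let W := p.choose
    have e : U.1 ≤ j ⁻¹ᵁ W.1 := p.choose_spec.2.1.le
    have hs : Function.Surjective (j.appLE W.1 U.1 e).hom := fun b => by
      obtain ⟨a, ha⟩ := p.choose_spec.2.2 (ro p.choose_spec.2.1.ge b)
      refine ⟨a, ?_⟩
      show ro e (j.app W.1 a) = b
      rw [ha, ro_ro, ro_self]
    have hk : RingHom.ker (j.appLE W.1 U.1 e).hom ≤ RingHom.ker (alongHom E U.1 W.1 e).hom := by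
      intro a ha
      rw [RingHom.mem_ker] at ha ⊢
      obtain ⟨s, hs⟩ := exists_idealSect j W.1 a (by
        have h1 := congrArg (ro p.choose_spec.2.1.ge) (show ro e (j.app W.1 a) = 0 from ha)
        rw [ro_ro, ro_self] at h1
        exact h1.trans (map_zero _))
      refine ext N ((fst_mk N _ _).trans (ha.trans (fst_zero N _).symm)) ((snd_mk N _ _).trans ?_)
      rw [snd_zero]
      show rs N e (E.app W.1 a) = 0
      rw [← hs, hE]
      exact map_zero _
    let q : Γ(Y, W.1) →+* (L N U.1 : Type u) := (alongHom E U.1 W.1 e).hom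
    let ψ : Γ(X, U.1) ⟶ L N U.1 :=
      CommRingCat.ofHom (R := (Γ(X, U.1) : Type u)) (S := (L N U.1 : Type u))
        ((j.appLE W.1 U.1 e).hom.liftOfSurjective (C := (L N U.1 : Type u)) hs ⟨q, hk⟩)
    have hψ : j.appLE W.1 U.1 e ≫ ψ = alongHom E U.1 W.1 e := by
      ext a
      exact RingHom.liftOfRightInverse_comp_apply (j.appLE W.1 U.1 e).hom _ (Function.rightInverse_surjInv hs) ⟨q, hk⟩ a
    refine ⟨Spec.map ψ ≫ U.2.fromSpec, ?_⟩
    rw [Category.assoc, ← IsAffineOpen.SpecMap_appLE_fromSpec j W.2 U.2 e, ← Spec.map_comp_assoc, hψ]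
    rfl
  let F : PointFam (j ≫ f) N :=
    { P := P
      exists_P := hP
      r := fun U p => (hl U p).choose
      prL_r := fun U p => by
        rw [← cancel_mono j, Category.assoc, (hl U p).choose_spec, prL_ePt]
      resL_r := fun U U' p p' h => by
        rw [← cancel_mono j, Category.assoc, (hl U p).choose_spec, (hl U' p').choose_spec, resL_ePt]
        exact ePt_indep E U' _ _ _ _
      r_base := fun U p => by
        rw [← Category.assoc _ j f, (hl U p).choose_spec, ePt_base E U _ _ p.choose_spec.1] }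
  exact ⟨F.der, pushDerSq_eq_of_points _ F.der E P hP fun U p =>
    ⟨p.choose, p.choose_spec.2.1.le, by rw [F.dPt_der U p]; exact (hl U p).choose_spec⟩⟩

omit [QuasiCompact j] in
theorem pushDerSq_injective_of_immersion :
    Function.Injective (fun D : Der (j ≫ f) N => pushDerSq j (𝟙 Z) (Category.comp_id (j ≫ f)) D) := by
  intro D₁ D₂ h12
  refine der_ext_points D₁ D₂ (fun U => ∃ W : Y.affineOpens, U.1 ≤ j ⁻¹ᵁ W.1) (fun x O hx => ?_) fun U hU => ?_
  · obtain ⟨W, -, hxW, -⟩ := exists_good (f := f) (j x) ⊤ trivial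
    obtain ⟨U, -, hxU, hUle⟩ := exists_good (f := j) x (O ⊓ j ⁻¹ᵁ W.1) ⟨hx, hxW⟩
    exact ⟨U, ⟨W, hUle.trans inf_le_right⟩, hxU, hUle.trans inf_le_left⟩
  · obtain ⟨W, e⟩ := hU
    have h12' : pushDerSq j (𝟙 Z) (Category.comp_id (j ≫ f)) D₁ =
        pushDerSq j (𝟙 Z) (Category.comp_id (j ≫ f)) D₂ := h12
    rw [← cancel_mono j, dPt_comp (Category.comp_id (j ≫ f)) D₁ U W e,
      dPt_comp (Category.comp_id (j ≫ f)) D₂ U W e, h12']

variable {ΩY : Y.Modules} {dY : Der f ΩY} {ΩX : X.Modules} {dX : Der (j ≫ f) ΩX}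

/-- `C_{X/Y} → j^* Ω_{Y/Z} → Ω_{X/Z} → 0` is exact. -/
theorem exact_conormal_diff (hY : IsUniversal dY) (hX : IsUniversal dX)
    (φ : Omega.conormal j ⟶ (Scheme.Modules.pullback j).obj ΩY) (hφ : IsConormalDiff j dY φ)
    (c : (Scheme.Modules.pullback j).obj ΩY ⟶ ΩX) (hc : IsDiffCompat j dY dX c) :
    ∃ w : φ ≫ c = 0, (ShortComplex.mk φ c w).Exact ∧ Epi c := by
  let hsq := Category.comp_id (j ≫ f)
  let adj := Scheme.Modules.pullbackPushforwardAdjunction j
  have key : ∀ (M : X.Modules) (α : (Scheme.Modules.pullback j).obj ΩY ⟶ M), φ ≫ α = 0 ↔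
      ∀ (U : Y.Opens) (s : Γ(idl j, U)),
        _root_.OmegaSh.Der.app (dY.postcomp (adj.homEquiv _ _ α).val) U (idealSect j.ker U s) = 0 := by
    intro M α
    have hv : ∀ (U : Y.Opens) (s : Γ(idl j, U)), (φ ≫ α).app (j ⁻¹ᵁ U) (conormalSect j U s) =
        _root_.OmegaSh.Der.app (dY.postcomp (adj.homEquiv _ _ α).val) U (idealSect j.ker U s) := fun U s =>
      (congrArg (α.app (j ⁻¹ᵁ U)) (hφ U s)).trans (homEquiv_app_diffCompat j dY α U _).symm
    constructor
    · intro h0 U s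
      rw [← hv, h0]
      rfl
    · exact fun h0 => conormal_hom_ext fun U s => (hv U s).trans (h0 U s)
  have hfac : ∀ (M : X.Modules) (α : (Scheme.Modules.pullback j).obj ΩY ⟶ M) (β : ΩX ⟶ M),
      c ≫ β = α ↔ pushDerSq j (𝟙 Z) hsq (dX.postcomp β.val) = dY.postcomp (adj.homEquiv _ _ α).val := by
    intro M α β
    constructor
    · intro h
      rw [← h]
      exact ((isDiffCompat_iff j (𝟙 Z) hsq dY _ _).mp (isDiffCompat_postcomp j hc β)).symm
    · intro h
      obtain ⟨c₀, -, hu⟩ := existsUnique_diffCompat j (𝟙 Z) hsq hY (dX.postcomp β.val)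
      exact (hu _ (isDiffCompat_postcomp j hc β)).trans (hu _ ((isDiffCompat_iff j (𝟙 Z) hsq dY _ α).mpr h.symm)).symm
  have w : φ ≫ c = 0 := (key _ c).mpr fun U s => by
    refine (homEquiv_app_diffCompat j dY c U _).trans ((hc U _).trans ?_)
    rw [app_idealSect, map_zero]
  refine ⟨w, exact_and_epi_of_desc φ c w fun M α hα => ?_⟩
  obtain ⟨D, hD⟩ := exists_der_of_kills j _ ((key M α).mp hα)
  obtain ⟨β, hβ, hu⟩ := hX M D
  exact ⟨β, (hfac M α β).mpr (by rw [hβ]; exact hD),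
    fun β' hβ' => hu β' (pushDerSq_injective_of_immersion j (((hfac M α β').mp hβ').trans hD.symm))⟩

end Groth.L19.OmegaSh
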