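import Groth.Agent.L19.OmegaSh.ConormalDiff
import Groth.Agent.L20.Thickening

/-!
# `C_{X'/X} → j^* Ω_{X/Y}` is injective when `X' → Y` is formally smooth
-/

set_option autoImplicit false
set_option linter.style.haveILetI false
set_option backward.isDefEq.respectTransparency.types false
set_option backward.isDefEq.respectTransparency false

universe u

open CategoryTheory CategoryTheory.Limits AlgebraicGeometry TopologicalSpace Opposite

noncomputable section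

namespace Groth.L19.OmegaSh

open Groth.L18.Frame (rs ro rs_rs ro_ro rs_smul ro_self rs_self)
open _root_.OmegaSh (Der IsUniversal IsConormalDiff idealSect pullSect conormalSect)

theorem exists_lift_sqZero {T B : CommRingCat.{u}} (φ : T ⟶ B) (hs : Function.Surjective φ.hom)
    (hsq : RingHom.ker φ.hom ^ 2 = ⊥) {Q' Q : Scheme.{u}} {h : Q' ⟶ Q} (hh : MoreMor.IsFormallySmoothHom h)
    (a : Spec B ⟶ Q') (b : Spec T ⟶ Q) (w : Spec.map φ ≫ b = a ≫ h) :
    ∃ l : Spec T ⟶ Q', Spec.map φ ≫ l = a ∧ l ≫ h = b ∧ Set.range l ⊆ Set.range a := by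
  let e := RingHom.quotientKerEquivOfSurjective (f := φ.hom) hs
  let ε : Spec B ≅ Spec (CommRingCat.of (T ⧸ RingHom.ker φ.hom)) := Scheme.Spec.mapIso e.toCommRingCatIso.op
  have hε : ε.hom ≫ Spec.map (CommRingCat.ofHom (Ideal.Quotient.mk _)) = Spec.map φ := by
    show Spec.map _ ≫ _ = _
    rw [← Spec.map_comp]
    rfl
  obtain ⟨l, h₁, h₂⟩ := hh T _ hsq (ε.inv ≫ a) b
    (by rw [← cancel_epi ε.hom, reassoc_of% hε, Category.assoc, Iso.hom_inv_id_assoc, w])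
  refine ⟨l, by rw [← hε, Category.assoc, h₁, Iso.hom_inv_id_assoc], h₂, ?_⟩
  rintro _ ⟨z, rfl⟩
  obtain ⟨q, rfl⟩ := Groth.L20.surjective_specMap_mk_of_sq_eq_bot _ hsq z
  exact ⟨ε.inv q, congr($(h₁.symm) q)⟩

variable {X' X Y : Scheme.{u}} {f : X ⟶ Y} {j : X' ⟶ X}

theorem exists_section_mod_sq (hf : MoreMor.IsFormallySmoothHom (j ≫ f)) {W : X.Opens} (hW : IsAffineOpen W)
    (hU : IsAffineOpen (j ⁻¹ᵁ W)) (hs : Function.Surjective (j.app W)) {V : Y.Opens} (hV : IsAffineOpen V)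
    (e : W ≤ f ⁻¹ᵁ V) :
    ∃ σ : Γ(X', j ⁻¹ᵁ W) →+* Γ(X, W) ⧸ RingHom.ker (j.app W).hom ^ 2,
      (∀ b a, σ b = Ideal.Quotient.mk _ a → j.app W a = b) ∧
        ∀ c, σ (j.app W (f.appLE V W e c)) = Ideal.Quotient.mk _ (f.appLE V W e c) := by
  let I := RingHom.ker (j.app W).hom
  let T := CommRingCat.of (Γ(X, W) ⧸ I ^ 2)
  let π : Γ(X, W) ⟶ T := CommRingCat.ofHom (Ideal.Quotient.mk (I ^ 2))
  let q : T ⟶ Γ(X', j ⁻¹ᵁ W) := CommRingCat.ofHom
    (Ideal.Quotient.lift (I ^ 2) (j.app W).hom fun a ha => Ideal.pow_le_self two_ne_zero ha)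
  have hπq : π ≫ q = j.app W := by ext a; rfl
  have hqs : Function.Surjective q.hom := fun b => by
    obtain ⟨a, rfl⟩ := hs b
    exact ⟨Ideal.Quotient.mk (I ^ 2) a, rfl⟩
  have hsq : RingHom.ker q.hom ^ 2 = ⊥ := by
    refine (pow_two _).trans (eq_bot_iff.mpr (Ideal.mul_le.mpr ?_))
    intro x hx y hy
    obtain ⟨a, rfl⟩ := Ideal.Quotient.mk_surjective x
    obtain ⟨b, rfl⟩ := Ideal.Quotient.mk_surjective y
    refine (Ideal.mem_bot).mpr ?_
    show Ideal.Quotient.mk (I ^ 2) a * Ideal.Quotient.mk (I ^ 2) b = 0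
    rw [← map_mul, Ideal.Quotient.eq_zero_iff_mem, pow_two]
    exact Ideal.mul_mem_mul (show a ∈ I from hx) (show b ∈ I from hy)
  have e' : j ⁻¹ᵁ W ≤ (j ≫ f) ⁻¹ᵁ V := Scheme.Hom.preimage_mono j e
  obtain ⟨l, hl₁, hl₂, hlr⟩ := exists_lift_sqZero q hqs hsq hf hU.fromSpec
    (Spec.map π ≫ hW.fromSpec ≫ f) (by
      rw [← Spec.map_comp_assoc, hπq, Scheme.Hom.app_eq_appLE, ← Category.assoc _ j f,
        ← IsAffineOpen.SpecMap_appLE_fromSpec j hW hU le_rfl, Category.assoc])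
  obtain ⟨ψ, hψ⟩ : ∃ ψ, Spec.map ψ ≫ hU.fromSpec = l :=
    ⟨Spec.preimage (IsOpenImmersion.lift hU.fromSpec l hlr), by rw [Spec.map_preimage, IsOpenImmersion.lift_fac]⟩
  have h₁ : ψ ≫ q = 𝟙 _ := Spec.map_injective <| by
    rw [← cancel_mono hU.fromSpec, Spec.map_comp, Category.assoc, hψ, hl₁, Spec.map_id, Category.id_comp]
  have h₂ : (j ≫ f).appLE V (j ⁻¹ᵁ W) e' ≫ ψ = f.appLE V W e ≫ π := Spec.map_injective <| by
    rw [← cancel_mono hV.fromSpec, Spec.map_comp, Spec.map_comp, Category.assoc, Category.assoc,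
      IsAffineOpen.SpecMap_appLE_fromSpec _ hV hU e', IsAffineOpen.SpecMap_appLE_fromSpec _ hV hW e,
      ← Category.assoc (Spec.map ψ), hψ, hl₂]
  refine ⟨ψ.hom, fun b a h => ?_, fun c => ?_⟩
  · have h3 : q (ψ b) = b := congr($h₁ b)
    rw [show ψ b = Ideal.Quotient.mk (I ^ 2) a from h] at h3
    exact h3
  · refine Eq.trans ?_ congr($h₂ c)
    refine congrArg ψ ?_
    rw [Scheme.Hom.app_eq_appLE, ← CommRingCat.comp_apply, Scheme.Hom.appLE_comp_appLE]
    rfl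

/-- Elements of `I²` have zero class. -/
theorem conormalSect_eq_of_sub_mem_sq [QuasiCompact j] {W : X.Opens} (s t : Γ(idl j, W))
    (h : idealSect j.ker W s - idealSect j.ker W t ∈ RingHom.ker (j.app W).hom ^ 2) :
    conormalSect j W s = conormalSect j W t := by
  have key' : ∀ x ∈ RingHom.ker (j.app W).hom ^ 2, ∃ u : Γ(idl j, W), idealSect j.ker W u = x ∧
      conormalSect j W u = 0 := by
    intro x hx
    rw [pow_two] at hx
    refine Submodule.mul_induction_on hx ?_ ?_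
    · intro a ha b hb
      obtain ⟨v, hv⟩ := exists_idealSect j W b hb
      exact ⟨a • v, by rw [idealSect_smul, hv],
        by rw [conormalSect_smul, show j.app W a = 0 from ha, zero_smul]⟩
    · rintro a b ⟨u, rfl, hu⟩ ⟨v, rfl, hv⟩
      exact ⟨u + v, map_add _ _ _, by rw [map_add, hu, hv, add_zero]⟩
  have key : ∀ x ∈ RingHom.ker (j.app W).hom ^ 2, ∀ u : Γ(idl j, W), idealSect j.ker W u = x →
      conormalSect j W u = 0 := fun x hx u hu => by
    obtain ⟨v, hv, hv0⟩ := key' x hx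
    rw [idealSect_injective j W (hu.trans hv.symm), hv0]
  have := key _ h (s - t) (map_sub _ _ _)
  rwa [map_sub (conormalSect j W).hom, sub_eq_zero] at this

theorem exists_lift_fun {A B : Type u} [CommRing A] [CommRing B] (q : A →+* B) (J : Ideal A) (σ : B →+* A ⧸ J) :
    ∃ b : A → A, (∀ a, Ideal.Quotient.mk J (b a) = σ (q a)) ∧
      (∀ a a', Ideal.Quotient.mk J (b a + b a') = σ (q (a + a'))) ∧
      (∀ a a', Ideal.Quotient.mk J (b a * b a') = σ (q (a * a'))) ∧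
      ∀ a, q a = 0 → Ideal.Quotient.mk J 0 = σ (q a) := by
  choose b hb using fun a : A => Ideal.Quotient.mk_surjective (σ (q a))
  exact ⟨b, hb, fun a a' => by simp only [map_add, hb], fun a a' => by simp only [map_mul, hb],
    fun a ha => by rw [ha, map_zero, map_zero]⟩

/-- A retraction of `I/I² → Ω ⊗ B` on global sections of an affine piece. -/
theorem exists_retraction_affine [QuasiCompact j] (hf : MoreMor.IsFormallySmoothHom (j ≫ f)) {W : X.Opens}
    (hW : IsAffineOpen W) (hU : IsAffineOpen (j ⁻¹ᵁ W)) (hs : Function.Surjective (j.app W)) {V : Y.Opens}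
    (hV : IsAffineOpen V) (e : W ≤ f ⁻¹ᵁ V) :
    ∃ δ : Γ(X, W) →+ Γ(Omega.conormal j, j ⁻¹ᵁ W),
      (∀ a b, δ (a * b) = j.app W a • δ b + j.app W b • δ a) ∧ (∀ c, δ (f.appLE V W e c) = 0) ∧
        ∀ s : Γ(idl j, W), δ (idealSect j.ker W s) = conormalSect j W s := by
  obtain ⟨σ, hσ, hσc⟩ := exists_section_mod_sq hf hW hU hs hV e
  let C := Omega.conormal j
  have hlift : ∀ (x : Γ(X, W)), j.app W x = 0 → ∃ s : Γ(idl j, W), idealSect j.ker W s = x :=
    fun x hx => exists_idealSect j W x hx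
  have hindep := fun (s t : Γ(idl j, W)) => conormalSect_eq_of_sub_mem_sq (j := j) s t
  obtain ⟨b, hb, hbadd, hbmul, hb0⟩ := exists_lift_fun (j.app W).hom _ σ
  have hjb : ∀ a, j.app W (b a) = j.app W a := fun a => hσ _ _ (hb a).symm
  choose s hs' using fun a : Γ(X, W) => hlift (a - b a) (by rw [map_sub, hjb, sub_self])
  have hval : ∀ (a : Γ(X, W)) (c : Γ(X, W)) (t : Γ(idl j, W)),
      Ideal.Quotient.mk _ c = σ (j.app W a) → idealSect j.ker W t = a - c →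
        conormalSect j W (s a) = conormalSect j W t := by
    intro a c t hc ht
    refine hindep _ _ ?_
    rw [hs', ht, sub_sub_sub_cancel_left]
    exact Ideal.Quotient.eq.mp (hc.trans (hb a).symm)
  refine ⟨AddMonoidHom.mk' (fun a => conormalSect j W (s a)) fun a a' => ?_, fun a a' => ?_, fun c => ?_, fun t => ?_⟩
  · rw [hval (a + a') (b a + b a') (s a + s a') (hbadd a a')
      (by rw [map_add, hs', hs']; ring), map_add]
  · show conormalSect j W (s (a * a')) = _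
    rw [hval (a * a') (b a * b a') (a • s a' + b a' • s a) (hbmul a a')
      (by rw [map_add, idealSect_smul, idealSect_smul, hs', hs']; ring), map_add, conormalSect_smul,
      conormalSect_smul, hjb]
    rfl
  · show conormalSect j W (s _) = 0
    rw [hval _ (f.appLE V W e c) 0 (hσc c).symm (by rw [map_zero, sub_self]), map_zero]
  · show conormalSect j W (s _) = _
    rw [hval _ 0 t (hb0 _ (app_idealSect j W t)) (sub_zero _).symm]

theorem smul_restrict {M : X.Modules} {W : X.Opens} {O : (W : Scheme.{u}).Opens} (a : Γ((W : Scheme.{u}), O))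
    (m : Γ(M.restrict W.ι, O)) :
    a • m = (show Γ(M.restrict W.ι, O) from
      (show Γ(X, W.ι ''ᵁ O) from a) • (show Γ(M, W.ι ''ᵁ O) from m)) := by
  show (show Γ(X, W.ι ''ᵁ O) from (W.ι.appIso O).inv a) • (show Γ(M, W.ι ''ᵁ O) from m) = _
  rw [Scheme.Opens.ι_appIso]
  rfl

/-- A derivation on an affine open from its values on global sections. -/
theorem exists_der_open {M : X.Modules} {W : X.Opens} (hW : IsAffineOpen W) {V : Y.Opens} (hV : IsAffineOpen V)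
    (e : W ≤ f ⁻¹ᵁ V) (δ : Γ(X, W.ι ''ᵁ ⊤) →+ Γ(M, W.ι ''ᵁ ⊤))
    (hδ : ∀ a b, δ (a * b) = a • δ b + b • δ a)
    (hδc : ∀ c, δ (f.appLE V (W.ι ''ᵁ ⊤) (W.ι_image_top.le.trans e) c) = 0) :
    ∃ E : Der f ((Scheme.Modules.pushforward W.ι).obj (M.restrict W.ι)),
      ∀ (O : X.Opens) (hO₁ : O ≤ W.ι ''ᵁ ⊤) (hO : O ≤ W.ι ''ᵁ (W.ι ⁻¹ᵁ O)) (a : Γ(X, W.ι ''ᵁ ⊤)),
        rs M hO (E.app O (ro hO₁ a)) = rs M hO₁ (δ a) := by
  haveI : IsAffine (W : Scheme.{u}) := hW
  haveI : IsAffine (V : Scheme.{u}) := hV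
  let δ' : Γ((W : Scheme.{u}), ⊤) →+ Γ(M.restrict W.ι, ⊤) := δ
  have hδ' : ∀ a b, δ' (a * b) = a • δ' b + b • δ' a := fun a b => by
    rw [smul_restrict, smul_restrict]
    exact hδ a b
  have hg : ∀ c, δ' ((f.resLE V W e).appTop c) = 0 := by
    intro c
    have h2 := hδc (ro (V.ι_image_top.ge : V ≤ V.ι ''ᵁ ⊤) c)
    rw [← CommRingCat.comp_apply, Scheme.Hom.map_appLE] at h2
    rw [Scheme.Hom.appTop, Scheme.Hom.app_eq_appLE, Scheme.Hom.resLE_appLE]
    exact h2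
  let D₀ : Der (W.ι ≫ f) (M.restrict W.ι) :=
    derOfAlg (M.restrict W.ι) δ' hδ' (f.resLE V W e) V.ι (W.ι ≫ f) (Scheme.Hom.resLE_comp_ι _ _) hg
  refine ⟨pushDer W.ι D₀, fun O hO₁ hO a => ?_⟩
  show rs M hO (D₀.app (W.ι ⁻¹ᵁ O) (W.ι.app O (ro hO₁ a))) = _
  have h1 : W.ι.app O (ro hO₁ a) =
      ro (le_top : W.ι ⁻¹ᵁ O ≤ ⊤) (show Γ((W : Scheme.{u}), ⊤) from a) := by
    simp only [Scheme.Opens.ι_app]
    exact ro_ro _ _ _
  rw [h1, der_map, derOfAlg_top]
  exact rs_rs M (Scheme.Hom.image_mono W.ι le_top) hO _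

theorem image_preimage_le_preimage {W : X.Opens} (Z : X.Opens) :
    (j ⁻¹ᵁ W).ι ''ᵁ ((j ⁻¹ᵁ W).ι ⁻¹ᵁ (j ⁻¹ᵁ Z)) ≤ j ⁻¹ᵁ (W.ι ''ᵁ (W.ι ⁻¹ᵁ Z)) := by
  rintro _ ⟨⟨y, hy⟩, hyZ, rfl⟩
  exact ⟨⟨j y, hy⟩, hyZ, rfl⟩

/-- Restriction `(j_* C)|_W → j_* (C|_{j⁻¹ W})`. -/
def kappa (C : X'.Modules) (W : X.Opens) :
    (Scheme.Modules.pushforward W.ι).obj (((Scheme.Modules.pushforward j).obj C).restrict W.ι) ⟶
      (Scheme.Modules.pushforward j).obj
        ((Scheme.Modules.pushforward (j ⁻¹ᵁ W).ι).obj (C.restrict (j ⁻¹ᵁ W).ι)) :=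
  ⟨PresheafOfModules.homMk
    { app := fun Z => AddCommGrpCat.ofHom (C.presheaf.map (homOfLE (image_preimage_le_preimage (j := j) Z.unop)).op).hom
      naturality := fun Z Z' h => by
        ext s
        exact (rs_rs C _ (image_preimage_le_preimage (j := j) Z'.unop) s).trans
          (rs_rs C (image_preimage_le_preimage (j := j) Z.unop) _ s).symm }
    fun Z r s => by
      refine (rs_smul C (image_preimage_le_preimage (j := j) Z.unop) _ _).trans (congrArg (· • _) ?_)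
      show ro (image_preimage_le_preimage (j := j) Z.unop) (j.app _ ((W.ι.appIso _).inv (W.ι.app Z.unop r))) =
        ((j ⁻¹ᵁ W).ι.appIso _).inv ((j ⁻¹ᵁ W).ι.app _ (j.app Z.unop r))
      simp only [Scheme.Opens.ι_appIso, Scheme.Opens.ι_app]
      show ro _ (j.app _ (ro _ r)) = ro _ (j.app Z.unop r)
      rw [app_ro, ro_ro]⟩

/-- On a basic open the value on an element of the ideal is forced. -/
theorem eq_conormalSect_of_basicOpen [QuasiCompact j] {W : X.affineOpens} (g : Γ(X, W.1)) {W₁ : X.Opens}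
    (hW₁ : W₁ = W.1) (h : X.basicOpen g ≤ W₁) (v : Γ(X, X.basicOpen g) → Γ(Omega.conormal j, j ⁻¹ᵁ X.basicOpen g))
    (hvmul : ∀ a b, v (a * b) = j.app _ a • v b + j.app _ b • v a)
    (hvW : ∀ u : Γ(idl j, W₁), v (ro h (idealSect j.ker W₁ u)) = conormalSect j _ (rs (idl j) h u))
    (t : Γ(idl j, X.basicOpen g)) : v (idealSect j.ker _ t) = conormalSect j _ t := by
  subst hW₁
  haveI := W.2.isLocalization_basicOpen g
  have hm : idealSect j.ker (X.basicOpen g) t ∈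
      Ideal.map (X.presheaf.map (homOfLE h).op).hom (j.ker.ideal W) := by
    have : idealSect j.ker (X.basicOpen g) t ∈ j.ker.ideal ⟨X.basicOpen g, W.2.basicOpen g⟩ := by
      rw [Scheme.Hom.ker_apply, RingHom.mem_ker]
      exact app_idealSect j _ t
    rw [show (homOfLE h).op = (homOfLE (X.basicOpen_le g)).op from rfl]
    exact (j.ker.map_ideal_basicOpen W g).symm ▸ this
  obtain ⟨⟨⟨a, ha⟩, ⟨_, n, rfl⟩⟩, han⟩ :=
    (IsLocalization.mem_map_algebraMap_iff (Submonoid.powers g) Γ(X, X.basicOpen g)).mp hm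
  obtain ⟨u, rfl⟩ := exists_idealSect j W.1 a (by rwa [Scheme.Hom.ker_apply, RingHom.mem_ker] at ha)
  have hu : ro h (g ^ n) • t = rs (idl j) h u := idealSect_injective j _ (by
    rw [idealSect_smul, idealSect_rs, mul_comm]
    exact han)
  have h2 := hvmul (ro h (g ^ n)) (idealSect j.ker _ t)
  rw [app_idealSect, zero_smul, add_zero, ← idealSect_smul, hu, idealSect_rs, hvW, ← hu, conormalSect_smul] at h2
  have hunit : IsUnit (j.app (X.basicOpen g) (ro h (g ^ n))) := by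
    refine IsUnit.map (j.app _).hom ?_
    rw [show ro h (g ^ n) = ro h g ^ n from map_pow _ _ _]
    exact (X.toRingedSpace.isUnit_res_basicOpen g).pow n
  exact (hunit.smul_left_cancel.mp h2).symm

/-- Near every point the conormal sheaf splits off from `j^* Ω`. -/
theorem exists_local_retraction [IsImmersion j] [QuasiCompact j] (hf : MoreMor.IsFormallySmoothHom (j ≫ f))
    {Ω : X.Modules} {d : Der f Ω} (hd : IsUniversal d)
    {φ : Omega.conormal j ⟶ (Scheme.Modules.pullback j).obj Ω} (hφ : IsConormalDiff j d φ) (x : X') :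
    ∃ (U : X'.Opens) (r : (Scheme.Modules.pullback j).obj Ω ⟶
        (Scheme.Modules.pushforward U.ι).obj ((Omega.conormal j).restrict U.ι)),
      x ∈ U ∧ φ ≫ r = (Scheme.Modules.restrictAdjunction U.ι).unit.app (Omega.conormal j) := by
  obtain ⟨W₀, ⟨V, eV⟩, hxW₀, -⟩ := exists_good (f := f) (j x) ⊤ trivial
  obtain ⟨W, hxW, hWle, haff, hs⟩ := exists_affine_surjective (i := j) x W₀.1 hxW₀
  have key : ∀ W₁ : X.Opens, W₁ = W.1 → ∀ e₁ : W₁ ≤ f ⁻¹ᵁ V.1,
      ∃ δ : Γ(X, W₁) →+ Γ(Omega.conormal j, j ⁻¹ᵁ W₁),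
        (∀ a b, δ (a * b) = j.app W₁ a • δ b + j.app W₁ b • δ a) ∧ (∀ c, δ (f.appLE V.1 W₁ e₁ c) = 0) ∧
          ∀ s : Γ(idl j, W₁), δ (idealSect j.ker W₁ s) = conormalSect j W₁ s := by
    rintro W₁ rfl e₁
    exact exists_retraction_affine hf W.2 haff hs V.2 e₁
  obtain ⟨δ, hδ, hδc, hδs⟩ := key (W.1.ι ''ᵁ ⊤) W.1.ι_image_top (W.1.ι_image_top.le.trans (hWle.trans eV))
  obtain ⟨E₀, hE₀⟩ := exists_der_open (M := (Scheme.Modules.pushforward j).obj (Omega.conormal j)) W.2 V.2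
    (hWle.trans eV) δ hδ hδc
  obtain ⟨γ, hγ, -⟩ := hd _ (E₀.postcomp (kappa (j := j) (Omega.conormal j) W.1).val)
  let adj := Scheme.Modules.pullbackPushforwardAdjunction j
  refine ⟨j ⁻¹ᵁ W.1, (adj.homEquiv _ _).symm γ, hxW, conormal_hom_ext fun Z s => ?_⟩
  refine (congrArg (((adj.homEquiv _ _).symm γ).app (j ⁻¹ᵁ Z)) (hφ Z s)).trans ?_
  refine (homEquiv_app_diffCompat j d _ Z _).symm.trans ?_
  rw [Equiv.apply_symm_apply]
  refine (congrArg (fun E' : Der f _ => E'.app Z (idealSect j.ker Z s)) hγ).trans ?_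
  rw [Scheme.Modules.restrictAdjunction_unit_app_app]
  show rs (Omega.conormal j) (image_preimage_le_preimage (j := j) Z) (E₀.app Z (idealSect j.ker Z s)) = _
  refine eq_of_local (N := Omega.conormal j) _ _ fun z hz => ?_
  obtain ⟨⟨y, hy⟩, hyZ, rfl⟩ := hz
  obtain ⟨g, hgle, hyg⟩ := W.2.exists_basicOpen_le (V := Z) ⟨j y, hyZ⟩ hy
  have hgW : X.basicOpen g ≤ W.1 := X.basicOpen_le g
  have hO : j ⁻¹ᵁ X.basicOpen g ≤ (j ⁻¹ᵁ W.1).ι ''ᵁ ((j ⁻¹ᵁ W.1).ι ⁻¹ᵁ (j ⁻¹ᵁ Z)) :=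
    fun w hw => ⟨⟨w, hgW hw⟩, hgle hw, rfl⟩
  have hgD : X.basicOpen g ≤ W.1.ι ''ᵁ (W.1.ι ⁻¹ᵁ X.basicOpen g) := fun w hw => ⟨⟨w, hgW hw⟩, hw, rfl⟩
  refine ⟨j ⁻¹ᵁ X.basicOpen g, hO, hyg, ?_⟩
  refine (rs_rs (Omega.conormal j) _ hO _).trans (Eq.trans ?_ (rs_rs (Omega.conormal j) _ hO _).symm)
  refine Eq.trans ?_ (conormalSect_rs hgle s)
  let v : Γ(X, X.basicOpen g) → Γ(Omega.conormal j, j ⁻¹ᵁ X.basicOpen g) := fun a =>
    rs (Omega.conormal j) (Scheme.Hom.preimage_mono j hgD) (E₀.app (X.basicOpen g) a)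
  refine Eq.trans ?_ (eq_conormalSect_of_basicOpen g W.1.ι_image_top (hgW.trans W.1.ι_image_top.ge) v
    (fun a b => ?_) (fun u => ?_) (rs (idl j) hgle s))
  · show _ = rs (Omega.conormal j) _ (E₀.app _ (idealSect j.ker _ (rs (idl j) hgle s)))
    rw [idealSect_rs, der_map]
    exact (rs_rs (Omega.conormal j) (Scheme.Hom.preimage_mono j
      (Scheme.Hom.image_mono W.1.ι (Scheme.Hom.preimage_mono W.1.ι hgle))) (Scheme.Hom.preimage_mono j hgD) _).symm
  · show rs (Omega.conormal j) _ (E₀.app _ (a * b)) = _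
    rw [der_mul]
    refine (map_add _ _ _).trans (congrArg₂ (· + ·) ?_ ?_) <;>
    · refine (rs_smul (Omega.conormal j) _ _ _).trans (congrArg (· • _) ?_)
      show ro (Scheme.Hom.preimage_mono j hgD) (j.app _ ((W.1.ι.appIso _).inv (W.1.ι.app _ _))) = _
      simp only [Scheme.Opens.ι_appIso, Scheme.Opens.ι_app]
      show ro _ (j.app _ (ro _ _)) = _
      rw [app_ro, ro_ro, ro_self]
  · show rs (Omega.conormal j) _ (E₀.app _ (ro _ (idealSect j.ker _ u))) = _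
    refine (hE₀ _ _ hgD (idealSect j.ker _ u)).trans ?_
    exact (congrArg (rs (Omega.conormal j) (Scheme.Hom.preimage_mono j (hgW.trans W.1.ι_image_top.ge))) (hδs u)).trans
      (conormalSect_rs (hgW.trans W.1.ι_image_top.ge) u).symm

theorem mono_conormalDiff_of_formallySmooth [IsImmersion j] [QuasiCompact j]
    (hf : MoreMor.IsFormallySmoothHom (j ≫ f)) {Ω : X.Modules} {d : Der f Ω} (hd : IsUniversal d)
    {φ : Omega.conormal j ⟶ (Scheme.Modules.pullback j).obj Ω} (hφ : IsConormalDiff j d φ) : Mono φ := by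
  refine ⟨fun {M} α β hαβ => ?_⟩
  ext O s
  refine eq_of_local _ _ fun z hz => ?_
  obtain ⟨U, r, hzU, hr⟩ := exists_local_retraction hf hd hφ z
  refine ⟨U.ι ''ᵁ (U.ι ⁻¹ᵁ O), U.ι.image_preimage_le O, ⟨⟨z, hzU⟩, hz, rfl⟩, ?_⟩
  have h : ∀ γ : M ⟶ Omega.conormal j, rs (Omega.conormal j) (U.ι.image_preimage_le O) (γ.app O s) =
      r.app O ((γ ≫ φ).app O s) := fun γ => by
    have h1 := congr($(congrArg (fun η => Scheme.Modules.Hom.app η O) hr) (γ.app O s))
    rw [Scheme.Modules.restrictAdjunction_unit_app_app] at h1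
    exact h1.symm
  rw [h, h, hαβ]

end Groth.L19.OmegaSh
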