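import Groth.Agent.L19.OmegaSh.Affine

/-!
# The canonical map between sheaves of differentials of a commutative square
-/

set_option autoImplicit false
set_option linter.style.haveILetI false
set_option backward.isDefEq.respectTransparency.types false
set_option backward.isDefEq.respectTransparency false

universe u

open CategoryTheory CategoryTheory.Limits AlgebraicGeometry TopologicalSpace Opposite

noncomputable section

namespace Groth.L19.OmegaSh

open Groth.L18.Frame (rs ro)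
open _root_.OmegaSh (Der IsUniversal IsDiffCompat pullSect)

variable {X S X' S' : Scheme.{u}} {f : X ⟶ S} {f' : X' ⟶ S'}

/-- A derivation of `X'/S'` pushed to `X/S` along a commutative square. -/
def pushDerSq (h : X' ⟶ X) (b : S' ⟶ S) (hsq : f' ≫ b = h ≫ f) {G : X'.Modules} (D : Der f' G) :
    Der f ((Scheme.Modules.pushforward h).obj G) where
  d {U} := (D.app (h ⁻¹ᵁ U.unop)).comp (h.app U.unop).hom.toAddMonoidHom
  d_mul {U} a c := by
    show D.app (h ⁻¹ᵁ U.unop) (h.app U.unop (a * c)) = _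
    rw [map_mul, der_mul]
    rfl
  d_map {U V} i a := by
    show D.app (h ⁻¹ᵁ V.unop) (h.app V.unop (ro i.unop.le a)) =
      rs G (Scheme.Hom.preimage_mono _ i.unop.le) (D.app (h ⁻¹ᵁ U.unop) (h.app U.unop a))
    rw [← der_map]
    exact congrArg _ (congr($(h.naturality (homOfLE i.unop.le).op) a))
  d_app {V} c := by
    show D.app (h ⁻¹ᵁ (f ⁻¹ᵁ V.unop)) (h.app (f ⁻¹ᵁ V.unop) (f.app V.unop c)) = 0
    have e : h ⁻¹ᵁ (f ⁻¹ᵁ V.unop) ≤ f' ⁻¹ᵁ (b ⁻¹ᵁ V.unop) :=
      le_of_eq (by rw [← Scheme.Hom.comp_preimage, ← Scheme.Hom.comp_preimage, hsq])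
    have h1 : h.app (f ⁻¹ᵁ V.unop) (f.app V.unop c) =
        f'.appLE (b ⁻¹ᵁ V.unop) (h ⁻¹ᵁ (f ⁻¹ᵁ V.unop)) e (b.app V.unop c) := by
      rw [← CommRingCat.comp_apply, ← CommRingCat.comp_apply]
      have h2 : f.app V.unop ≫ h.app (f ⁻¹ᵁ V.unop) =
          b.app V.unop ≫ f'.appLE (b ⁻¹ᵁ V.unop) (h ⁻¹ᵁ (f ⁻¹ᵁ V.unop)) e := by
        rw [← Scheme.Hom.comp_appLE, ← Scheme.Hom.comp_app, Scheme.Hom.app_eq_appLE]
        exact _root_.OmegaSh.appLE_congr_hom hsq.symm _ _
      exact congr($h2 c)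
    rw [h1]
    exact der_appLE D e _

theorem homEquiv_app_diffCompat (h : X' ⟶ X) {Ω : X.Modules} (d : Der f Ω) {Ω' : X'.Modules}
    (c : (Scheme.Modules.pullback h).obj Ω ⟶ Ω') (U : X.Opens) (a : Γ(X, U)) :
    ((Scheme.Modules.pullbackPushforwardAdjunction h).homEquiv Ω Ω' c).app U (d.app U a) =
      c.app (h ⁻¹ᵁ U) (pullSect h Ω U (d.app U a)) := by
  rw [Adjunction.homEquiv_unit]
  rfl

theorem isDiffCompat_iff (h : X' ⟶ X) (b : S' ⟶ S) (hsq : f' ≫ b = h ≫ f) {Ω : X.Modules} (d : Der f Ω)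
    {Ω' : X'.Modules} (d' : Der f' Ω') (c : (Scheme.Modules.pullback h).obj Ω ⟶ Ω') :
    IsDiffCompat h d d' c ↔
      d.postcomp ((Scheme.Modules.pullbackPushforwardAdjunction h).homEquiv Ω Ω' c).val =
        pushDerSq h b hsq d' := by
  constructor
  · intro hc
    refine PresheafOfModules.Derivation.ext ?_
    ext U a
    exact (homEquiv_app_diffCompat h d c U.unop a).trans (hc U.unop a)
  · intro hc U a
    exact (homEquiv_app_diffCompat h d c U a).symm.trans
      (congrArg (fun E : Der f _ => E.app U a) hc)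

theorem existsUnique_diffCompat (h : X' ⟶ X) (b : S' ⟶ S) (hsq : f' ≫ b = h ≫ f) {Ω : X.Modules}
    {d : Der f Ω} (hd : IsUniversal d) {Ω' : X'.Modules} (d' : Der f' Ω') :
    ∃! c : (Scheme.Modules.pullback h).obj Ω ⟶ Ω', IsDiffCompat h d d' c := by
  let adj := Scheme.Modules.pullbackPushforwardAdjunction h
  obtain ⟨α, hα, huniq⟩ := hd _ (pushDerSq h b hsq d')
  refine ⟨(adj.homEquiv Ω Ω').symm α, ?_, fun c hc => ?_⟩
  · show IsDiffCompat h d d' _
    rw [isDiffCompat_iff h b hsq, Equiv.apply_symm_apply]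
    exact hα
  · rw [← huniq _ ((isDiffCompat_iff h b hsq d d' c).mp hc), Equiv.symm_apply_apply]

end Groth.L19.OmegaSh
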