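import Groth.Agent.L19.OmegaSh.ConormalDiff

/-!
# The conormal sequence of an immersion with a retraction splits
-/

set_option autoImplicit false
set_option linter.style.haveILetI false
set_option backward.isDefEq.respectTransparency.types false
set_option backward.isDefEq.respectTransparency false

universe u

open CategoryTheory CategoryTheory.Limits AlgebraicGeometry TopologicalSpace Opposite

noncomputable section

namespace Groth.L19.OmegaSh

open Groth.L18.Frame (rs ro rs_rs ro_ro rs_smul ro_self rs_self)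
open _root_.OmegaSh (Der IsUniversal IsDiffCompat IsConormalDiff idealSect pullSect conormalSect)

variable {Z X S : Scheme.{u}} {f : X ⟶ S} {i : Z ⟶ X} [IsImmersion i] [QuasiCompact i] {g : X ⟶ Z}
  (hgi : i ≫ g = 𝟙 Z) (hgS : g ≫ i ≫ f = f)

/-- The open on which `a - g♯ i♯ a` makes sense. -/
abbrev retrOpen (i : Z ⟶ X) (g : X ⟶ Z) (U : X.Opens) : X.Opens := U ⊓ g ⁻¹ᵁ (i ⁻¹ᵁ U)

omit [IsImmersion i] [QuasiCompact i] in
include hgi in
theorem le_retrOpen (U : X.Opens) : i ⁻¹ᵁ U ≤ i ⁻¹ᵁ retrOpen i g U := fun z hz =>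
  ⟨hz, by
    show (i ≫ g) z ∈ i ⁻¹ᵁ U
    rw [hgi]
    exact hz⟩

/-- `a - g♯ i♯ a`. -/
def retrDiff (i : Z ⟶ X) (g : X ⟶ Z) (U : X.Opens) (a : Γ(X, U)) : Γ(X, retrOpen i g U) :=
  ro inf_le_left a - g.appLE (i ⁻¹ᵁ U) (retrOpen i g U) inf_le_right (i.app U a)

omit [IsImmersion i] [QuasiCompact i] in
include hgi in
theorem app_retrDiff (U : X.Opens) (a : Γ(X, U)) : i.app (retrOpen i g U) (retrDiff i g U a) = 0 := by
  rw [retrDiff, map_sub, sub_eq_zero, app_ro, Scheme.Hom.app_eq_appLE i (U := retrOpen i g U),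
    ← CommRingCat.comp_apply (g.appLE _ _ _), Scheme.Hom.appLE_comp_appLE,
    _root_.OmegaSh.appLE_congr_hom hgi _ (Scheme.Hom.preimage_mono i inf_le_left),
    _root_.OmegaSh.id_appLE_eq rfl _ (Scheme.Hom.preimage_mono i inf_le_left)]

theorem retrDiff_mul (i : Z ⟶ X) (g : X ⟶ Z) (U : X.Opens) (a b : Γ(X, U)) :
    retrDiff i g U (a * b) = ro inf_le_left a * retrDiff i g U b + ro inf_le_left b * retrDiff i g U a -
      retrDiff i g U a * retrDiff i g U b := by
  simp only [retrDiff, map_mul]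
  ring

theorem retrDiff_res (i : Z ⟶ X) (g : X ⟶ Z) {U U' : X.Opens} (h : U' ≤ U) (a : Γ(X, U)) :
    retrDiff i g U' (ro h a) = ro (inf_le_inf h (Scheme.Hom.preimage_mono g (Scheme.Hom.preimage_mono i h)))
      (retrDiff i g U a) := by
  rw [retrDiff, retrDiff, app_ro]
  refine Eq.trans ?_ (map_sub _ _ _).symm
  refine congrArg₂ (· - ·) ?_ ?_
  · exact (ro_ro _ _ _).trans (ro_ro _ _ _).symm
  · refine Eq.trans (congr($(Scheme.Hom.map_appLE g (inf_le_right : retrOpen i g U' ≤ g ⁻¹ᵁ (i ⁻¹ᵁ U'))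
      (homOfLE (Scheme.Hom.preimage_mono i h)).op) (i.app U a))) ?_
    exact (congr($(Scheme.Hom.appLE_map g (inf_le_right : retrOpen i g U ≤ g ⁻¹ᵁ (i ⁻¹ᵁ U))
      (homOfLE (inf_le_inf h (Scheme.Hom.preimage_mono g (Scheme.Hom.preimage_mono i h)))).op) (i.app U a))).symm

omit [IsImmersion i] [QuasiCompact i] in
include hgS in
theorem retrDiff_app (V : S.Opens) (c : Γ(S, V)) : retrDiff i g (f ⁻¹ᵁ V) (f.app V c) = 0 := by
  rw [retrDiff, sub_eq_zero]
  have e : i ⁻¹ᵁ (f ⁻¹ᵁ V) ≤ (i ≫ f) ⁻¹ᵁ V := (Scheme.Hom.comp_preimage _ _ _).ge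
  have e' : retrOpen i g (f ⁻¹ᵁ V) ≤ (g ≫ i ≫ f) ⁻¹ᵁ V := by rw [hgS]; exact inf_le_left
  rw [Scheme.Hom.app_eq_appLE i, ← CommRingCat.comp_apply, Scheme.Hom.app_eq_appLE, ← CommRingCat.comp_apply,
    ← Category.assoc (f.appLE _ _ _), Scheme.Hom.appLE_comp_appLE, Scheme.Hom.appLE_comp_appLE,
    _root_.OmegaSh.appLE_congr_hom hgS _
      (inf_le_left : retrOpen i g (f ⁻¹ᵁ V) ≤ f ⁻¹ᵁ V)]
  exact congr($(Scheme.Hom.appLE_map f le_rfl (homOfLE (inf_le_left : retrOpen i g (f ⁻¹ᵁ V) ≤ f ⁻¹ᵁ V)).op) c)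

/-- The class of `a - g♯ i♯ a`. -/
def retrVal (U : X.Opens) (a : Γ(X, U)) : Γ(Omega.conormal i, i ⁻¹ᵁ U) :=
  rs (Omega.conormal i) (le_retrOpen hgi U)
    (conormalSect i (retrOpen i g U) (exists_idealSect i _ _ (app_retrDiff hgi U a)).choose)

omit [IsImmersion i] in
theorem retrVal_eq {U : X.Opens} {a : Γ(X, U)} (s : Γ(idl i, retrOpen i g U))
    (hs : idealSect i.ker (retrOpen i g U) s = retrDiff i g U a) :
    retrVal hgi U a = rs (Omega.conormal i) (le_retrOpen hgi U) (conormalSect i (retrOpen i g U) s) := by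
  rw [retrVal, idealSect_injective i _ ((exists_idealSect i _ _ (app_retrDiff hgi U a)).choose_spec.trans hs.symm)]

/-- The derivation `a ↦ class of a - g♯ i♯ a`. -/
def retrDer : Der f ((Scheme.Modules.pushforward i).obj (Omega.conormal i)) where
  d {U} := AddMonoidHom.mk' (fun a => retrVal hgi U.unop a) fun (a b : Γ(X, U.unop)) => by
    obtain ⟨sa, ha⟩ := exists_idealSect i _ _ (app_retrDiff hgi U.unop a)
    obtain ⟨sb, hb⟩ := exists_idealSect i _ _ (app_retrDiff hgi U.unop b)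
    show retrVal hgi U.unop (a + b) = retrVal hgi U.unop a + retrVal hgi U.unop b
    rw [retrVal_eq hgi (sa + sb), retrVal_eq hgi sa ha, retrVal_eq hgi sb hb, map_add (conormalSect i _).hom]
    · exact map_add _ _ _
    · rw [map_add, ha, hb]
      simp only [retrDiff, map_add]
      ring
  d_mul {U} (a b : Γ(X, U.unop)) := by
    obtain ⟨sa, ha⟩ := exists_idealSect i _ _ (app_retrDiff hgi U.unop a)
    obtain ⟨sb, hb⟩ := exists_idealSect i _ _ (app_retrDiff hgi U.unop b)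
    show retrVal hgi U.unop (a * b) = i.app U.unop a • retrVal hgi U.unop b + i.app U.unop b • retrVal hgi U.unop a
    rw [retrVal_eq hgi (ro (inf_le_left : retrOpen i g U.unop ≤ U.unop) a • sb + ro (inf_le_left : retrOpen i g U.unop ≤ U.unop) b • sa - idealSect i.ker _ sa • sb),
      retrVal_eq hgi sa ha, retrVal_eq hgi sb hb, map_sub (conormalSect i _).hom, map_add (conormalSect i _).hom,
      conormalSect_smul, conormalSect_smul, conormalSect_smul, app_idealSect, zero_smul, sub_zero]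
    · refine (map_add _ _ _).trans ?_
      refine congrArg₂ (· + ·) ?_ ?_ <;>
        exact (rs_smul _ _ _ _).trans (congrArg (· • _) (by rw [app_ro, ro_ro, ro_self]))
    · rw [map_sub (idealSect i.ker _), map_add (idealSect i.ker _), idealSect_smul, idealSect_smul, idealSect_smul,
        ha, hb, retrDiff_mul]
  d_map {U V} h a := by
    obtain ⟨sa, ha⟩ := exists_idealSect i _ _ (app_retrDiff hgi U.unop a)
    show retrVal hgi V.unop (ro h.unop.le a) =
      rs (Omega.conormal i) (Scheme.Hom.preimage_mono i h.unop.le) (retrVal hgi U.unop a)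
    rw [retrVal_eq hgi (rs (idl i) (inf_le_inf h.unop.le
      (Scheme.Hom.preimage_mono g (Scheme.Hom.preimage_mono i h.unop.le))) sa) (by rw [idealSect_rs, ha, retrDiff_res]),
      retrVal_eq hgi sa ha, conormalSect_rs, rs_rs, rs_rs]
  d_app {V} c := by
    show retrVal hgi (f ⁻¹ᵁ V.unop) (f.app V.unop c) = 0
    rw [retrVal_eq hgi 0 (by rw [map_zero, retrDiff_app hgS]), map_zero]
    exact map_zero _

omit [IsImmersion i] in
include hgi hgS in
theorem exists_retraction {ΩX : X.Modules} {dX : Der f ΩX} (hX : IsUniversal dX)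
    (φ : Omega.conormal i ⟶ (Scheme.Modules.pullback i).obj ΩX) (hφ : IsConormalDiff i dX φ) :
    ∃ r : (Scheme.Modules.pullback i).obj ΩX ⟶ Omega.conormal i, φ ≫ r = 𝟙 _ := by
  let adj := Scheme.Modules.pullbackPushforwardAdjunction i
  obtain ⟨ρ, hρ, -⟩ := hX _ (retrDer hgi hgS)
  refine ⟨(adj.homEquiv _ _).symm ρ, conormal_hom_ext fun U s => ?_⟩
  refine (congrArg (((adj.homEquiv _ _).symm ρ).app (i ⁻¹ᵁ U)) (hφ U s)).trans ?_
  refine (homEquiv_app_diffCompat i dX _ U _).symm.trans ?_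
  rw [Equiv.apply_symm_apply]
  refine (congrArg (fun E : Der f _ => E.app U (idealSect i.ker U s)) hρ).trans ?_
  show retrVal hgi U (idealSect i.ker U s) = _
  rw [retrVal_eq hgi (rs (idl i) inf_le_left s) (by rw [idealSect_rs, retrDiff, app_idealSect, map_zero, sub_zero]),
    conormalSect_rs, rs_rs, rs_self]
  rfl

omit [IsImmersion i] [QuasiCompact i] in
include hgi hgS in
theorem exists_section {ΩX : X.Modules} (dX : Der f ΩX)
    {ΩZ : Z.Modules} {dZ : Der (i ≫ f) ΩZ} (hZ : IsUniversal dZ)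
    (c : (Scheme.Modules.pullback i).obj ΩX ⟶ ΩZ) (hc : IsDiffCompat i dX dZ c) :
    ∃ σ : ΩZ ⟶ (Scheme.Modules.pullback i).obj ΩX, σ ≫ c = 𝟙 _ := by
  let E := pushDerSq g (𝟙 S) (f := i ≫ f) (f' := f) (by rw [Category.comp_id, hgS]) dX
  have hle : ∀ V : Z.Opens, V ≤ i ⁻¹ᵁ (g ⁻¹ᵁ V) := fun V z hz => by
    show (i ≫ g) z ∈ V
    rw [hgi]
    exact hz
  let D : Der (i ≫ f) ((Scheme.Modules.pullback i).obj ΩX) :=
    { d := fun {V} => (((Scheme.Modules.pullback i).obj ΩX).presheaf.map (homOfLE (hle V.unop)).op).hom.comp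
        ((pullSect i ΩX (g ⁻¹ᵁ V.unop)).hom.comp (E.app V.unop))
      d_mul := fun {V} (a b : Γ(Z, V.unop)) => by
        show rs _ (hle V.unop) (pullSect i ΩX (g ⁻¹ᵁ V.unop) (dX.app _ (g.app V.unop (a * b)))) = _
        rw [map_mul, der_mul, map_add, _root_.OmegaSh.pullSect_smul, _root_.OmegaSh.pullSect_smul]
        refine (map_add _ _ _).trans ?_
        have h1 : ∀ c : Γ(Z, V.unop), ro (hle V.unop) (i.app (g ⁻¹ᵁ V.unop) (g.app V.unop c)) = c := by
          intro c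
          refine Eq.trans ?_ (ro_self le_rfl c)
          rw [← CommRingCat.comp_apply, ← Scheme.Hom.comp_app]
          show (i ≫ g).appLE V.unop V.unop (hle V.unop) c = _
          rw [_root_.OmegaSh.id_appLE_eq hgi (hle V.unop) le_rfl]
        refine congrArg₂ (· + ·) ?_ ?_ <;> exact (rs_smul _ _ _ _).trans (congrArg (· • _) (h1 _))
      d_map := fun {V V'} h a => by
        show rs _ (hle V'.unop) (pullSect i ΩX (g ⁻¹ᵁ V'.unop) (E.app V'.unop (ro h.unop.le a))) =
          rs _ h.unop.le (rs _ (hle V.unop) (pullSect i ΩX (g ⁻¹ᵁ V.unop) (E.app V.unop a)))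
        rw [der_map, rs_rs]
        refine (congrArg (rs _ (hle V'.unop)) (_root_.OmegaSh.pullSect_map i ΩX
          (Scheme.Hom.preimage_mono g h.unop.le) (E.app V.unop a))).trans ?_
        exact rs_rs _ _ _ _
      d_app := fun {V} c => by
        show rs _ (hle _) (pullSect i ΩX (g ⁻¹ᵁ ((i ≫ f) ⁻¹ᵁ V.unop)) (E.app ((i ≫ f) ⁻¹ᵁ V.unop) ((i ≫ f).app V.unop c))) = 0
        rw [show E.app ((i ≫ f) ⁻¹ᵁ V.unop) ((i ≫ f).app V.unop c) = 0 from E.d_app (X := op V.unop) c]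
        exact (congrArg _ (map_zero _)).trans (map_zero _) }
  obtain ⟨σ, hσ, -⟩ := hZ _ D
  obtain ⟨v, -, hv⟩ := hZ ΩZ dZ
  refine ⟨σ, (hv _ ?_).trans (hv (𝟙 ΩZ) rfl).symm⟩
  refine PresheafOfModules.Derivation.ext ?_
  ext V a
  refine (congrArg (c.app V.unop) (congrArg (fun E' : Der (i ≫ f) _ => E'.app V.unop a) hσ)).trans ?_
  show c.app V.unop (rs _ (hle V.unop) (pullSect i ΩX (g ⁻¹ᵁ V.unop) (dX.app _ (g.app V.unop a)))) = dZ.app V.unop a
  rw [hom_rs, hc, ← der_map]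
  refine congrArg _ ?_
  rw [← CommRingCat.comp_apply, ← Scheme.Hom.comp_app]
  show (i ≫ g).appLE V.unop V.unop (hle V.unop) a = a
  rw [_root_.OmegaSh.id_appLE_eq hgi (hle V.unop) le_rfl]; exact ro_self le_rfl a

end Groth.L19.OmegaSh
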