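import Groth.Agent.L19.OmegaSh.Points

/-!
# Derivations along a morphism as points; criterion for the canonical map to be an isomorphism
-/

set_option autoImplicit false
set_option linter.style.haveILetI false
set_option backward.isDefEq.respectTransparency.types false
set_option backward.isDefEq.respectTransparency false

universe u

open CategoryTheory CategoryTheory.Limits AlgebraicGeometry TopologicalSpace Opposite

noncomputable section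

namespace Groth.L19.OmegaSh

open Groth.L18.Frame (rs ro rs_rs ro_ro rs_smul ro_self rs_self)
open _root_.OmegaSh (Der IsUniversal IsDiffCompat pullSect)

variable {X Q S : Scheme.{u}} {G : X.Modules}

theorem μ_specMap' {U : X.Opens} {W : Q.Opens} (hW : IsAffineOpen W) (φ : Γ(Q, W) ⟶ L G U) (Z : Q.Opens)
    (hZ : W ≤ Z) (e : ⊤ ≤ (Spec.map φ ≫ hW.fromSpec) ⁻¹ᵁ Z) (a : Γ(Q, Z)) :
    μ G (Spec.map φ ≫ hW.fromSpec) Z e a = snd' G (φ (ro hZ a)) := by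
  have h : τ G (Spec.map φ ≫ hW.fromSpec) Z e = Q.presheaf.map (homOfLE hZ).op ≫ φ := by
    have e2 : (⊤ : (Spec Γ(Q, W)).Opens) ≤ hW.fromSpec ⁻¹ᵁ Z :=
      hW.fromSpec_preimage_self.ge.trans (Scheme.Hom.preimage_mono _ hZ)
    have h1 : hW.fromSpec.appLE Z ⊤ e2 =
        Q.presheaf.map (homOfLE hZ).op ≫ (Scheme.ΓSpecIso Γ(Q, W)).inv := by
      rw [Scheme.Hom.appLE, hW.fromSpec_app_of_le Z hZ, Category.assoc, Category.assoc,
        ← Functor.map_comp]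
      exact congrArg (Q.presheaf.map (homOfLE hZ).op ≫ ·)
        ((congrArg ((Scheme.ΓSpecIso Γ(Q, W)).inv ≫ ·) ((Spec Γ(Q, W)).presheaf.map_id _)).trans
          (Category.comp_id _))
    rw [τ, ← Scheme.Hom.appLE_comp_appLE (Spec.map φ) hW.fromSpec Z ⊤ ⊤ e2 le_top, h1]
    simp only [Category.assoc]
    congr 1
    rw [← cancel_epi (Scheme.ΓSpecIso Γ(Q, W)).hom, Iso.hom_inv_id_assoc,
      ← Scheme.ΓSpecIso_naturality, Scheme.Hom.appTop, Scheme.Hom.app_eq_appLE]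
    rfl
  rw [μ, h]
  rfl

variable {h : X ⟶ Q} {p : Q ⟶ S} (E : Der p ((Scheme.Modules.pushforward h).obj G))

/-- The value of a derivation along `h` on an open of `X`. -/
def eVal (U : X.Opens) (W : Q.Opens) (e : U ≤ h ⁻¹ᵁ W) (a : Γ(Q, W)) : Γ(G, U) := rs G e (E.app W a)

theorem eVal_def (U : X.Opens) (W : Q.Opens) (e : U ≤ h ⁻¹ᵁ W) (a : Γ(Q, W)) :
    eVal E U W e a = rs G e (E.app W a) := rfl

theorem eVal_res {W W' : Q.Opens} (hW : W' ≤ W) {U : X.Opens} (e : U ≤ h ⁻¹ᵁ W') (a : Γ(Q, W)) :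
    eVal E U W' e (ro hW a) = eVal E U W (e.trans (Scheme.Hom.preimage_mono _ hW)) a := by
  rw [eVal_def, eVal_def, der_map]
  exact rs_rs G (Scheme.Hom.preimage_mono h hW) e (E.app W a)

/-- `a ↦ (h♯ a, E a)`. -/
def alongHom (U : X.Opens) (W : Q.Opens) (e : U ≤ h ⁻¹ᵁ W) : Γ(Q, W) ⟶ L G U :=
  liftHom G (h.appLE W U e) (((G.presheaf.map (homOfLE e).op).hom).comp (E.app W)) fun a b => by
    show rs G e (E.app W (a * b)) = h.appLE W U e a • eVal E U W e b + h.appLE W U e b • eVal E U W e a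
    rw [der_mul]
    exact (map_add (G.presheaf.map (homOfLE e).op).hom _ _).trans (congrArg₂ (· + ·)
      (rs_smul G e (h.app W a) (E.app W b)) (rs_smul G e (h.app W b) (E.app W a)))

theorem alongHom_prL (U : X.Opens) (W : Q.Opens) (e : U ≤ h ⁻¹ᵁ W) :
    alongHom E U W e ≫ prL G U = h.appLE W U e := by
  ext a; exact fst_mk G _ _

theorem alongHom_resL {U U' : X.Opens} (hU : U' ≤ U) (W : Q.Opens) (e : U ≤ h ⁻¹ᵁ W) :
    alongHom E U W e ≫ resL G hU = alongHom E U' W (hU.trans e) := by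
  ext a
  refine ext G ?_ ?_
  · simp only [CommRingCat.hom_comp, RingHom.comp_apply, fst_resL]
    refine (congrArg (ro hU) (fst_mk G _ _)).trans (Eq.trans ?_ (fst_mk G _ _).symm)
    exact congr($(Scheme.Hom.appLE_map h e (homOfLE hU).op) a)
  · simp only [CommRingCat.hom_comp, RingHom.comp_apply, snd_resL]
    refine (congrArg (rs G hU) (snd_mk G _ _)).trans (Eq.trans ?_ (snd_mk G _ _).symm)
    exact rs_rs G _ _ _

/-- The point of a derivation along `h`. -/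
def ePt (U : X.affineOpens) (W : Q.affineOpens) (e : U.1 ≤ h ⁻¹ᵁ W.1) : Spec (L G U.1) ⟶ Q :=
  Spec.map (alongHom E U.1 W.1 e) ≫ W.2.fromSpec

theorem prL_ePt (U : X.affineOpens) (W : Q.affineOpens) (e : U.1 ≤ h ⁻¹ᵁ W.1) :
    Spec.map (prL G U.1) ≫ ePt E U W e = U.2.fromSpec ≫ h := by
  rw [ePt, ← Spec.map_comp_assoc, alongHom_prL, IsAffineOpen.SpecMap_appLE_fromSpec h W.2 U.2 e]

theorem resL_ePt {U U' : X.affineOpens} (hU : U'.1 ≤ U.1) (W : Q.affineOpens) (e : U.1 ≤ h ⁻¹ᵁ W.1) :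
    Spec.map (resL G hU) ≫ ePt E U W e = ePt E U' W (hU.trans e) := by
  rw [ePt, ePt, ← Spec.map_comp_assoc, alongHom_resL]

theorem ePt_le (U : X.affineOpens) {W W' : Q.affineOpens} (hW : W'.1 ≤ W.1) (e : U.1 ≤ h ⁻¹ᵁ W'.1) :
    ePt E U W' e = ePt E U W (e.trans (Scheme.Hom.preimage_mono _ hW)) := by
  rw [ePt, ePt, ← IsAffineOpen.map_fromSpec W.2 W'.2 (homOfLE hW).op, ← Spec.map_comp_assoc]
  congr 2
  ext a
  refine ext G ((fst_mk G _ _).trans (Eq.trans ?_ (fst_mk G _ _).symm))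
    ((snd_mk G _ _).trans (Eq.trans ?_ (snd_mk G _ _).symm))
  · exact congr($(Scheme.Hom.map_appLE h e (homOfLE hW).op) a)
  · exact eVal_res E hW e a

theorem top_le_ePt (U : X.affineOpens) (W : Q.affineOpens) (e : U.1 ≤ h ⁻¹ᵁ W.1) {Z : Q.Opens}
    (hZ : U.1 ≤ h ⁻¹ᵁ Z) : ⊤ ≤ ePt E U W e ⁻¹ᵁ Z :=
  top_le_of_prL _ h (prL_ePt E U W e) hZ

theorem μ_ePt (U : X.affineOpens) (W : Q.affineOpens) (e : U.1 ≤ h ⁻¹ᵁ W.1) (Z : Q.Opens)
    (hZ : U.1 ≤ h ⁻¹ᵁ Z) (a : Γ(Q, Z)) :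
    μ G (ePt E U W e) Z (top_le_ePt E U W e hZ) a = eVal E U.1 Z hZ a := by
  refine eq_of_basis (fun U' => ∀ (_ : U'.1 ≤ U.1),
    ∃ W' : Q.affineOpens, W'.1 ≤ W.1 ∧ W'.1 ≤ Z ∧ U'.1 ≤ h ⁻¹ᵁ W'.1) ?_ _ _ fun U' p hU' => ?_
  · intro x O hx
    by_cases hxU : x ∈ U.1
    · obtain ⟨_, ⟨W', hW', rfl⟩, hxW', hW'le⟩ :=
        Q.isBasis_affineOpens.exists_subset_of_mem_open (show h x ∈ W.1 ⊓ Z from ⟨e hxU, hZ hxU⟩) (W.1 ⊓ Z).2
      obtain ⟨_, ⟨U', hU', rfl⟩, hxU', hU'le⟩ :=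
        X.isBasis_affineOpens.exists_subset_of_mem_open (show x ∈ O ⊓ h ⁻¹ᵁ W' from ⟨hx, hxW'⟩) (O ⊓ h ⁻¹ᵁ W').2
      exact ⟨⟨U', hU'⟩, fun _ => ⟨⟨W', hW'⟩, fun z hz => (hW'le hz).1, fun z hz => (hW'le hz).2,
        fun z hz => (hU'le hz).2⟩, hxU', fun z hz => (hU'le hz).1⟩
    · obtain ⟨_, ⟨U', hU', rfl⟩, hxU', hU'le⟩ := X.isBasis_affineOpens.exists_subset_of_mem_open hx O.2
      exact ⟨⟨U', hU'⟩, fun hle => (hxU (hle hxU')).elim, hxU', hU'le⟩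
  · obtain ⟨W', hW, hW'Z, e'⟩ := p hU'
    have hq : Spec.map (resL G hU') ≫ ePt E U W e = ePt E U' W' e' := by rw [resL_ePt, ePt_le E U' hW e']
    rw [eVal_def, rs_rs, ← μ_res G hU' (ePt E U W e) (ePt E U' W' e') hq le_rfl (top_le_ePt E U W e hZ)
      (top_le_ePt E U' W' e' (hU'.trans hZ)), ro_self]
    refine (μ_specMap' W'.2 _ Z hW'Z _ a).trans ((snd_mk G _ _).trans ?_)
    exact eVal_res E hW'Z e' a

/-- A point with the reduction and values of `E` is the point of `E`. -/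
theorem eq_ePt (U : X.affineOpens) (W : Q.affineOpens) (e : U.1 ≤ h ⁻¹ᵁ W.1) (q : Spec (L G U.1) ⟶ Q)
    (hq : Spec.map (prL G U.1) ≫ q = U.2.fromSpec ≫ h)
    (hv : ∀ a : Γ(Q, W.1), μ G q W.1 (top_le_of_prL q h hq e) a = eVal E U.1 W.1 e a) : q = ePt E U W e :=
  point_ext U.2 _ _ h hq (prL_ePt E U W e) W.2 (top_le_of_prL q h hq e) (top_le_ePt E U W e e) e
    fun a => (hv a).trans (μ_ePt E U W e W.1 e a).symm

theorem ePt_indep (U : X.affineOpens) (W W' : Q.affineOpens) (e : U.1 ≤ h ⁻¹ᵁ W.1) (e' : U.1 ≤ h ⁻¹ᵁ W'.1) :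
    ePt E U W e = ePt E U W' e' :=
  eq_ePt E U W' e' _ (prL_ePt E U W e) fun a => μ_ePt E U W e W'.1 e' a

theorem ePt_base (U : X.affineOpens) (W : Q.affineOpens) (e : U.1 ≤ h ⁻¹ᵁ W.1) (hW : Good p W) :
    ePt E U W e ≫ p = (Spec.map (inlL G U.1) ≫ U.2.fromSpec) ≫ h ≫ p := by
  obtain ⟨V, eV⟩ := hW
  simp only [ePt, Category.assoc]
  rw [← IsAffineOpen.SpecMap_appLE_fromSpec p V.2 W.2 eV]
  have e2 : U.1 ≤ (h ≫ p) ⁻¹ᵁ V.1 := e.trans (Scheme.Hom.preimage_mono _ eV)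
  rw [← IsAffineOpen.SpecMap_appLE_fromSpec (h ≫ p) V.2 U.2 e2, ← Spec.map_comp_assoc, ← Spec.map_comp_assoc]
  congr 2
  ext c
  refine ext G ?_ ?_
  · refine (fst_mk G _ _).trans (Eq.trans ?_ (fst_mk G _ _).symm)
    exact congr($(Scheme.Hom.appLE_comp_appLE h p V.1 W.1 U.1 eV e) c)
  · refine (snd_mk G _ _).trans (Eq.trans ?_ (snd_mk G _ _).symm)
    show rs G e (E.app W.1 (p.appLE V.1 W.1 eV c)) = 0
    rw [der_appLE E eV c]
    exact map_zero _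

section Push

variable {X' S' : Scheme.{u}} {f : Q ⟶ S} {f' : X' ⟶ S'} {g : X' ⟶ Q} {b : S' ⟶ S} {M : X'.Modules}

theorem eVal_pushDerSq (hsq : f' ≫ b = g ≫ f) (D : Der f' M) {U : X'.Opens} {W : Q.Opens} (e : U ≤ g ⁻¹ᵁ W)
    (a : Γ(Q, W)) : eVal (pushDerSq g b hsq D) U W e a = rs M e (D.app (g ⁻¹ᵁ W) (g.app W a)) := rfl

theorem prL_dPt_comp (D : Der f' M) (U : X'.affineOpens) (g : X' ⟶ Q) :
    Spec.map (prL M U.1) ≫ dPt D U ≫ g = U.2.fromSpec ≫ g := by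
  rw [← Category.assoc, prL_dPt]

theorem μ_dPt_comp (D : Der f' M) (U : X'.affineOpens) (g : X' ⟶ Q) {W : Q.Opens} (e : U.1 ≤ g ⁻¹ᵁ W)
    (a : Γ(Q, W)) :
    μ M (dPt D U ≫ g) W (top_le_of_prL _ g (prL_dPt_comp D U g) e) a =
      rs M e (D.app (g ⁻¹ᵁ W) (g.app W a)) := by
  rw [μ_comp M (dPt D U) g (W := g ⁻¹ᵁ W) (top_le_of_prL_id _ (prL_dPt D U) e) le_rfl
    (top_le_of_prL _ g (prL_dPt_comp D U g) e) a, ← Scheme.Hom.app_eq_appLE, μ_dPt D U e, der_map]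

theorem dPt_comp (hsq : f' ≫ b = g ≫ f) (D : Der f' M) (U : X'.affineOpens) (W : Q.affineOpens)
    (e : U.1 ≤ g ⁻¹ᵁ W.1) : dPt D U ≫ g = ePt (pushDerSq g b hsq D) U W e :=
  eq_ePt _ U W e _ (prL_dPt_comp D U g) fun a => μ_dPt_comp D U g e a

end Push

section Yoneda

variable {X' S' : Scheme.{u}} {f : Q ⟶ S} {f' : X' ⟶ S'}

theorem isDiffCompat_postcomp (g : X' ⟶ Q) {Ω : Q.Modules} {d : Der f Ω} {Ω' N : X'.Modules} {d' : Der f' Ω'}
    {c : (Scheme.Modules.pullback g).obj Ω ⟶ Ω'} (hc : IsDiffCompat g d d' c) (α : Ω' ⟶ N) :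
    IsDiffCompat g d (d'.postcomp α.val) (c ≫ α) := fun U s => congrArg (α.app (g ⁻¹ᵁ U)) (hc U s)

/-- The canonical map is an isomorphism as soon as derivations correspond bijectively. -/
theorem isIso_of_pushDerSq_bijective (g : X' ⟶ Q) (b : S' ⟶ S) (hsq : f' ≫ b = g ≫ f)
    {Ω : Q.Modules} {d : Der f Ω} (hd : IsUniversal d) {Ω' : X'.Modules} {d' : Der f' Ω'} (hd' : IsUniversal d')
    {c : (Scheme.Modules.pullback g).obj Ω ⟶ Ω'} (hc : IsDiffCompat g d d' c)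
    (h : ∀ N : X'.Modules, Function.Bijective (fun D : Der f' N => pushDerSq g b hsq D)) : IsIso c := by
  let adj := Scheme.Modules.pullbackPushforwardAdjunction g
  obtain ⟨D, hD⟩ := (h _).2 (d.postcomp (adj.homEquiv Ω _ (𝟙 _)).val)
  obtain ⟨α, hα, -⟩ := hd' _ D
  have h1 : c ≫ α = 𝟙 _ := by
    obtain ⟨c₀, -, huniq⟩ := existsUnique_diffCompat g b hsq hd D
    refine (huniq _ ?_).trans (huniq _ ?_).symm
    · exact hα ▸ isDiffCompat_postcomp g hc α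
    · exact (isDiffCompat_iff g b hsq d D _).mpr hD.symm
  refine ⟨⟨α, h1, ?_⟩⟩
  obtain ⟨v, -, hv⟩ := hd' Ω' d'
  have h2 : pushDerSq g b hsq (d'.postcomp (α ≫ c).val) = pushDerSq g b hsq d' := by
    rw [← (isDiffCompat_iff g b hsq d _ _).mp (isDiffCompat_postcomp g hc (α ≫ c)),
      ← (isDiffCompat_iff g b hsq d d' c).mp hc, reassoc_of% h1]
  exact (hv _ ((h Ω').1 h2)).trans (hv (𝟙 Ω') rfl).symm

end Yoneda

end Groth.L19.OmegaSh
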