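import Groth.Agent.L19.OmegaSh.ConormalDiff
import Groth.Agent.L19.OmegaSh.ConormalSplit
import Groth.Agent.L29.LocFree
import Groth.Agent.S9386
import Mathlib.CategoryTheory.Monoidal.Cartesian.Over
import Mathlib.CategoryTheory.Monoidal.Cartesian.Grp
import Mathlib.AlgebraicGeometry.Morphisms.Immersion

/-!
# Differentials of a group scheme
-/

set_option autoImplicit false
set_option linter.style.haveILetI false
set_option backward.isDefEq.respectTransparency.types false
set_option backward.isDefEq.respectTransparency false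

universe u

open CategoryTheory CategoryTheory.Limits AlgebraicGeometry TopologicalSpace Opposite

noncomputable section

namespace Groth.L19.OmegaSh

open Groth.L18.Frame (rs ro rs_smul)
open _root_.OmegaSh (Der IsUniversal IsDiffCompat IsConormalDiff idealSect pullSect conormalSect)

variable {X Y S : Scheme.{u}}

theorem isZero_of_isUniversal_of_eq_id {f : X ⟶ X} (hf : f = 𝟙 X) {Ω : X.Modules} {d : Der f Ω}
    (hd : IsUniversal d) : IsZero Ω := by
  subst hf
  have hz : ∀ {G : X.Modules} (D D' : Der (𝟙 X) G), D = D' := by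
    intro G D D'
    refine PresheafOfModules.Derivation.ext ?_
    ext U a
    exact (D.d_app (X := U) a).trans (D'.d_app (X := U) a).symm
  rw [IsZero.iff_id_eq_zero]
  obtain ⟨v, -, hv⟩ := hd Ω d
  exact (hv _ (hz _ _)).trans (hv _ (hz _ _)).symm

theorem exists_conormalDiff {f : X ⟶ Y} {Z : Scheme.{u}} (i : Z ⟶ X) {Ω : X.Modules}
    (d : Der f Ω) :
    ∃ φ : Omega.conormal i ⟶ (Scheme.Modules.pullback i).obj Ω, IsConormalDiff i d φ := by
  refine exists_conormal_hom (fun U s => pullSect i Ω U (d.app U (idealSect i.ker U s)))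
    (fun U s t => ?_) (fun U r s => ?_) (fun U U' h s => ?_)
  · rw [map_add, map_add, map_add]
  · rw [idealSect_smul, der_mul, map_add, _root_.OmegaSh.pullSect_smul,
      _root_.OmegaSh.pullSect_smul, app_idealSect, zero_smul, add_zero]
  · rw [idealSect_rs, der_map]
    exact _root_.OmegaSh.pullSect_map i Ω h _

theorem nonempty_conormal_iso_pullback {f : X ⟶ S} [QuasiSeparated f] (e : S ⟶ X) (he : e ≫ f = 𝟙 S)
    [IsImmersion e] [QuasiCompact e] {Ω : X.Modules} {d : Der f Ω} (hd : IsUniversal d) :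
    Nonempty (Omega.conormal e ≅ (Scheme.Modules.pullback e).obj Ω) := by
  haveI : QuasiSeparated (e ≫ f) := by rw [he]; infer_instance
  obtain ⟨φ, hφ⟩ := exists_conormalDiff e d
  have hd₀ := isUniversal_dOmega (f := e ≫ f)
  obtain ⟨c, hc, -⟩ := existsUnique_diffCompat (f := f) (f' := e ≫ f) e (𝟙 S) (Category.comp_id _) hd
    (_root_.OmegaSh.dOmega (e ≫ f))
  obtain ⟨w, hex, -⟩ := exact_conormal_diff e hd hd₀ φ hφ c hc
  have hz : c = 0 := (isZero_of_isUniversal_of_eq_id he hd₀).eq_of_tgt _ _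
  haveI : Epi φ := hex.epi_f hz
  obtain ⟨r, hr⟩ := exists_retraction (f := f) (i := e) (g := f) he
    (by rw [he, Category.comp_id]) hd φ hφ
  haveI : IsSplitMono φ := ⟨⟨⟨r, hr⟩⟩⟩
  haveI : IsIso φ := isIso_of_epi_of_isSplitMono φ
  exact ⟨asIso φ⟩

/-- translation invariance of the differentials, for a source map possibly different from the target -/
theorem nonempty_iso_pullback_of_shear₂ {U R : Scheme.{u}} {t σ : R ⟶ U} [QuasiSeparated t] (e : U ⟶ R)
    {P : Scheme.{u}} (p q m : P ⟶ R) (hq : IsPullback q p t σ) (hm : IsPullback m p t t)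
    (s : R ⟶ P) (hsq : s ≫ q = σ ≫ e) (hsm : s ≫ m = 𝟙 R)
    {Ω : R.Modules} {d : Der t Ω} (hd : IsUniversal d) :
    Nonempty (Ω ≅ (Scheme.Modules.pullback σ).obj ((Scheme.Modules.pullback e).obj Ω)) := by
  haveI : QuasiSeparated p := MorphismProperty.of_isPullback (P := @QuasiSeparated) hm inferInstance
  have hp := isUniversal_dOmega (f := p)
  obtain ⟨c₁, hc₁, -⟩ := existsUnique_diffCompat (f := t) (f' := p) q σ hq.w.symm hd
    (_root_.OmegaSh.dOmega p)
  obtain ⟨c₂, hc₂, -⟩ := existsUnique_diffCompat (f := t) (f' := p) m t hm.w.symm hd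
    (_root_.OmegaSh.dOmega p)
  haveI := Groth.Agent.S9386.result t σ q p hq Ω d hd _ _ hp c₁ hc₁
  haveI := Groth.Agent.S9386.result t t m p hm Ω d hd _ _ hp c₂ hc₂
  let e₁ : (Scheme.Modules.pullback q).obj Ω ≅ (Scheme.Modules.pullback m).obj Ω :=
    asIso c₁ ≪≫ (asIso c₂).symm
  exact ⟨(Scheme.Modules.pullbackId R).symm.app Ω ≪≫ (Scheme.Modules.pullbackCongr hsm.symm).app Ω ≪≫
    ((Scheme.Modules.pullbackComp s m).app Ω).symm ≪≫ (Scheme.Modules.pullback s).mapIso e₁.symm ≪≫
    (Scheme.Modules.pullbackComp s q).app Ω ≪≫ (Scheme.Modules.pullbackCongr hsq).app Ω ≪≫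
    ((Scheme.Modules.pullbackComp σ e).app Ω).symm⟩

/-- translation invariance of the differentials -/
theorem nonempty_iso_pullback_of_shear {f : X ⟶ S} [QuasiSeparated f] (e : S ⟶ X) (_he : e ≫ f = 𝟙 S)
    {P : Scheme.{u}} (p q m : P ⟶ X) (hq : IsPullback q p f f) (hm : IsPullback m p f f)
    (s : X ⟶ P) (hsq : s ≫ q = f ≫ e) (hsm : s ≫ m = 𝟙 X)
    {Ω : X.Modules} {d : Der f Ω} (hd : IsUniversal d) :
    Nonempty (Ω ≅ (Scheme.Modules.pullback f).obj ((Scheme.Modules.pullback e).obj Ω)) :=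
  nonempty_iso_pullback_of_shear₂ e p q m hq hm s hsq hsm hd

section Group

open MonoidalCategory CartesianMonoidalCategory MonObj

attribute [local instance] Over.cartesianMonoidalCategory

theorem exists_shear (G : Over S) [GrpObj G] :
    ∃ (P : Scheme.{u}) (p q m : P ⟶ G.left) (s : G.left ⟶ P),
      IsPullback q p G.hom G.hom ∧ IsPullback m p G.hom G.hom ∧
      s ≫ q = G.hom ≫ η[G].left ∧ s ≫ m = 𝟙 G.left := by
  let a : G ⊗ G ⟶ G := fst G G
  let b : G ⊗ G ⟶ G := snd G G
  let τ : G ⊗ G ≅ G ⊗ G :=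
    { hom := lift a (a * b)
      inv := lift a (a⁻¹ * b)
      hom_inv_id := by
        apply hom_ext
        · simp [a, b]
        · simp [a, b, comp_mul, GrpObj.comp_inv]
      inv_hom_id := by
        apply hom_ext
        · simp [a, b]
        · simp [a, b, comp_mul, GrpObj.comp_inv] }
  let t : G ⟶ G ⊗ G := lift (𝟙 G) (toUnit G ≫ η)
  have hτ : τ.hom.left ≫ pullback.fst G.hom G.hom = pullback.fst G.hom G.hom := by
    have h := congrArg CommaMorphism.left (lift_fst a (a * b))
    exact h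
  have hm : IsPullback (τ.hom.left ≫ pullback.snd G.hom G.hom) (pullback.fst G.hom G.hom)
      G.hom G.hom := by
    refine IsPullback.of_iso (IsPullback.of_hasPullback G.hom G.hom).flip
      ((Over.forget S).mapIso τ.symm) (Iso.refl _) (Iso.refl _) (Iso.refl _) ?_ ?_ (by simp) (by simp)
    · have h := congrArg (fun k => CommaMorphism.left k ≫ pullback.snd G.hom G.hom) τ.inv_hom_id
      simp only [Functor.mapIso_hom, Iso.symm_hom, Over.forget_map, Iso.refl_hom, Category.comp_id]
      exact (h.trans (Category.id_comp _)).symm.trans (Category.assoc _ _ _)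
    · simp only [Functor.mapIso_hom, Iso.symm_hom, Over.forget_map, Iso.refl_hom, Category.comp_id]
      exact (congrArg CommaMorphism.left (lift_fst a (a⁻¹ * b))).symm
  refine ⟨_, pullback.fst G.hom G.hom, pullback.snd G.hom G.hom, _, t.left,
    (IsPullback.of_hasPullback G.hom G.hom).flip, hm, ?_, ?_⟩
  · exact congrArg CommaMorphism.left (lift_snd (𝟙 G) (toUnit G ≫ η))
  · have h : t ≫ (a * b) = 𝟙 G := by
      simp [t, a, b, comp_mul, ← Hom.one_def]
    refine Eq.trans ?_ (congrArg CommaMorphism.left h)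
    rw [show t ≫ (a * b) = t ≫ τ.hom ≫ snd G G by simp [τ]]
    rfl

theorem omega_iso_pullback_conormal (G : Over S) [GrpObj G] [QuasiSeparated G.hom] :
    Nonempty (Omega.sheaf G.hom ≅ (Scheme.Modules.pullback G.hom).obj (Omega.conormal η[G].left)) := by
  have he : η[G].left ≫ G.hom = 𝟙 S := Over.w η[G]
  haveI : IsImmersion (η[G].left ≫ G.hom) := by rw [he]; exact MorphismProperty.id_mem @IsImmersion _
  haveI : IsImmersion η[G].left := IsImmersion.of_comp η[G].left G.hom
  haveI : QuasiCompact (η[G].left ≫ G.hom) := by rw [he]; exact MorphismProperty.id_mem @QuasiCompact _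
  haveI : QuasiCompact η[G].left := QuasiCompact.of_comp η[G].left G.hom
  have hd := isUniversal_dOmega (f := G.hom)
  obtain ⟨e₁⟩ := nonempty_conormal_iso_pullback η[G].left he hd
  obtain ⟨P, p, q, m, s, hq, hm, hsq, hsm⟩ := exists_shear G
  obtain ⟨e₂⟩ := nonempty_iso_pullback_of_shear η[G].left he p q m hq hm s hsq hsm hd
  exact ⟨e₂ ≪≫ (Scheme.Modules.pullback G.hom).mapIso e₁.symm⟩

end Group

/-- over a field every module is free -/
theorem isIso_fromTildeΓ_of_field {R : CommRingCat.{u}} [Subsingleton (PrimeSpectrum R)]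
    (M : (Spec R).Modules) :
    IsIso M.fromTildeΓ := by
  let φ := modulesSpecToSheaf.map M.fromTildeΓ
  haveI : Subsingleton (PrimeSpectrum.Top R) := ‹Subsingleton (PrimeSpectrum R)›
  have htop : IsIso (φ.hom.app (op ⊤)) := by
    have h := Scheme.Modules.toOpen_fromTildeΓ_app M ⊤
    rw [show (homOfLE le_top : (⊤ : (Spec R).Opens) ⟶ ⊤).op = 𝟙 _ from rfl,
      CategoryTheory.Functor.map_id] at h
    exact IsIso.of_isIso_fac_left h
  haveI : ∀ U : (Opens (PrimeSpectrum.Top R))ᵒᵖ, IsIso (φ.hom.app U) := by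
    intro U
    induction U using Opposite.rec with
    | op U =>
      by_cases h : ∃ x, x ∈ U
      · obtain ⟨x, hx⟩ := h
        obtain rfl : U = ⊤ := TopologicalSpace.Opens.ext (Set.eq_univ_of_forall fun y => by
          rw [Subsingleton.elim y x]; exact hx)
        exact htop
      · obtain rfl : U = ⊥ := TopologicalSpace.Opens.ext (Set.eq_empty_of_forall_notMem fun y hy => h ⟨y, hy⟩)
        exact ⟨(TopCat.Sheaf.isTerminalOfEmpty _).from _, (TopCat.Sheaf.isTerminalOfEmpty _).hom_ext _ _,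
          (TopCat.Sheaf.isTerminalOfEmpty _).hom_ext _ _⟩
  haveI : IsIso φ.hom := NatIso.isIso_of_isIso_app _
  haveI : IsIso φ := by
    haveI : IsIso ((TopCat.Sheaf.forget _ _).map φ) := ‹IsIso φ.hom›
    exact isIso_of_reflects_iso φ (TopCat.Sheaf.forget _ _)
  exact isIso_of_reflects_iso M.fromTildeΓ modulesSpecToSheaf

theorem exists_iso_free {R : CommRingCat.{u}} [Subsingleton (PrimeSpectrum R)]
    (M : (Spec R).Modules) (hfree : ∀ V : ModuleCat.{u} R, Module.Free R V) :
    ∃ I : Type u, Nonempty (M ≅ SheafOfModules.free.{u} I) := by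
  haveI := isIso_fromTildeΓ_of_field M
  let V : ModuleCat.{u} R := (modulesSpecToSheaf.obj M).presheaf.obj (op ⊤)
  haveI := hfree V
  let b := Module.Free.chooseBasis R V
  exact ⟨_, ⟨(asIso M.fromTildeΓ).symm ≪≫ (tilde.functor R).mapIso b.repr.toModuleIso ≪≫
    tildeFinsupp (R := R) (Module.Free.ChooseBasisIndex R V)⟩⟩

theorem exists_iso_free_pullback {X S : Scheme.{u}} (f : X ⟶ S) {K : Type u} [Field K]
    (e : S ≅ Spec (CommRingCat.of K)) (C : S.Modules) :
    ∃ I : Type u, Nonempty ((Scheme.Modules.pullback f).obj C ≅ ∐ fun _ : I => Coh.structureModule X) := by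
  obtain ⟨I, ⟨e₁⟩⟩ := exists_iso_free ((Scheme.Modules.pullback e.inv).obj C)
    (fun V => Module.Free.of_divisionRing (K := K) (V := V))
  refine ⟨I, ⟨?_⟩⟩
  let e₂ : C ≅ (Scheme.Modules.pullback e.hom).obj (SheafOfModules.free.{u} I) :=
    (Scheme.Modules.pullbackId S).symm.app C ≪≫
      (Scheme.Modules.pullbackCongr e.hom_inv_id.symm).app C ≪≫
      ((Scheme.Modules.pullbackComp e.hom e.inv).app C).symm ≪≫
      (Scheme.Modules.pullback e.hom).mapIso e₁
  exact (Scheme.Modules.pullback f).mapIso e₂ ≪≫ (Scheme.Modules.pullbackComp f e.hom).app _ ≪≫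
    PreservesCoproduct.iso (Scheme.Modules.pullback (f ≫ e.hom)) (fun _ : I => Coh.structureModule _) ≪≫
    Sigma.mapIso fun _ => Groth.L29.LocFree.pullbackUnitIso (f ≫ e.hom)

end Groth.L19.OmegaSh
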