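import Groth.Agent.L19.OmegaSh.Unramified

/-!
# Derivations as compatible families of infinitesimal points
-/

set_option autoImplicit false
set_option linter.style.haveILetI false
set_option backward.isDefEq.respectTransparency.types false
set_option backward.isDefEq.respectTransparency false

universe u

open CategoryTheory CategoryTheory.Limits AlgebraicGeometry TopologicalSpace Opposite

noncomputable section

namespace Groth.L19.OmegaSh

open Groth.L18.Frame (rs ro rs_rs ro_ro rs_smul ro_self rs_self)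
open _root_.OmegaSh (Der)

variable {X Y : Scheme.{u}} {G : X.Modules}

/-- A point with values in `U ⋉ G` landing in an affine open is read off from `τ`. -/
theorem eq_specMap_τ {Q : Scheme.{u}} {U : X.Opens} (q : Spec (L G U) ⟶ Q) {W : Q.Opens}
    (hW : IsAffineOpen W) (e : ⊤ ≤ q ⁻¹ᵁ W) : q = Spec.map (τ G q W e) ≫ hW.fromSpec := by
  have hr : Set.range q ⊆ Set.range hW.fromSpec := by
    rw [hW.range_fromSpec]
    rintro _ ⟨z, rfl⟩
    exact e trivial
  obtain ⟨ψ, hψ⟩ : ∃ ψ, Spec.map ψ ≫ hW.fromSpec = q :=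
    ⟨Spec.preimage (IsOpenImmersion.lift hW.fromSpec q hr), by rw [Spec.map_preimage, IsOpenImmersion.lift_fac]⟩
  subst hψ
  congr 2
  have h1 : hW.fromSpec.appLE W ⊤ hW.fromSpec_preimage_self.ge = (Scheme.ΓSpecIso Γ(Q, W)).inv := by
    rw [Scheme.Hom.appLE, hW.fromSpec_app_self, Category.assoc, ← Functor.map_comp]
    exact (congrArg ((Scheme.ΓSpecIso Γ(Q, W)).inv ≫ ·) ((Spec Γ(Q, W)).presheaf.map_id _)).trans
      (Category.comp_id _)
  rw [τ, ← Scheme.Hom.appLE_comp_appLE (Spec.map ψ) hW.fromSpec W ⊤ ⊤ hW.fromSpec_preimage_self.ge le_top, h1]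
  simp only [Category.assoc]
  rw [show (Spec.map ψ).appLE ⊤ ⊤ le_top = (Spec.map ψ).appTop from (Scheme.Hom.app_eq_appLE _).symm,
    Scheme.ΓSpecIso_naturality, Iso.inv_hom_id_assoc]

/-- Points with the same reduction and the same values agree. -/
theorem point_ext {Q : Scheme.{u}} {U : X.Opens} (hU : IsAffineOpen U) (q q' : Spec (L G U) ⟶ Q) (g : X ⟶ Q)
    (hq : Spec.map (prL G U) ≫ q = hU.fromSpec ≫ g) (hq' : Spec.map (prL G U) ≫ q' = hU.fromSpec ≫ g)
    {W : Q.Opens} (hW : IsAffineOpen W) (e : ⊤ ≤ q ⁻¹ᵁ W) (e' : ⊤ ≤ q' ⁻¹ᵁ W) (hUW : U ≤ g ⁻¹ᵁ W)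
    (h : ∀ a, μ G q W e a = μ G q' W e' a) : q = q' := by
  rw [eq_specMap_τ q hW e, eq_specMap_τ q' hW e']
  congr 2
  ext a
  refine ext G ?_ (h a)
  exact (congr($(τ_fst G hU q g hq W e hUW) a)).trans (congr($(τ_fst G hU q' g hq' W e' hUW) a)).symm

theorem top_le_of_prL {Q : Scheme.{u}} {U : X.affineOpens} (q : Spec (L G U.1) ⟶ Q) (g : X ⟶ Q)
    (hq : Spec.map (prL G U.1) ≫ q = U.2.fromSpec ≫ g) {Z : Q.Opens} (h : U.1 ≤ g ⁻¹ᵁ Z) : ⊤ ≤ q ⁻¹ᵁ Z := by
  refine le_preimage_of_range G q Z fun z _ => ?_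
  rw [hq]
  exact h (U.2.range_fromSpec.le ⟨z, rfl⟩)

theorem top_le_of_prL_id {U : X.affineOpens} (q : Spec (L G U.1) ⟶ X)
    (hq : Spec.map (prL G U.1) ≫ q = U.2.fromSpec) {Z : X.Opens} (h : U.1 ≤ Z) : ⊤ ≤ q ⁻¹ᵁ Z :=
  top_le_of_prL q (𝟙 X) (hq.trans (Category.comp_id _).symm) h

/-- A compatible family of infinitesimal retractions. -/
structure PointFam (f : X ⟶ Y) (G : X.Modules) where
  /-- the affine opens on which the family is given -/
  P : X.affineOpens → Prop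
  exists_P : ∀ (x : X) (O : X.Opens), x ∈ O → ∃ U, P U ∧ x ∈ U.1 ∧ U.1 ≤ O
  /-- the points -/
  r : ∀ U : X.affineOpens, P U → (Spec (L G U.1) ⟶ X)
  prL_r : ∀ U p, Spec.map (prL G U.1) ≫ r U p = U.2.fromSpec
  resL_r : ∀ U U' p p' (h : U'.1 ≤ U.1), Spec.map (resL G h) ≫ r U p = r U' p'
  r_base : ∀ U p, r U p ≫ f = (Spec.map (inlL G U.1) ≫ U.2.fromSpec) ≫ f

variable {f : X ⟶ Y}

/-- The point of a derivation on an affine open. -/
def dPt (D : Der f G) (U : X.affineOpens) : Spec (L G U.1) ⟶ X := Spec.map (dHom D U.1) ≫ U.2.fromSpec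

theorem prL_dPt (D : Der f G) (U : X.affineOpens) : Spec.map (prL G U.1) ≫ dPt D U = U.2.fromSpec := by
  rw [dPt, ← Spec.map_comp_assoc, dHom_prL, Spec.map_id, Category.id_comp]

theorem resL_dPt (D : Der f G) {U U' : X.affineOpens} (h : U'.1 ≤ U.1) :
    Spec.map (resL G h) ≫ dPt D U = dPt D U' := by
  rw [dPt, dPt, ← Spec.map_comp_assoc, dHom_resL, Spec.map_comp_assoc, IsAffineOpen.map_fromSpec]

theorem dPt_base (D : Der f G) {U : X.affineOpens} (hU : Good f U) :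
    dPt D U ≫ f = (Spec.map (inlL G U.1) ≫ U.2.fromSpec) ≫ f :=
  (good_comm D hU).symm

theorem μ_dPt (D : Der f G) (U : X.affineOpens) {Z : X.Opens} (h : U.1 ≤ Z) (a : Γ(X, Z)) :
    μ G (dPt D U) Z (top_le_of_prL_id _ (prL_dPt D U) h) a = D.app U.1 (ro h a) := by
  rw [show μ G (dPt D U) Z (top_le_of_prL_id _ (prL_dPt D U) h) a =
    μ G (Spec.map (dHom D U.1) ≫ U.2.fromSpec) Z (top_le_of_prL_id _ (prL_dPt D U) h) a from rfl,
    μ_specMap U.2 _ Z h]
  exact snd_mk G _ _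

theorem eq_of_basis (P : X.affineOpens → Prop)
    (hP : ∀ (x : X) (O : X.Opens), x ∈ O → ∃ U, P U ∧ x ∈ U.1 ∧ U.1 ≤ O)
    {Z : X.Opens} (s t : Γ(G, Z)) (h : ∀ (U : X.affineOpens) (_ : P U) (hU : U.1 ≤ Z), rs G hU s = rs G hU t) :
    s = t := by
  obtain ⟨w, -, hw⟩ := existsUnique_glue G P hP Z (fun U _ hU => rs G hU s)
    (fun U U' _ _ hZ hZ' hUU' => rs_rs G hZ hUU' s)
  exact (hw s fun _ _ _ => rfl).trans (hw t fun U p hU => (h U p hU).symm).symm

/-- Derivations with the same points on a basis are equal. -/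
theorem der_ext_points (D D' : Der f G) (P : X.affineOpens → Prop)
    (hP : ∀ (x : X) (O : X.Opens), x ∈ O → ∃ U, P U ∧ x ∈ U.1 ∧ U.1 ≤ O)
    (h : ∀ U, P U → dPt D U = dPt D' U) : D = D' := by
  refine PresheafOfModules.Derivation.ext ?_
  ext Z a
  refine eq_of_basis P hP _ _ fun U p hU => ?_
  show rs G hU (D.app Z.unop a) = rs G hU (D'.app Z.unop a)
  rw [← der_map, ← der_map, ← μ_dPt D U hU, ← μ_dPt D' U hU]
  exact congrArg (snd' G) (congr($(τ_congr G (h U p) Z.unop _ _) a))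

namespace PointFam

variable (F : PointFam f G)

theorem existsUnique_val (Z : X.Opens) (a : Γ(X, Z)) :
    ∃! t : Γ(G, Z), ∀ (U : X.affineOpens) (p : F.P U) (h : U.1 ≤ Z),
      rs G h t = μ G (F.r U p) Z (top_le_of_prL_id _ (F.prL_r U p) h) a :=
  existsUnique_glue G F.P F.exists_P Z
    (fun U p h => μ G (F.r U p) Z (top_le_of_prL_id _ (F.prL_r U p) h) a)
    fun U U' p p' hZ hZ' h => by
      rw [← μ_res G h (F.r U p) (F.r U' p') (F.resL_r U U' p p' h) le_rfl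
        (top_le_of_prL_id _ (F.prL_r U p) hZ) (top_le_of_prL_id _ (F.prL_r U' p') hZ'), ro_self]

def val (Z : X.Opens) (a : Γ(X, Z)) : Γ(G, Z) := (F.existsUnique_val Z a).choose

theorem val_spec (Z : X.Opens) (a : Γ(X, Z)) (U : X.affineOpens) (p : F.P U) (h : U.1 ≤ Z) :
    rs G h (F.val Z a) = μ G (F.r U p) Z (top_le_of_prL_id _ (F.prL_r U p) h) a :=
  (F.existsUnique_val Z a).choose_spec.1 U p h

theorem id_appLE' {Z U : X.Opens} (h : U ≤ Z) (a : Γ(X, Z)) :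
    (𝟙 X : X ⟶ X).appLE Z U h a = ro h a := by
  rw [_root_.OmegaSh.id_appLE_eq rfl h h]

/-- The derivation of a family of points. -/
def der : Der f G where
  d {Z} := AddMonoidHom.mk' (fun a => F.val Z.unop a) fun a b => eq_of_basis F.P F.exists_P _ _ fun U p h => by
    rw [val_spec F _ _ U p, μ_add]
    refine Eq.trans ?_ (map_add _ _ _).symm
    rw [← F.val_spec Z.unop a U p h, ← F.val_spec Z.unop b U p h]
  d_mul {Z} (a b : Γ(X, Z.unop)) := eq_of_basis F.P F.exists_P _ _ fun U p h => by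
    show rs G h (F.val Z.unop (a * b)) =
      rs G h ((a • F.val Z.unop b : Γ(G, Z.unop)) + b • F.val Z.unop a)
    rw [val_spec F _ _ U p, μ_mul G U.2 _ (𝟙 X) ((F.prL_r U p).trans (Category.comp_id _).symm) _ _ h,
      id_appLE', id_appLE']
    refine Eq.trans ?_ (map_add _ _ _).symm
    show _ = rs G h (a • F.val Z.unop b : Γ(G, Z.unop)) + rs G h (b • F.val Z.unop a : Γ(G, Z.unop))
    rw [rs_smul, rs_smul, val_spec F _ _ U p, val_spec F _ _ U p]
  d_map {Z Z'} i a := eq_of_basis F.P F.exists_P _ _ fun U p h => by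
    show rs G h (F.val Z'.unop (ro i.unop.le a)) = rs G h (rs G i.unop.le (F.val Z.unop a))
    rw [rs_rs, val_spec F _ _ U p, val_spec F _ _ U p,
      μ_res G le_rfl (F.r U p) (F.r U p) (F.resL_r U U p p le_rfl)
      i.unop.le (top_le_of_prL_id _ (F.prL_r U p) (h.trans i.unop.le)), rs_self]
  d_app {V} c := eq_of_basis F.P F.exists_P _ _ fun U p h => by
    show rs G h (F.val (f ⁻¹ᵁ V.unop) (f.app V.unop c)) = rs G h 0
    refine (F.val_spec _ _ U p h).trans ?_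
    refine Eq.trans ?_ (map_zero _).symm
    have hr := F.r_base U p
    have e0 : ⊤ ≤ F.r U p ⁻¹ᵁ (f ⁻¹ᵁ V.unop) := top_le_of_prL_id _ (F.prL_r U p) h
    have e : ⊤ ≤ (F.r U p ≫ f) ⁻¹ᵁ V.unop := e0
    have e' : ⊤ ≤ ((Spec.map (inlL G U.1) ≫ U.2.fromSpec) ≫ f) ⁻¹ᵁ V.unop := hr ▸ e
    have h1 := μ_comp G (F.r U p) f (W := f ⁻¹ᵁ V.unop) e0 le_rfl e c
    rw [← Scheme.Hom.app_eq_appLE] at h1
    rw [← h1]
    refine (congrArg (snd' G) (congr($(τ_congr G hr V.unop e e') c))).trans ?_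
    have e'' : ⊤ ≤ (Spec.map (inlL G U.1) ≫ U.2.fromSpec) ⁻¹ᵁ (f ⁻¹ᵁ V.unop) := e'
    refine (μ_comp G _ f (W := f ⁻¹ᵁ V.unop) e'' le_rfl e' c).trans ?_
    rw [μ_specMap U.2 _ _ h]
    exact snd_mk G _ _

theorem dPt_der (U : X.affineOpens) (p : F.P U) : dPt F.der U = F.r U p := by
  have h1 := (prL_dPt F.der U).trans (Category.comp_id _).symm
  have h2 := (F.prL_r U p).trans (Category.comp_id _).symm
  refine point_ext U.2 _ _ (𝟙 X) h1 h2 U.2 (top_le_of_prL _ _ h1 le_rfl) (top_le_of_prL _ _ h2 le_rfl) le_rfl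
    fun a => ?_
  refine (μ_dPt F.der U le_rfl a).trans ?_
  rw [ro_self]
  exact (rs_self G le_rfl _).symm.trans (F.val_spec U.1 a U p le_rfl)

end PointFam

end Groth.L19.OmegaSh
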