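import Groth.Agent.L19.OmegaSh.Conormal

/-!
# The functorial maps between conormal sheaves
-/

set_option autoImplicit false
set_option linter.style.haveILetI false
set_option backward.isDefEq.respectTransparency.types false
set_option backward.isDefEq.respectTransparency false

universe u

open CategoryTheory CategoryTheory.Limits AlgebraicGeometry TopologicalSpace Opposite

noncomputable section

namespace Groth.L19.OmegaSh

open Groth.L18.Frame (rs ro rs_rs ro_ro rs_smul ro_self rs_self)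
open _root_.OmegaSh (idealSect pullSect conormalSect IsConormalMap)

/-- Pulling back along the identity does nothing to sections. -/
theorem pullbackId_hom_pullSect {Z : Scheme.{u}} (M : Z.Modules) (U : Z.Opens) (m : Γ(M, U)) :
    ((Scheme.Modules.pullbackId Z).hom.app M).app U (pullSect (𝟙 Z) M U m) = m := by
  have h := unit_conjugateEquiv Adjunction.id (Scheme.Modules.pullbackPushforwardAdjunction (𝟙 Z))
    (Scheme.Modules.pullbackId Z).hom M
  rw [Scheme.Modules.conjugateEquiv_pullbackId_hom] at h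
  exact (congr($(congrArg (fun β => Scheme.Modules.Hom.app β U) h) m)).symm

theorem pullbackId_inv_app {Z : Scheme.{u}} (M : Z.Modules) (U : Z.Opens) (m : Γ(M, U)) :
    ((Scheme.Modules.pullbackId Z).inv.app M).app U m = pullSect (𝟙 Z) M U m := by
  conv_lhs => rw [← pullbackId_hom_pullSect M U m]
  exact congr($(congrArg (fun β => Scheme.Modules.Hom.app β U) ((Scheme.Modules.pullbackId Z).hom_inv_id_app M))
    (pullSect (𝟙 Z) M U m))

variable {Z X Z' X' : Scheme.{u}} {i : Z ⟶ X} {i' : Z' ⟶ X'} {g : X ⟶ X'} {gZ : Z ⟶ Z'}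

theorem preimage_comm (hsq : gZ ≫ i' = i ≫ g) (U' : X'.Opens) : gZ ⁻¹ᵁ (i' ⁻¹ᵁ U') = i ⁻¹ᵁ (g ⁻¹ᵁ U') := by
  rw [← Scheme.Hom.comp_preimage, ← Scheme.Hom.comp_preimage, hsq]

theorem app_pull_idealSect (hsq : gZ ≫ i' = i ≫ g) (U' : X'.Opens) (s' : Γ(idl i', U')) :
    i.app (g ⁻¹ᵁ U') (g.app U' (idealSect i'.ker U' s')) = 0 := by
  have h1 : (gZ ≫ i').app U' (idealSect i'.ker U' s') = 0 := by
    rw [Scheme.Hom.comp_app, CommRingCat.comp_apply, app_idealSect]
    exact map_zero _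
  have h2 : (gZ ≫ i').appLE U' (i ⁻¹ᵁ (g ⁻¹ᵁ U')) (preimage_comm hsq U').ge (idealSect i'.ker U' s') = 0 := by
    rw [Scheme.Hom.appLE, CommRingCat.comp_apply, h1]
    exact map_zero _
  rw [_root_.OmegaSh.appLE_congr_hom hsq _
    (show i ⁻¹ᵁ (g ⁻¹ᵁ U') ≤ (i ≫ g) ⁻¹ᵁ U' from (Scheme.Hom.comp_preimage _ _ _).ge)] at h2
  refine Eq.trans ?_ h2
  rw [Scheme.Hom.app_eq_appLE, Scheme.Hom.app_eq_appLE, ← CommRingCat.comp_apply, Scheme.Hom.appLE_comp_appLE]

theorem exists_conormalMap_val [QuasiCompact i] (hsq : gZ ≫ i' = i ≫ g) (U' : X'.Opens) (s' : Γ(idl i', U')) :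
    ∃ s : Γ(idl i, g ⁻¹ᵁ U'), idealSect i.ker (g ⁻¹ᵁ U') s = g.app U' (idealSect i'.ker U' s') :=
  exists_idealSect i _ _ (app_pull_idealSect hsq U' s')

/-- The class of `g♯ s'`. -/
def cVal [QuasiCompact i] (hsq : gZ ≫ i' = i ≫ g) (U' : X'.Opens) (s' : Γ(idl i', U')) :
    Γ(Omega.conormal i, gZ ⁻¹ᵁ (i' ⁻¹ᵁ U')) :=
  rs (Omega.conormal i) (preimage_comm hsq U').le
    (conormalSect i (g ⁻¹ᵁ U') (exists_conormalMap_val hsq U' s').choose)

theorem cVal_eq [QuasiCompact i] (hsq : gZ ≫ i' = i ≫ g) {U' : X'.Opens} {s' : Γ(idl i', U')}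
    (s : Γ(idl i, g ⁻¹ᵁ U')) (hs : idealSect i.ker (g ⁻¹ᵁ U') s = g.app U' (idealSect i'.ker U' s')) :
    cVal hsq U' s' = rs (Omega.conormal i) (preimage_comm hsq U').le (conormalSect i (g ⁻¹ᵁ U') s) := by
  rw [cVal, idealSect_injective i _ ((exists_conormalMap_val hsq U' s').choose_spec.trans hs.symm)]

theorem homEquiv_app_conormalSect (φ : (Scheme.Modules.pullback gZ).obj (Omega.conormal i') ⟶ Omega.conormal i)
    (U' : X'.Opens) (s' : Γ(idl i', U')) :
    ((Scheme.Modules.pullbackPushforwardAdjunction gZ).homEquiv _ _ φ).app (i' ⁻¹ᵁ U') (conormalSect i' U' s') =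
      φ.app (gZ ⁻¹ᵁ (i' ⁻¹ᵁ U')) (pullSect gZ (Omega.conormal i') (i' ⁻¹ᵁ U') (conormalSect i' U' s')) := by
  rw [Adjunction.homEquiv_unit]
  rfl

theorem conormalMap_value [QuasiCompact i] (hsq : gZ ≫ i' = i ≫ g)
    {φ : (Scheme.Modules.pullback gZ).obj (Omega.conormal i') ⟶ Omega.conormal i}
    (hφ : IsConormalMap i i' g gZ φ) (U' : X'.Opens) (s' : Γ(idl i', U')) :
    φ.app (gZ ⁻¹ᵁ (i' ⁻¹ᵁ U')) (pullSect gZ (Omega.conormal i') (i' ⁻¹ᵁ U') (conormalSect i' U' s')) =
      cVal hsq U' s' :=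
  (rs_self (Omega.conormal i) le_rfl _).symm.trans
    (hφ.2 U' s' _ (exists_conormalMap_val hsq U' s').choose_spec (gZ ⁻¹ᵁ (i' ⁻¹ᵁ U')) le_rfl (preimage_comm hsq U').le)

/-- The map of conormal sheaves exists and is unique. -/
theorem existsUnique_conormalMap [QuasiCompact i] (hsq : gZ ≫ i' = i ≫ g) :
    ∃! φ : (Scheme.Modules.pullback gZ).obj (Omega.conormal i') ⟶ Omega.conormal i, IsConormalMap i i' g gZ φ := by
  obtain ⟨α, hα⟩ := exists_conormal_hom (i := i') (N := (Scheme.Modules.pushforward gZ).obj (Omega.conormal i))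
    (fun U' s' => cVal hsq U' s')
    (fun U' s t => by
      rw [cVal_eq hsq ((exists_conormalMap_val hsq U' s).choose + (exists_conormalMap_val hsq U' t).choose)
        (by rw [map_add, (exists_conormalMap_val hsq U' s).choose_spec,
          (exists_conormalMap_val hsq U' t).choose_spec, map_add, map_add]), map_add]
      exact map_add _ _ _)
    (fun U' r s => by
      rw [cVal_eq hsq (g.app U' r • (exists_conormalMap_val hsq U' s).choose)
        (by rw [idealSect_smul, (exists_conormalMap_val hsq U' s).choose_spec, idealSect_smul, map_mul]),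
        conormalSect_smul, rs_smul]
      show _ = gZ.app (i' ⁻¹ᵁ U') (i'.app U' r) • cVal hsq U' s
      rw [cVal]
      congr 1
      have h1 : i.app (g ⁻¹ᵁ U') (g.app U' r) = (i ≫ g).appLE U' (i ⁻¹ᵁ (g ⁻¹ᵁ U')) le_rfl r := by
        rw [Scheme.Hom.app_eq_appLE, Scheme.Hom.app_eq_appLE, ← CommRingCat.comp_apply, Scheme.Hom.appLE_comp_appLE]
      have h2 : gZ.app (i' ⁻¹ᵁ U') (i'.app U' r) = (gZ ≫ i').appLE U' (gZ ⁻¹ᵁ (i' ⁻¹ᵁ U')) le_rfl r := by
        rw [Scheme.Hom.app_eq_appLE, Scheme.Hom.app_eq_appLE, ← CommRingCat.comp_apply, Scheme.Hom.appLE_comp_appLE]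
      rw [h1, h2, ← _root_.OmegaSh.appLE_congr_hom hsq.symm (preimage_comm hsq U').le le_rfl]
      exact congr($(Scheme.Hom.appLE_map (i ≫ g) le_rfl (homOfLE (preimage_comm hsq U').le).op) r))
    (fun U₁ U₂ h s => by
      rw [cVal_eq hsq (rs (idl i) (Scheme.Hom.preimage_mono g h) (exists_conormalMap_val hsq U₁ s).choose)
        (by rw [idealSect_rs, (exists_conormalMap_val hsq U₁ s).choose_spec, idealSect_rs, app_ro]),
        conormalSect_rs, rs_rs]
      exact (rs_rs (Omega.conormal i) (preimage_comm hsq U₁).le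
        (Scheme.Hom.preimage_mono gZ (Scheme.Hom.preimage_mono i' h)) _).symm)
  let adj := Scheme.Modules.pullbackPushforwardAdjunction gZ
  refine ⟨(adj.homEquiv _ _).symm α, ⟨hsq, fun U' s' s hs V h₁ h₂ => ?_⟩, fun φ hφ => ?_⟩
  · rw [← homEquiv_app_conormalSect, Equiv.apply_symm_apply, hα U' s', cVal_eq hsq s hs]
    exact rs_rs (Omega.conormal i) _ h₁ _
  · apply (adj.homEquiv _ _).injective
    rw [Equiv.apply_symm_apply]
    exact conormal_hom_ext fun U' s' =>
      (homEquiv_app_conormalSect φ U' s').trans ((conormalMap_value hsq hφ U' s').trans (hα U' s').symm)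

section Id

variable {Y : Scheme.{u}} {j : Z ⟶ Y} {p : X ⟶ Y}

/-- The value of a conormal map over the identity of `Z`, after removing the pullback. -/
theorem conormalMap_id_value [QuasiCompact i] (hsq : 𝟙 Z ≫ j = i ≫ p)
    {φ : (Scheme.Modules.pullback (𝟙 Z)).obj (Omega.conormal j) ⟶ Omega.conormal i}
    (hφ : IsConormalMap i j p (𝟙 Z) φ) (U : Y.Opens) (s : Γ(idl j, U)) :
    ((Scheme.Modules.pullbackId Z).inv.app (Omega.conormal j) ≫ φ).app (j ⁻¹ᵁ U) (conormalSect j U s) =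
      cVal hsq U s := by
  refine Eq.trans ?_ (conormalMap_value hsq hφ U s)
  exact congrArg (φ.app (j ⁻¹ᵁ U)) (pullbackId_inv_app _ _ _)

end Id

end Groth.L19.OmegaSh
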