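import Groth.Agent.L19.OmegaSh.Unramified
import Groth.Prelude.Def_OmAff

/-!
# Sections of the sheaf of differentials over affine opens
-/

set_option autoImplicit false
set_option linter.style.haveILetI false
set_option backward.isDefEq.respectTransparency.types false
set_option backward.isDefEq.respectTransparency false

universe u

open CategoryTheory CategoryTheory.Limits AlgebraicGeometry TopologicalSpace Opposite

noncomputable section

namespace Groth.L19.OmegaSh

open Groth.L18.Frame (rs ro rs_rs ro_ro rs_smul ro_self rs_self)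
open _root_.OmegaSh (dOmega dSect)

theorem toOpen_smul {A : CommRingCat.{u}} (M : ModuleCat.{u} A) (a : A) (m : M) :
    (show Γ(tilde M, ⊤) from (tilde.toOpen M ⊤).hom (a • m)) =
      (Scheme.ΓSpecIso A).inv a • (show Γ(tilde M, ⊤) from (tilde.toOpen M ⊤).hom m) := by
  refine ((tilde.toOpen M ⊤).hom.map_smul _ _).trans ?_
  refine (Scheme.Modules.smul_Spec_def a _).trans ?_
  exact congrArg (· • (show Γ(tilde M, ⊤) from (tilde.toOpen M ⊤).hom m)) (ro_self _ _)

theorem bijective_toOpen_top {A : CommRingCat.{u}} (M : ModuleCat.{u} A) :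
    Function.Bijective fun m : M => (show Γ(tilde M, ⊤) from tilde.toOpen M ⊤ m) :=
  ConcreteCategory.bijective_of_isIso (tilde.isoTop M).hom

theorem bijective_toSpec (A B : Type u) [CommRing A] [CommRing B] [Algebra A B] :
    Function.Bijective (_root_.OmAff.toSpec A B) := by
  obtain ⟨D, hD, hDa⟩ := exists_universal_tilde (Y := Spec (CommRingCat.of A)) (R := A) (A := B)
    (𝟙 (Spec (CommRingCat.of A))) (Spec.map (CommRingCat.ofHom (algebraMap A B))) (Category.comp_id _)
  obtain ⟨e, he⟩ := exists_iso_of_isUniversal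
    (isUniversal_dOmega (f := Spec.map (CommRingCat.ofHom (algebraMap A B)))) hD
  let M : ModuleCat.{u} (CommRingCat.of B) := ModuleCat.of B Ω[B⁄A]
  have key : ∀ x : Ω[B⁄A], e.hom.app ⊤ (_root_.OmAff.toSpec A B x) =
      (show Γ(tilde M, ⊤) from tilde.toOpen M ⊤ x) := by
    intro x
    have hx : x ∈ Submodule.span B (Set.range (KaehlerDifferential.D A B)) := by
      rw [KaehlerDifferential.span_range_derivation]; trivial
    induction hx using Submodule.span_induction with
    | mem y hy =>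
      obtain ⟨b, rfl⟩ := hy
      rw [_root_.OmAff.toSpec_D]
      exact (congrArg (fun E : _root_.OmegaSh.Der _ _ => E.app ⊤ (_root_.OmAff.toΓ B b)) he).trans (hDa b)
    | zero =>
      rw [map_zero, map_zero]
      exact (map_zero (tilde.toOpen M ⊤).hom).symm
    | add y z _ _ hy hz =>
      rw [map_add, map_add, hy, hz]
      exact (map_add (tilde.toOpen M ⊤).hom y z).symm
    | smul b y _ hy =>
      rw [LinearMap.map_smulₛₗ, Scheme.Modules.Hom.app_smul, hy]
      exact (toOpen_smul M b y).symm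
  refine (Function.Bijective.of_comp_iff' (ConcreteCategory.bijective_of_isIso (e.hom.app ⊤)) _).1 ?_
  rw [show (e.hom.app ⊤ ∘ _root_.OmAff.toSpec A B : Ω[B⁄A] → _) = fun x : M => (show Γ(tilde M, ⊤) from
    tilde.toOpen M ⊤ x) from funext key]
  exact bijective_toOpen_top M

theorem bijective_rs_of_eq {X : Scheme.{u}} (M : X.Modules) {U V : X.Opens} (h : V ≤ U) (h' : U ≤ V) :
    Function.Bijective (rs M h) :=
  ⟨fun a b e => by
    have := congrArg (rs M h') e
    rwa [rs_rs, rs_rs, rs_self, rs_self] at this,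
   fun b => ⟨rs M h' b, by rw [rs_rs, rs_self]⟩⟩

theorem isIso_toSect {X Y : Scheme.{u}} (f : X ⟶ Y) [QuasiSeparated f] (U : X.affineOpens) (V : Y.affineOpens)
    (h : U.1 ≤ f ⁻¹ᵁ V.1) : IsIso (_root_.OmAff.toSect f V.1 U.1 h) := by
  letI : Algebra Γ(Y, V.1) Γ(X, U.1) := (f.appLE V.1 U.1 h).hom.toAlgebra
  obtain ⟨i, hi⟩ := exists_chart_affine (isUniversal_dOmega (f := f)) U.2 V.2 h
  let M : ModuleCat.{u} (CommRingCat.of Γ(X, U.1)) := ModuleCat.of Γ(X, U.1) Ω[Γ(X, U.1)⁄Γ(Y, V.1)]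
  let j := U.2.fromSpec
  have hle : j ''ᵁ ⊤ ≤ U.1 := ((Scheme.Hom.image_top_eq_opensRange j).trans U.2.opensRange_fromSpec).le
  have hge : U.1 ≤ j ''ᵁ ⊤ := ((Scheme.Hom.image_top_eq_opensRange j).trans U.2.opensRange_fromSpec).ge
  have hW : ⊤ ≤ j ⁻¹ᵁ U.1 := U.2.fromSpec_preimage_self.ge
  have hγ : ∀ a : Γ(X, U.1), (j.appIso ⊤).inv ((Scheme.ΓSpecIso Γ(X, U.1)).inv a) = ro hle a := by
    intro a
    have h1 : j.appLE U.1 ⊤ hW = (Scheme.ΓSpecIso Γ(X, U.1)).inv := by
      rw [Scheme.Hom.appLE, U.2.fromSpec_app_self, Category.assoc, ← Functor.map_comp]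
      exact (congrArg ((Scheme.ΓSpecIso Γ(X, U.1)).inv ≫ ·) ((Spec Γ(X, U.1)).presheaf.map_id _)).trans
        (Category.comp_id _)
    rw [← h1]
    exact congr($(Scheme.Hom.appLE_appIso_inv j hW) a)
  let L : Γ(Omega.sheaf f, U.1) → Γ(tilde M, ⊤) := fun s => i.hom.app ⊤ (rs (Omega.sheaf f) hle s)
  have hL : Function.Bijective L :=
    (ConcreteCategory.bijective_of_isIso (i.hom.app ⊤)).comp (bijective_rs_of_eq _ hle hge)
  have hLadd : ∀ s t, L (s + t) = L s + L t := fun s t => by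
    show i.hom.app ⊤ (rs (Omega.sheaf f) hle (s + t)) = _
    exact (congrArg (i.hom.app ⊤) (map_add _ s t)).trans (map_add (i.hom.app ⊤).hom _ _)
  have hLsmul : ∀ (a : Γ(X, U.1)) s, L (a • s) = (Scheme.ΓSpecIso Γ(X, U.1)).inv a • L s := fun a s => by
    show i.hom.app ⊤ (rs (Omega.sheaf f) hle (a • s)) = _
    refine Eq.trans ?_ (Scheme.Modules.Hom.app_smul i.hom ((Scheme.ΓSpecIso Γ(X, U.1)).inv a)
      (rs (Omega.sheaf f) hle s))
    refine congrArg (i.hom.app ⊤) ?_
    rw [rs_smul, ← hγ]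
    rfl
  have hLd : ∀ a, L (dSect f U.1 a) = (show Γ(tilde M, ⊤) from
      tilde.toOpen M ⊤ (KaehlerDifferential.D Γ(Y, V.1) Γ(X, U.1) a)) := fun a => by
    refine Eq.trans ?_ (hi a)
    refine congrArg (i.hom.app ⊤) ?_
    show rs (Omega.sheaf f) hle (dSect f U.1 a) = dSect f (j ''ᵁ ⊤) ((j.appIso ⊤).inv _)
    rw [hγ]
    exact (_root_.OmegaSh.dSect_map f hle a).symm
  let φ := _root_.OmAff.toSect f V.1 U.1 h
  have key : ∀ x : Ω[Γ(X, U.1)⁄Γ(Y, V.1)], L (φ x) = (show Γ(tilde M, ⊤) from tilde.toOpen M ⊤ x) := by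
    intro x
    have hx : x ∈ Submodule.span Γ(X, U.1) (Set.range (KaehlerDifferential.D Γ(Y, V.1) Γ(X, U.1))) := by
      rw [KaehlerDifferential.span_range_derivation]; trivial
    induction hx using Submodule.span_induction with
    | mem y hy =>
      obtain ⟨b, rfl⟩ := hy
      exact (congrArg L (_root_.OmAff.toSect_d f V.1 U.1 h b)).trans (hLd b)
    | zero =>
      refine Eq.trans ?_ (map_zero (tilde.toOpen M ⊤).hom).symm
      exact (congrArg (fun z => i.hom.app ⊤ (rs (Omega.sheaf f) hle z)) (map_zero φ.hom)).trans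
        ((congrArg (i.hom.app ⊤) (map_zero _)).trans (map_zero (i.hom.app ⊤).hom))
    | add y z _ _ hy hz =>
      refine Eq.trans ?_ (map_add (tilde.toOpen M ⊤).hom y z).symm
      exact (congrArg L (map_add φ.hom y z)).trans ((hLadd _ _).trans (congrArg₂ (· + ·) hy hz))
    | smul b y _ hy =>
      refine Eq.trans ?_ (toOpen_smul M b y).symm
      exact (congrArg L (φ.hom.map_smul b y)).trans ((hLsmul _ _).trans (congrArg (_ • ·) hy))
  refine (ConcreteCategory.isIso_iff_bijective φ).2 ((Function.Bijective.of_comp_iff' hL _).1 ?_)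
  rw [show (L ∘ φ : Ω[Γ(X, U.1)⁄Γ(Y, V.1)] → _) = fun x : M => (show Γ(tilde M, ⊤) from
    tilde.toOpen M ⊤ x) from funext key]
  exact bijective_toOpen_top M

end Groth.L19.OmegaSh
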