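import Groth.Agent.L19.OmegaSh.ConormalMaps
import Mathlib.CategoryTheory.Abelian.Exact

/-!
# The conormal sequence of a composition of immersions
-/

set_option autoImplicit false
set_option linter.style.haveILetI false
set_option backward.isDefEq.respectTransparency.types false
set_option backward.isDefEq.respectTransparency false

universe u

open CategoryTheory CategoryTheory.Limits AlgebraicGeometry TopologicalSpace Opposite

noncomputable section

namespace Groth.L19.OmegaSh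

open Groth.L18.Frame (rs ro rs_rs ro_ro rs_smul ro_self rs_self)
open _root_.OmegaSh (idealSect pullSect conormalSect IsConormalMap)

section Local

variable {Z X : Scheme.{u}} {i : Z ⟶ X} {N : Z.Modules}

theorem eq_of_local {U : Z.Opens} (s t : Γ(N, U))
    (h : ∀ z ∈ U, ∃ (V : Z.Opens) (hV : V ≤ U), z ∈ V ∧ rs N hV s = rs N hV t) : s = t := by
  let G : TopCat.Sheaf Ab Z.toTopCat := ⟨N.presheaf, N.isSheaf⟩
  choose V hV hzV hst using h
  exact G.eq_of_locally_eq' (fun z : U => V z.1 z.2) U (fun z => homOfLE (hV z.1 z.2))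
    (fun z hz => Opens.mem_iSup.mpr ⟨⟨z, hz⟩, hzV z hz⟩) _ _ fun z => hst z.1 z.2

theorem app_rs {M : X.Modules} (β : M ⟶ (Scheme.Modules.pushforward i).obj N) {U U' : X.Opens} (h : U' ≤ U)
    (s : Γ(M, U)) : β.app U' (rs M h s) = rs N (Scheme.Hom.preimage_mono i h) (β.app U s) :=
  congr($((Scheme.Modules.Hom.mapPresheaf β).naturality (homOfLE h).op) s)

theorem hom_rs {M : Z.Modules} (α : M ⟶ N) {U U' : Z.Opens} (h : U' ≤ U) (s : Γ(M, U)) :
    α.app U' (rs M h s) = rs N h (α.app U s) :=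
  congr($((Scheme.Modules.Hom.mapPresheaf α).naturality (homOfLE h).op) s)

/-- Maps out of the conormal sheaf agreeing on a basis agree. -/
theorem conormal_hom_ext_basis {α β : Omega.conormal i ⟶ N} (P : X.Opens → Prop)
    (hP : ∀ (z : Z) (O : X.Opens), i z ∈ O → ∃ W, P W ∧ i z ∈ W ∧ W ≤ O)
    (h : ∀ W, P W → ∀ s : Γ(idl i, W), α.app (i ⁻¹ᵁ W) (conormalSect i W s) =
      β.app (i ⁻¹ᵁ W) (conormalSect i W s)) : α = β :=
  conormal_hom_ext fun U s => eq_of_local _ _ fun z hz => by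
    obtain ⟨W, hW, hzW, hWU⟩ := hP z U hz
    refine ⟨i ⁻¹ᵁ W, Scheme.Hom.preimage_mono i hWU, hzW, ?_⟩
    rw [← hom_rs, ← hom_rs, ← conormalSect_rs hWU]
    exact h W hW _

end Local

section Comp

variable {Y' Y X : Scheme.{u}} (f : Y ⟶ X) (j : Y' ⟶ Y)

theorem comp_app' (V : X.Opens) (a : Γ(X, V)) : (j ≫ f).app V a = j.app (f ⁻¹ᵁ V) (f.app V a) := by
  rw [Scheme.Hom.comp_app]
  rfl

variable [IsImmersion f]

variable {f j} {N : Y'.Modules} (α : Omega.conormal (j ≫ f) ⟶ N)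
  (hα : ∀ (V : X.Opens) (s : Γ(idl (j ≫ f), V)), f.app V (idealSect (j ≫ f).ker V s) = 0 →
    α.app ((j ≫ f) ⁻¹ᵁ V) (conormalSect (j ≫ f) V s) = 0)

include hα in
theorem val_indep {W : Y.Opens} {V₁ V₂ : X.Opens} (h₁ : W ≤ f ⁻¹ᵁ V₁) (h₂ : W ≤ f ⁻¹ᵁ V₂)
    (s₁ : Γ(idl (j ≫ f), V₁)) (s₂ : Γ(idl (j ≫ f), V₂))
    (h : ro h₁ (f.app V₁ (idealSect (j ≫ f).ker V₁ s₁)) = ro h₂ (f.app V₂ (idealSect (j ≫ f).ker V₂ s₂))) :
    rs N (Scheme.Hom.preimage_mono j h₁) (α.app ((j ≫ f) ⁻¹ᵁ V₁) (conormalSect (j ≫ f) V₁ s₁)) =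
      rs N (Scheme.Hom.preimage_mono j h₂) (α.app ((j ≫ f) ⁻¹ᵁ V₂) (conormalSect (j ≫ f) V₂ s₂)) := by
  obtain ⟨O, hO, hWO⟩ := f.isEmbedding.isInducing.isOpen_iff.mp W.2
  let V₃ : X.Opens := V₁ ⊓ V₂ ⊓ ⟨O, hO⟩
  have e₁ : V₃ ≤ V₁ := inf_le_left.trans inf_le_left
  have e₂ : V₃ ≤ V₂ := inf_le_left.trans inf_le_right
  have e₃ : W ≤ f ⁻¹ᵁ V₃ := fun y hy => ⟨⟨h₁ hy, h₂ hy⟩, hWO.symm.subset hy⟩
  have e₄ : f ⁻¹ᵁ V₃ ≤ W := fun y hy => hWO.subset hy.2
  have h0 := hα V₃ (rs (idl (j ≫ f)) e₁ s₁ - rs (idl (j ≫ f)) e₂ s₂) (by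
    rw [map_sub, idealSect_rs, idealSect_rs, map_sub, sub_eq_zero, app_ro, app_ro]
    have h' := congrArg (ro e₄) h
    rw [ro_ro, ro_ro] at h'
    exact h')
  rw [map_sub (conormalSect (j ≫ f) V₃).hom, map_sub, sub_eq_zero, conormalSect_rs, conormalSect_rs,
    hom_rs, hom_rs] at h0
  have h' := congrArg (rs N (Scheme.Hom.preimage_mono j e₃ : j ⁻¹ᵁ W ≤ (j ≫ f) ⁻¹ᵁ V₃)) h0
  rw [rs_rs, rs_rs] at h'
  exact h'

variable [QuasiCompact (j ≫ f)]

include hα in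
/-- A map out of `C_{jf}` killing `C_f` factors through `C_j`. -/
theorem exists_unique_desc_comp :
    ∃! β : Omega.conormal j ⟶ N, ∀ (V : X.Opens) (s : Γ(idl (j ≫ f), V)) (t : Γ(idl j, f ⁻¹ᵁ V)),
      idealSect j.ker (f ⁻¹ᵁ V) t = f.app V (idealSect (j ≫ f).ker V s) →
        β.app (j ⁻¹ᵁ (f ⁻¹ᵁ V)) (conormalSect j (f ⁻¹ᵁ V) t) =
          α.app ((j ≫ f) ⁻¹ᵁ V) (conormalSect (j ≫ f) V s) := by
  let P : Y.Opens → Prop := fun W => ∃ V : X.Opens, W = f ⁻¹ᵁ V ∧ Function.Surjective (f.app V)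
  have hP : ∀ (z : Y') (O : Y.Opens), j z ∈ O → ∃ W, P W ∧ j z ∈ W ∧ W ≤ O ∧ IsAffineOpen W := by
    intro z O hz
    obtain ⟨O', hO', hOO'⟩ := f.isEmbedding.isInducing.isOpen_iff.mp O.2
    obtain ⟨V, hzV, hVO, haff, hs⟩ := exists_affine_surjective (i := f) (j z) ⟨O', hO'⟩ (hOO'.symm.subset hz)
    exact ⟨f ⁻¹ᵁ V.1, ⟨V.1, rfl, hs⟩, hzV, fun y hy => hOO'.subset (hVO hy), haff⟩
  have hlift : ∀ (W : Y.Opens) (p : P W) (t : Γ(idl j, W)), ∃ s : Γ(idl (j ≫ f), p.choose),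
      ro p.choose_spec.1.le (f.app p.choose (idealSect (j ≫ f).ker p.choose s)) = idealSect j.ker W t := by
    intro W p t
    obtain ⟨a, ha⟩ := p.choose_spec.2 (ro p.choose_spec.1.ge (idealSect j.ker W t))
    obtain ⟨s, hs⟩ := exists_idealSect (j ≫ f) p.choose a (by
      rw [comp_app', ha, app_ro, app_idealSect]
      exact map_zero _)
    exact ⟨s, by rw [hs, ha, ro_ro, ro_self]⟩
  let ψ : ∀ W : Y.affineOpens, P W.1 → Γ(idl j, W.1) → Γ(N, j ⁻¹ᵁ W.1) := fun W p t =>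
    rs N (Scheme.Hom.preimage_mono j p.choose_spec.1.le)
      (α.app ((j ≫ f) ⁻¹ᵁ p.choose) (conormalSect (j ≫ f) p.choose (hlift W.1 p t).choose))
  have hψ : ∀ (W : Y.affineOpens) (p : P W.1) (t : Γ(idl j, W.1)) (V : X.Opens) (h : W.1 ≤ f ⁻¹ᵁ V)
      (s : Γ(idl (j ≫ f), V)), ro h (f.app V (idealSect (j ≫ f).ker V s)) = idealSect j.ker W.1 t →
      ψ W p t = rs N (Scheme.Hom.preimage_mono j h) (α.app ((j ≫ f) ⁻¹ᵁ V) (conormalSect (j ≫ f) V s)) :=
    fun W p t V h s hs => val_indep α hα _ h _ s ((hlift W.1 p t).choose_spec.trans hs.symm)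
  obtain ⟨β₀, hβ₀⟩ := exists_hom_of_basis (i := j) (N := N) (M := idl j) (fun W => P W.1)
    (fun z O hz => by
      obtain ⟨W, hW, hzW, hWO, haff⟩ := hP z O hz
      exact ⟨⟨W, haff⟩, hW, hzW, hWO⟩) ψ
    (fun W p s t => by
      rw [hψ W p (s + t) p.choose p.choose_spec.1.le ((hlift W.1 p s).choose + (hlift W.1 p t).choose)
        (by rw [map_add (idealSect (j ≫ f).ker _), map_add (f.app _).hom]
            refine (map_add (Y.presheaf.map (homOfLE p.choose_spec.1.le).op).hom _ _).trans ?_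
            rw [map_add (idealSect j.ker _)]
            exact congrArg₂ (· + ·) (hlift W.1 p s).choose_spec (hlift W.1 p t).choose_spec),
        map_add (conormalSect (j ≫ f) _).hom, map_add]
      exact map_add _ _ _)
    (fun W p r t => by
      obtain ⟨a, ha⟩ := p.choose_spec.2 (ro p.choose_spec.1.ge r)
      rw [hψ W p (r • t) p.choose p.choose_spec.1.le (a • (hlift W.1 p t).choose)
        (by rw [idealSect_smul, map_mul (f.app _).hom, idealSect_smul]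
            refine (map_mul (Y.presheaf.map (homOfLE p.choose_spec.1.le).op).hom _ _).trans ?_
            refine congrArg₂ (· * ·) ?_ (hlift W.1 p t).choose_spec
            show ro p.choose_spec.1.le (f.app p.choose a) = r
            rw [ha, ro_ro, ro_self]),
        conormalSect_smul, Scheme.Modules.Hom.app_smul, rs_smul, comp_app', ha, app_ro]
      refine congrArg (· • _) ?_
      exact (ro_ro _ _ _).trans (ro_self _ _))
    (fun W W' p p' h t => by
      rw [hψ W' p' _ p.choose (h.trans p.choose_spec.1.le) (hlift W.1 p t).choose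
        (by rw [idealSect_rs]
            exact (ro_ro _ _ _).symm.trans (congrArg (ro h) (hlift W.1 p t).choose_spec))]
      exact (rs_rs N (Scheme.Hom.preimage_mono j p.choose_spec.1.le) (Scheme.Hom.preimage_mono j h) _).symm)
  refine ⟨((Scheme.Modules.pullbackPushforwardAdjunction j).homEquiv _ _).symm β₀, fun V s t ht => ?_,
    fun β hβ => ?_⟩
  · refine (app_conormalSect _ (f ⁻¹ᵁ V) t).symm.trans ?_
    rw [Equiv.apply_symm_apply]
    refine eq_of_local (U := j ⁻¹ᵁ (f ⁻¹ᵁ V)) _ _ fun z hz => ?_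
    obtain ⟨W, hW, hzW, hWO, haff⟩ := hP z (f ⁻¹ᵁ V) hz
    refine ⟨j ⁻¹ᵁ W, Scheme.Hom.preimage_mono j hWO, hzW, ?_⟩
    refine (app_rs β₀ hWO t).symm.trans ?_
    refine (hβ₀ ⟨W, haff⟩ hW _).trans ?_
    exact hψ ⟨W, haff⟩ hW _ V hWO s (by rw [idealSect_rs, ht])
  · refine conormal_hom_ext_basis (i := j) (fun W => P W ∧ IsAffineOpen W) (fun z O hz => ?_) fun W p t => ?_
    · obtain ⟨W, hW, hzW, hWO, haff⟩ := hP z O hz
      exact ⟨W, ⟨hW, haff⟩, hzW, hWO⟩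
    · have h1 : β.app (j ⁻¹ᵁ W) (conormalSect j W t) = ψ ⟨W, p.2⟩ p.1 t := by
        have hs := (hlift W p.1 t).choose_spec
        have h2 := hβ p.1.choose (hlift W p.1 t).choose (rs (idl j) p.1.choose_spec.1.ge t)
          (by rw [idealSect_rs]
              exact ((congrArg (ro p.1.choose_spec.1.ge) hs).symm.trans ((ro_ro _ _ _).trans (ro_self _ _))))
        rw [conormalSect_rs, hom_rs] at h2
        refine ((rs_rs N (Scheme.Hom.preimage_mono j p.1.choose_spec.1.ge)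
          (Scheme.Hom.preimage_mono j p.1.choose_spec.1.le) _).trans (rs_self N _ _)).symm.trans ?_
        exact congrArg (rs N (Scheme.Hom.preimage_mono j p.1.choose_spec.1.le)) h2
      rw [h1]
      refine Eq.symm ?_
      refine (app_conormalSect _ W t).symm.trans ?_
      rw [Equiv.apply_symm_apply]
      exact hβ₀ ⟨W, p.2⟩ p.1 t

variable [QuasiCompact f] [QuasiCompact j]

/-- `j^* C_f → C_{jf} → C_j → 0` is exact. -/
theorem exact_conormal_comp
    (φ₁ : (Scheme.Modules.pullback j).obj (Omega.conormal f) ⟶ Omega.conormal (j ≫ f))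
    (hφ₁ : IsConormalMap (j ≫ f) f (𝟙 X) j φ₁)
    (φ₂ : (Scheme.Modules.pullback (𝟙 Y')).obj (Omega.conormal (j ≫ f)) ⟶ Omega.conormal j)
    (hφ₂ : IsConormalMap j (j ≫ f) f (𝟙 Y') φ₂) :
    ∃ w : φ₁ ≫ (Scheme.Modules.pullbackId Y').inv.app _ ≫ φ₂ = 0,
      (ShortComplex.mk φ₁ ((Scheme.Modules.pullbackId Y').inv.app _ ≫ φ₂) w).Exact ∧
        Epi ((Scheme.Modules.pullbackId Y').inv.app _ ≫ φ₂) := by
  let b : Omega.conormal (j ≫ f) ⟶ Omega.conormal j := (Scheme.Modules.pullbackId Y').inv.app _ ≫ φ₂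
  let adj := Scheme.Modules.pullbackPushforwardAdjunction j
  have key : ∀ (M : Y'.Modules) (α : Omega.conormal (j ≫ f) ⟶ M), φ₁ ≫ α = 0 ↔
      ∀ (V : X.Opens) (s : Γ(idl (j ≫ f), V)), f.app V (idealSect (j ≫ f).ker V s) = 0 →
        α.app ((j ≫ f) ⁻¹ᵁ V) (conormalSect (j ≫ f) V s) = 0 := by
    intro M α
    have hval : ∀ (V : X.Opens) (s' : Γ(idl f, V)) (s : Γ(idl (j ≫ f), V)),
        idealSect (j ≫ f).ker V s = idealSect f.ker V s' →
        (φ₁ ≫ α).app (j ⁻¹ᵁ (f ⁻¹ᵁ V)) (pullSect j (Omega.conormal f) (f ⁻¹ᵁ V) (conormalSect f V s')) =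
          α.app ((j ≫ f) ⁻¹ᵁ V) (conormalSect (j ≫ f) V s) := by
      intro V s' s hs
      refine Eq.trans (congrArg (α.app _) (conormalMap_value hφ₁.1 hφ₁ V s')) ?_
      rw [cVal_eq hφ₁.1 s hs]
      exact congrArg (α.app _) (rs_self (Omega.conormal (j ≫ f)) _ _)
    constructor
    · intro h0 V s hs
      obtain ⟨s', hs'⟩ := exists_idealSect f V _ hs
      rw [← hval V s' s hs'.symm, h0]
      rfl
    · intro h0
      apply (adj.homEquiv _ _).injective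
      refine conormal_hom_ext (i := f) fun V s' => ?_
      obtain ⟨s, hs⟩ := exists_idealSect (j ≫ f) V (idealSect f.ker V s') (by
        rw [comp_app', app_idealSect]
        exact map_zero _)
      rw [Adjunction.homEquiv_unit, Adjunction.homEquiv_unit]
      refine (hval V s' s hs).trans ?_
      exact h0 V s (by rw [hs, app_idealSect])
  have bval : ∀ (V : X.Opens) (s : Γ(idl (j ≫ f), V)) (t : Γ(idl j, f ⁻¹ᵁ V)),
      idealSect j.ker (f ⁻¹ᵁ V) t = f.app V (idealSect (j ≫ f).ker V s) →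
        b.app ((j ≫ f) ⁻¹ᵁ V) (conormalSect (j ≫ f) V s) = conormalSect j (f ⁻¹ᵁ V) t := fun V s t ht =>
    (conormalMap_id_value hφ₂.1 hφ₂ V s).trans
      ((cVal_eq hφ₂.1 t ht).trans (rs_self (Omega.conormal j) _ _))
  have bspec : ∀ (M : Y'.Modules) (β : Omega.conormal j ⟶ M) (α : Omega.conormal (j ≫ f) ⟶ M),
      b ≫ β = α ↔ ∀ (V : X.Opens) (s : Γ(idl (j ≫ f), V)) (t : Γ(idl j, f ⁻¹ᵁ V)),
        idealSect j.ker (f ⁻¹ᵁ V) t = f.app V (idealSect (j ≫ f).ker V s) →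
          β.app (j ⁻¹ᵁ (f ⁻¹ᵁ V)) (conormalSect j (f ⁻¹ᵁ V) t) =
            α.app ((j ≫ f) ⁻¹ᵁ V) (conormalSect (j ≫ f) V s) := by
    intro M β α
    constructor
    · intro h V s t ht
      rw [← h, ← bval V s t ht]
      rfl
    · intro h
      refine conormal_hom_ext (i := j ≫ f) fun V s => ?_
      obtain ⟨t, ht⟩ := exists_conormalMap_val hφ₂.1 V s
      exact (congrArg (β.app _) (bval V s t ht)).trans (h V s t ht)
  have w : φ₁ ≫ b = 0 := (key _ b).mpr fun V s hs => by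
    rw [bval V s 0 (by rw [map_zero, hs])]
    exact map_zero _
  refine ⟨w, exact_and_epi_of_desc φ₁ b w fun M α hα => ?_⟩
  obtain ⟨β, hβ, hu⟩ := exists_unique_desc_comp α ((key M α).mp hα)
  exact ⟨β, (bspec M β α).mpr hβ, fun β' hβ' => hu β' ((bspec M β' α).mp hβ')⟩

end Comp

end Groth.L19.OmegaSh
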