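import Groth.Agent.L19.OmegaSh.ConormalSeq

/-!
# `C_{Z/Y} → C_{Z/X} → i^* Ω_{X/Y} → 0`
-/

set_option autoImplicit false
set_option linter.style.haveILetI false
set_option backward.isDefEq.respectTransparency.types false
set_option backward.isDefEq.respectTransparency false

universe u

open CategoryTheory CategoryTheory.Limits AlgebraicGeometry TopologicalSpace Opposite

noncomputable section

namespace Groth.L19.OmegaSh

open Groth.L18.Frame (rs ro rs_rs ro_ro rs_smul ro_self rs_self)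
open _root_.OmegaSh (Der IsUniversal IsConormalMap IsConormalDiff idealSect pullSect conormalSect)

theorem existsUnique_glue_opens {Z : Scheme.{u}} (N : Z.Modules) {U : Z.Opens} {ι : Type u} (V : ι → Z.Opens)
    (hV : ∀ k, V k ≤ U) (hcov : ∀ z ∈ U, ∃ k, z ∈ V k) (t : ∀ k, Γ(N, V k))
    (ht : ∀ k l, rs N inf_le_left (t k) = rs N (inf_le_right : V k ⊓ V l ≤ V l) (t l)) :
    ∃! s : Γ(N, U), ∀ k, rs N (hV k) s = t k := by
  let G : TopCat.Sheaf Ab Z.toTopCat := ⟨N.presheaf, N.isSheaf⟩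
  exact G.existsUnique_gluing' V U (fun k => homOfLE (hV k))
    (fun z hz => Opens.mem_iSup.mpr (hcov z hz)) t (fun k l => ht k l)

variable {Z X Y : Scheme.{u}} (p : X ⟶ Y) (i : Z ⟶ X) (j : Z ⟶ Y)

/-- Local data for computing the derivation at `a`. -/
structure LiftPair (U : X.Opens) (a : Γ(X, U)) where
  V : Y.Opens
  le : j ⁻¹ᵁ V ≤ i ⁻¹ᵁ U
  b : Γ(Y, V)
  eq : j.app V b = ro le (i.app U a)

variable {p i j} {U : X.Opens} {a : Γ(X, U)}

theorem preimage_inf_le (hij : i ≫ p = j) (L : LiftPair i j U a) : j ⁻¹ᵁ L.V ≤ i ⁻¹ᵁ (U ⊓ p ⁻¹ᵁ L.V) :=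
  fun _ hz => ⟨L.le hz, by subst hij; exact hz⟩

/-- `a - p♯ b`. -/
def lpDiff (p : X ⟶ Y) (L : LiftPair i j U a) : Γ(X, U ⊓ p ⁻¹ᵁ L.V) :=
  ro inf_le_left a - ro inf_le_right (p.app L.V L.b)

theorem app_lpDiff (hij : i ≫ p = j) (L : LiftPair i j U a) : i.app (U ⊓ p ⁻¹ᵁ L.V) (lpDiff p L) = 0 := by
  rw [lpDiff, map_sub, sub_eq_zero, app_ro, app_ro]
  have e : i ⁻¹ᵁ (U ⊓ p ⁻¹ᵁ L.V) ≤ j ⁻¹ᵁ L.V := fun z hz => by subst hij; exact hz.2
  have h := congrArg (ro e) L.eq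
  rw [ro_ro] at h
  rw [← h]
  subst hij
  rw [Scheme.Hom.comp_app]
  rfl

variable [QuasiCompact i] {N : Z.Modules} (hij : i ≫ p = j)

/-- The value of the derivation on `j⁻¹ V`. -/
def lpVal (α : Omega.conormal i ⟶ N) (L : LiftPair i j U a) : Γ(N, j ⁻¹ᵁ L.V) :=
  rs N (preimage_inf_le hij L) (α.app _ (conormalSect i _ (exists_idealSect i _ _ (app_lpDiff hij L)).choose))

theorem lpVal_eq (α : Omega.conormal i ⟶ N) (L : LiftPair i j U a) (s : Γ(idl i, U ⊓ p ⁻¹ᵁ L.V))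
    (hs : idealSect i.ker _ s = lpDiff p L) :
    lpVal hij α L = rs N (preimage_inf_le hij L) (α.app _ (conormalSect i _ s)) := by
  rw [lpVal, idealSect_injective i _ ((exists_idealSect i _ _ (app_lpDiff hij L)).choose_spec.trans hs.symm)]

variable [QuasiCompact j] {α : Omega.conormal i ⟶ N}

theorem lpVal_congr
    (hα : ∀ (V : Y.Opens) (t : Γ(idl j, V)) (s : Γ(idl i, p ⁻¹ᵁ V)),
      idealSect i.ker _ s = p.app V (idealSect j.ker V t) → α.app _ (conormalSect i _ s) = 0)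
    (L L' : LiftPair i j U a) {W : Z.Opens} (h : W ≤ j ⁻¹ᵁ L.V) (h' : W ≤ j ⁻¹ᵁ L'.V) :
    rs N h (lpVal hij α L) = rs N h' (lpVal hij α L') := by
  have e₁ : L.V ⊓ L'.V ≤ L.V := inf_le_left
  have e₂ : L.V ⊓ L'.V ≤ L'.V := inf_le_right
  obtain ⟨t, ht⟩ := exists_idealSect j (L.V ⊓ L'.V) (ro e₁ L.b - ro e₂ L'.b) (by
    rw [map_sub, sub_eq_zero, app_ro, app_ro, L.eq, L'.eq, ro_ro, ro_ro])
  obtain ⟨s, hs⟩ := exists_conormalMap_val (i := i) (i' := j) (g := p) (gZ := 𝟙 Z)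
    (by rw [Category.id_comp, hij]) _ t
  have h0 := hα _ t s hs
  obtain ⟨s₁, hs₁⟩ := exists_idealSect i _ _ (app_lpDiff hij L)
  obtain ⟨s₂, hs₂⟩ := exists_idealSect i _ _ (app_lpDiff hij L')
  rw [lpVal_eq hij α L s₁ hs₁, lpVal_eq hij α L' s₂ hs₂, rs_rs, rs_rs]
  let W' : X.Opens := U ⊓ p ⁻¹ᵁ (L.V ⊓ L'.V)
  have f₁ : W' ≤ U ⊓ p ⁻¹ᵁ L.V := inf_le_inf le_rfl (Scheme.Hom.preimage_mono p e₁)
  have f₂ : W' ≤ U ⊓ p ⁻¹ᵁ L'.V := inf_le_inf le_rfl (Scheme.Hom.preimage_mono p e₂)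
  have f₀ : W' ≤ p ⁻¹ᵁ (L.V ⊓ L'.V) := inf_le_right
  have hW : W ≤ i ⁻¹ᵁ W' := fun z hz => ⟨(preimage_inf_le hij L (h hz)).1,
    (preimage_inf_le hij L (h hz)).2, (preimage_inf_le hij L' (h' hz)).2⟩
  have key : rs (idl i) f₂ s₂ = rs (idl i) f₁ s₁ + rs (idl i) f₀ s := by
    apply idealSect_injective
    rw [map_add, idealSect_rs, idealSect_rs, idealSect_rs, hs₁, hs₂, hs, ht, lpDiff, lpDiff]
    simp only [map_sub, app_ro, ro_ro]
    ring
  have h1 := congrArg (fun x => rs N hW (α.app (i ⁻¹ᵁ W') (conormalSect i W' x))) key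
  rw [map_add (conormalSect i W').hom, map_add, conormalSect_rs, conormalSect_rs, conormalSect_rs, hom_rs, hom_rs,
    hom_rs, h0] at h1
  refine Eq.trans ?_ ((rs_rs N (Scheme.Hom.preimage_mono i f₂) hW _).symm.trans h1).symm
  refine Eq.trans ?_ (map_add _ _ _).symm
  refine ((add_zero _).symm).trans (congrArg₂ (· + ·) (rs_rs N (Scheme.Hom.preimage_mono i f₁) hW _).symm ?_)
  exact ((congrArg (rs N hW) (map_zero _)).trans (map_zero _)).symm

variable [IsImmersion j]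

omit [QuasiCompact i] [QuasiCompact j] in
theorem exists_liftPair (U : X.Opens) (a : Γ(X, U)) (z : Z) (hz : z ∈ i ⁻¹ᵁ U) :
    ∃ L : LiftPair i j U a, z ∈ j ⁻¹ᵁ L.V := by
  obtain ⟨O, hO, hOU⟩ := j.isEmbedding.isInducing.isOpen_iff.mp (i ⁻¹ᵁ U).2
  obtain ⟨V, hzV, hVO, -, hs⟩ := exists_affine_surjective (i := j) z ⟨O, hO⟩ (hOU.symm.subset hz)
  have le : j ⁻¹ᵁ V.1 ≤ i ⁻¹ᵁ U := fun y hy => hOU.subset (hVO hy)
  obtain ⟨b, hb⟩ := hs (ro le (i.app U a))
  exact ⟨⟨V.1, le, b, hb⟩, hzV⟩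

/-- Restrict local data. -/
def LiftPair.restrict (L : LiftPair i j U a) (V : Y.Opens) (h : V ≤ L.V) : LiftPair i j U a :=
  ⟨V, (Scheme.Hom.preimage_mono j h).trans L.le, ro h L.b, by rw [app_ro, L.eq, ro_ro]⟩

omit [QuasiCompact i] [QuasiCompact j] in
theorem exists_liftPair₂ (a a' : Γ(X, U)) (z : Z) (hz : z ∈ i ⁻¹ᵁ U) :
    ∃ (L : LiftPair i j U a) (L' : LiftPair i j U a'), L.V = L'.V ∧ z ∈ j ⁻¹ᵁ L.V := by
  obtain ⟨L, hL⟩ := exists_liftPair (j := j) U a z hz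
  obtain ⟨L', hL'⟩ := exists_liftPair (j := j) U a' z hz
  exact ⟨L.restrict (L.V ⊓ L'.V) inf_le_left, L'.restrict (L.V ⊓ L'.V) inf_le_right, rfl, hL, hL'⟩

variable (hα : ∀ (V : Y.Opens) (t : Γ(idl j, V)) (s : Γ(idl i, p ⁻¹ᵁ V)),
  idealSect i.ker _ s = p.app V (idealSect j.ker V t) → α.app _ (conormalSect i _ s) = 0)

include hij hα in
theorem existsUnique_derVal (U : X.Opens) (a : Γ(X, U)) :
    ∃! v : Γ(N, i ⁻¹ᵁ U), ∀ L : LiftPair i j U a, rs N L.le v = lpVal hij α L :=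
  existsUnique_glue_opens N (fun L : LiftPair i j U a => j ⁻¹ᵁ L.V) (fun L => L.le)
    (exists_liftPair U a) (fun L => lpVal hij α L) fun L L' => lpVal_congr hij hα L L' _ _

/-- The value at `a` of the derivation of `α`. -/
def derVal (U : X.Opens) (a : Γ(X, U)) : Γ(N, i ⁻¹ᵁ U) := (existsUnique_derVal hij hα U a).choose

theorem derVal_spec (L : LiftPair i j U a) : rs N L.le (derVal hij hα U a) = lpVal hij α L :=
  (existsUnique_derVal hij hα U a).choose_spec.1 L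

theorem derVal_unique (U : X.Opens) (a : Γ(X, U)) (w : Γ(N, i ⁻¹ᵁ U))
    (h : ∀ z ∈ i ⁻¹ᵁ U, ∃ L : LiftPair i j U a, z ∈ j ⁻¹ᵁ L.V ∧ rs N L.le w = lpVal hij α L) :
    derVal hij hα U a = w := by
  refine eq_of_local _ _ fun z hz => ?_
  obtain ⟨L, hzL, hL⟩ := h z hz
  exact ⟨_, L.le, hzL, (derVal_spec hij hα L).trans hL.symm⟩

theorem derVal_add (U : X.Opens) (a a' : Γ(X, U)) :
    derVal hij hα U (a + a') = derVal hij hα U a + derVal hij hα U a' :=
  derVal_unique hij hα _ _ _ fun z hz => by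
    obtain ⟨L, L', hLL', hzL⟩ := exists_liftPair₂ (j := j) a a' z hz
    obtain ⟨V, le, b, hb⟩ := L
    obtain ⟨V', le', b', hb'⟩ := L'
    dsimp only at hLL'
    subst hLL'
    let L₂ : LiftPair i j U (a + a') := ⟨V, le, b + b', by rw [map_add, hb, hb']; exact (map_add (Z.presheaf.map (homOfLE le).op).hom _ _).symm.trans (congrArg _ (map_add (i.app U).hom a a').symm)⟩
    refine ⟨L₂, hzL, ?_⟩
    obtain ⟨s, hs⟩ := exists_idealSect i _ _ (app_lpDiff hij ⟨V, le, b, hb⟩)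
    obtain ⟨s', hs'⟩ := exists_idealSect i _ _ (app_lpDiff hij ⟨V, le, b', hb'⟩)
    refine Eq.trans ?_ (lpVal_eq hij α L₂ (s + s') (by
      rw [map_add, hs, hs']
      simp only [lpDiff, L₂, map_add]
      ring)).symm
    rw [map_add (conormalSect i _).hom, map_add]
    refine (map_add _ _ _).trans (Eq.trans ?_ (map_add _ _ _).symm)
    exact congrArg₂ (· + ·) ((derVal_spec hij hα (a := a) ⟨V, le, b, hb⟩).trans (lpVal_eq hij α _ s hs))
      ((derVal_spec hij hα (a := a') ⟨V, le, b', hb'⟩).trans (lpVal_eq hij α _ s' hs'))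

theorem derVal_mul (U : X.Opens) (a a' : Γ(X, U)) :
    derVal hij hα U (a * a') = i.app U a • derVal hij hα U a' + i.app U a' • derVal hij hα U a :=
  derVal_unique hij hα _ _ _ fun z hz => by
    obtain ⟨L, L', hLL', hzL⟩ := exists_liftPair₂ (j := j) a a' z hz
    obtain ⟨V, le, b, hb⟩ := L
    obtain ⟨V', le', b', hb'⟩ := L'
    dsimp only at hLL'
    subst hLL'
    let L₂ : LiftPair i j U (a * a') := ⟨V, le, b * b', by rw [map_mul, hb, hb']; exact (map_mul (Z.presheaf.map (homOfLE le).op).hom _ _).symm.trans (congrArg _ (map_mul (i.app U).hom a a').symm)⟩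
    refine ⟨L₂, hzL, ?_⟩
    obtain ⟨s, hs⟩ := exists_idealSect i _ _ (app_lpDiff hij ⟨V, le, b, hb⟩)
    obtain ⟨s', hs'⟩ := exists_idealSect i _ _ (app_lpDiff hij ⟨V, le, b', hb'⟩)
    have e₁ : U ⊓ p ⁻¹ᵁ V ≤ U := inf_le_left
    have e₂ : U ⊓ p ⁻¹ᵁ V ≤ p ⁻¹ᵁ V := inf_le_right
    refine Eq.trans ?_ (lpVal_eq hij α L₂ (ro e₁ a • s' + ro e₂ (p.app V b') • s) (by
      rw [map_add, idealSect_smul, idealSect_smul, hs, hs']
      simp only [lpDiff, L₂, map_mul]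
      ring)).symm
    have hc₁ : ∀ (h : j ⁻¹ᵁ V ≤ i ⁻¹ᵁ (U ⊓ p ⁻¹ᵁ V)),
        ro h (i.app _ (ro e₁ a)) = ro le (i.app U a) := fun h => by rw [app_ro, ro_ro]
    have hc₂ : ∀ (h : j ⁻¹ᵁ V ≤ i ⁻¹ᵁ (U ⊓ p ⁻¹ᵁ V)),
        ro h (i.app _ (ro e₂ (p.app V b'))) = ro le (i.app U a') := fun h => by
      rw [← hb', app_ro, ro_ro]
      subst hij
      refine Eq.trans ?_ (ro_self le_rfl _)
      rw [Scheme.Hom.comp_app]
      rfl
    rw [map_add (conormalSect i _).hom, conormalSect_smul, conormalSect_smul, map_add, Scheme.Modules.Hom.app_smul,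
      Scheme.Modules.Hom.app_smul]
    refine Eq.trans ?_ (map_add _ _ _).symm
    refine Eq.trans (b := rs N le (i.app U a • derVal hij hα U a' + i.app U a' • derVal hij hα U a)) rfl ?_
    refine (map_add _ _ _).trans (congrArg₂ (· + ·) ?_ ?_)
    · refine (rs_smul N le _ _).trans (Eq.trans ?_ (rs_smul N (preimage_inf_le hij L₂) _ _).symm)
      rw [derVal_spec hij hα (a := a') ⟨V, le, b', hb'⟩, lpVal_eq hij α _ s' hs', hc₁]
    · refine (rs_smul N le _ _).trans (Eq.trans ?_ (rs_smul N (preimage_inf_le hij L₂) _ _).symm)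
      rw [derVal_spec hij hα (a := a) ⟨V, le, b, hb⟩, lpVal_eq hij α _ s hs, hc₂]

theorem derVal_res (U U' : X.Opens) (h : U' ≤ U) (a : Γ(X, U)) :
    derVal hij hα U' (ro h a) = rs N (Scheme.Hom.preimage_mono i h) (derVal hij hα U a) :=
  derVal_unique hij hα _ _ _ fun z hz => by
    obtain ⟨⟨V, le, b, hb⟩, hzL⟩ := exists_liftPair (j := j) U' (ro h a) z hz
    have le' : j ⁻¹ᵁ V ≤ i ⁻¹ᵁ U := le.trans (Scheme.Hom.preimage_mono i h)
    have hb₀ : j.app V b = ro le' (i.app U a) := hb.trans (by rw [app_ro, ro_ro])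
    let L₂ : LiftPair i j U' (ro h a) := ⟨V, le, b, hb⟩
    refine ⟨L₂, hzL, ?_⟩
    obtain ⟨s, hs⟩ := exists_idealSect i _ _ (app_lpDiff hij ⟨V, le', b, hb₀⟩)
    have f : U' ⊓ p ⁻¹ᵁ V ≤ U ⊓ p ⁻¹ᵁ V := inf_le_inf h le_rfl
    refine Eq.trans ?_ (lpVal_eq hij α L₂ (rs (idl i) f s) (by
      rw [idealSect_rs, hs]
      simp only [lpDiff, L₂, map_sub, ro_ro])).symm
    rw [conormalSect_rs, hom_rs]
    refine (rs_rs N (Scheme.Hom.preimage_mono i h) le _).trans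
      (Eq.trans ?_ (rs_rs N (Scheme.Hom.preimage_mono i f) (preimage_inf_le hij L₂) _).symm)
    exact (derVal_spec hij hα (a := a) ⟨V, le', b, hb₀⟩).trans (lpVal_eq hij α _ s hs)

theorem derVal_base (V₀ : Y.Opens) (c : Γ(Y, V₀)) : derVal hij hα (p ⁻¹ᵁ V₀) (p.app V₀ c) = 0 :=
  derVal_unique hij hα _ _ _ fun z hz => by
    have le : j ⁻¹ᵁ V₀ ≤ i ⁻¹ᵁ (p ⁻¹ᵁ V₀) := by rw [← Scheme.Hom.comp_preimage, hij]
    refine ⟨⟨V₀, le, c, by
      subst hij
      rw [Scheme.Hom.comp_app]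
      exact (ro_self le_rfl _).symm⟩, by subst hij; exact hz, ?_⟩
    refine Eq.trans ?_ (lpVal_eq hij α _ 0 (by
      rw [map_zero, lpDiff]
      exact (sub_self _).symm)).symm
    rw [map_zero, map_zero]
    exact (map_zero _).trans (map_zero _).symm

include hij hα in
/-- A map out of `C_{Z/X}` killing `C_{Z/Y}` comes from a derivation. -/
theorem exists_der_of_kills_conormal :
    ∃! E : Der p ((Scheme.Modules.pushforward i).obj N), ∀ (U : X.Opens) (s : Γ(idl i, U)),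
      E.app U (idealSect i.ker U s) = α.app (i ⁻¹ᵁ U) (conormalSect i U s) := by
  let E : Der p ((Scheme.Modules.pushforward i).obj N) :=
    { d := fun {U} => AddMonoidHom.mk' (fun a => derVal hij hα U.unop a) (derVal_add hij hα U.unop)
      d_mul := fun {U} a a' => derVal_mul hij hα U.unop a a'
      d_map := fun {U U'} h a => derVal_res hij hα U.unop U'.unop h.unop.le a
      d_app := fun {V₀} c => derVal_base hij hα V₀.unop c }
  refine ⟨E, fun U s => derVal_unique hij hα _ _ _ fun z hz => ?_, fun E' hE' => ?_⟩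
  · obtain ⟨L₀, hzL⟩ := exists_liftPair (j := j) U (idealSect i.ker U s) z hz
    have h0 : j.app L₀.V 0 = ro L₀.le (i.app U (idealSect i.ker U s)) := by
      rw [map_zero, app_idealSect]
      exact (map_zero _).symm
    refine ⟨⟨L₀.V, L₀.le, 0, h0⟩, hzL, ?_⟩
    refine Eq.trans ?_ (lpVal_eq hij α _ (rs (idl i) inf_le_left s) (by
      rw [idealSect_rs]
      simp only [lpDiff, map_zero, sub_zero])).symm
    rw [conormalSect_rs, hom_rs, rs_rs]
  · refine PresheafOfModules.Derivation.ext ?_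
    ext U a
    refine (derVal_unique hij hα U.unop a (E'.app U.unop a) fun z hz => ?_).symm
    obtain ⟨L, hzL⟩ := exists_liftPair (j := j) U.unop a z hz
    refine ⟨L, hzL, ?_⟩
    obtain ⟨s, hs⟩ := exists_idealSect i _ _ (app_lpDiff hij L)
    rw [lpVal_eq hij α _ s hs, ← hE', hs, lpDiff, map_sub (E'.app _), der_map, der_map,
      show E'.app (p ⁻¹ᵁ L.V) (p.app L.V L.b) = 0 from E'.d_app (X := op L.V) L.b]
    refine Eq.symm ?_
    refine (congrArg (rs N _) ((congrArg _ (map_zero _)).trans (sub_zero _))).trans ?_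
    exact rs_rs N (Scheme.Hom.preimage_mono i inf_le_left) (preimage_inf_le hij L) _

include hij in
/-- `C_{Z/Y} → C_{Z/X} → i^* Ω_{X/Y} → 0` is exact. -/
theorem exact_conormal_omega {Ω : X.Modules} {d : Der p Ω} (hd : IsUniversal d)
    (ψ : (Scheme.Modules.pullback (𝟙 Z)).obj (Omega.conormal j) ⟶ Omega.conormal i)
    (hψ : IsConormalMap i j p (𝟙 Z) ψ)
    (φ : Omega.conormal i ⟶ (Scheme.Modules.pullback i).obj Ω) (hφ : IsConormalDiff i d φ) :
    ∃ w : ψ ≫ φ = 0, (ShortComplex.mk ψ φ w).Exact ∧ Epi φ := by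
  subst hij
  let adj := Scheme.Modules.pullbackPushforwardAdjunction i
  have key : ∀ (M : Z.Modules) (β : Omega.conormal i ⟶ M), ψ ≫ β = 0 ↔
      ∀ (V : Y.Opens) (t : Γ(idl (i ≫ p), V)) (s : Γ(idl i, p ⁻¹ᵁ V)),
        idealSect i.ker _ s = p.app V (idealSect (i ≫ p).ker V t) → β.app _ (conormalSect i _ s) = 0 := by
    intro M β
    have hval : ∀ (V : Y.Opens) (t : Γ(idl (i ≫ p), V)) (s : Γ(idl i, p ⁻¹ᵁ V)),
        idealSect i.ker _ s = p.app V (idealSect (i ≫ p).ker V t) →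
        ((Scheme.Modules.pullbackId Z).inv.app _ ≫ ψ ≫ β).app ((i ≫ p) ⁻¹ᵁ V) (conormalSect (i ≫ p) V t) =
          β.app _ (conormalSect i (p ⁻¹ᵁ V) s) := fun V t s hs =>
      congrArg (β.app _) ((conormalMap_id_value hψ.1 hψ V t).trans
        ((cVal_eq hψ.1 s hs).trans (rs_self (Omega.conormal i) _ _)))
    constructor
    · intro h0 V t s hs
      rw [← hval V t s hs, h0, comp_zero]
      rfl
    · intro h0
      rw [← cancel_epi ((Scheme.Modules.pullbackId Z).inv.app (Omega.conormal (i ≫ p))), comp_zero]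
      refine conormal_hom_ext (i := i ≫ p) fun V t => ?_
      obtain ⟨s, hs⟩ := exists_conormalMap_val hψ.1 V t
      exact (hval V t s hs).trans (h0 V t s hs)
  have hdi : ∀ (M : Z.Modules) (β : (Scheme.Modules.pullback i).obj Ω ⟶ M) (U : X.Opens) (s : Γ(idl i, U)),
      (φ ≫ β).app (i ⁻¹ᵁ U) (conormalSect i U s) =
        _root_.OmegaSh.Der.app (d.postcomp (adj.homEquiv _ _ β).val) U (idealSect i.ker U s) := fun M β U s => by
    refine (congrArg (β.app (i ⁻¹ᵁ U)) (hφ U s)).trans ?_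
    refine Eq.symm ?_
    show ((adj.homEquiv _ _ β).app U (d.app U (idealSect i.ker U s))) = _
    rw [Adjunction.homEquiv_unit]
    rfl
  have w : ψ ≫ φ = 0 := (key _ φ).mpr fun V t s hs => by
    rw [hφ, hs, show d.app (p ⁻¹ᵁ V) (p.app V (idealSect (i ≫ p).ker V t)) = 0 from d.d_app (X := op V) _]
    exact map_zero _
  refine ⟨w, exact_and_epi_of_desc ψ φ w fun M β hβ => ?_⟩
  obtain ⟨E, hE, huE⟩ := exists_der_of_kills_conormal (α := β) rfl ((key M β).mp hβ)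
  obtain ⟨γ, hγ, hu⟩ := hd _ E
  refine ⟨(adj.homEquiv _ _).symm γ, conormal_hom_ext fun U s => ?_, fun γ' hγ' => ?_⟩
  · rw [hdi, Equiv.apply_symm_apply]
    exact (congrArg (fun E' : Der p _ => E'.app U (idealSect i.ker U s)) hγ).trans (hE U s)
  · rw [← (adj.homEquiv _ _).symm_apply_apply γ']
    refine congrArg _ (hu _ (huE _ fun U s => ?_))
    exact (hdi M γ' U s).symm.trans congr($(congrArg (fun β => Scheme.Modules.Hom.app β (i ⁻¹ᵁ U)) hγ') (conormalSect i U s))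

end Groth.L19.OmegaSh
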