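import Groth.Agent.L19.OmegaSh.ConormalOmega
import Groth.Agent.L19.OmegaSh.ConormalMono

/-!
# A lift of the first order neighbourhood retracts the map of conormal sheaves
-/

set_option autoImplicit false
set_option linter.style.haveILetI false
set_option linter.unusedSectionVars false
set_option backward.isDefEq.respectTransparency.types false
set_option backward.isDefEq.respectTransparency false

universe u

open CategoryTheory CategoryTheory.Limits AlgebraicGeometry TopologicalSpace Opposite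

noncomputable section

namespace Groth.L19.OmegaSh

open Groth.L18.Frame (rs ro rs_rs ro_ro rs_smul ro_self rs_self)
open _root_.OmegaSh (IsConormalMap idealSect pullSect conormalSect)

/-- A lift to `X` of an open piece of the first order neighbourhood of `Z` in `Y`. -/
structure NbhdLift {Z X Y : Scheme.{u}} (p : X ⟶ Y) (i : Z ⟶ X) (j : Z ⟶ Y) where
  K : Y.IdealSheafData
  k : Z ⟶ K.subscheme
  hk : k ≫ K.subschemeι = j
  hK : ∀ V : Y.affineOpens, K.ideal V ≤ RingHom.ker (j.app V.1).hom ^ 2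
  T : K.subscheme.Opens
  L : (T : Scheme.{u}) ⟶ X
  hL : k.resLE T (k ⁻¹ᵁ T) le_rfl ≫ L = (k ⁻¹ᵁ T).ι ≫ i
  hLp : L ≫ p = T.ι ≫ K.subschemeι

namespace NbhdLift

variable {Z X Y : Scheme.{u}} {p : X ⟶ Y} {i : Z ⟶ X} {j : Z ⟶ Y} (D : NbhdLift p i j)

/-- The part of `i⁻¹ O` inside the piece. -/
abbrev Uo (O : X.Opens) : Z.Opens := (D.k ⁻¹ᵁ D.T).ι ''ᵁ ((D.k ⁻¹ᵁ D.T).ι ⁻¹ᵁ (i ⁻¹ᵁ O))

/-- The preimage of `O` in the neighbourhood. -/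
abbrev To (O : X.Opens) : D.K.subscheme.Opens := D.T.ι ''ᵁ (D.L ⁻¹ᵁ O)

/-- The pullback of a function. -/
def lfun {O : X.Opens} (a : Γ(X, O)) : Γ(D.K.subscheme, D.To O) := D.L.app O a

theorem Uo_le (O : X.Opens) : D.Uo O ≤ D.k ⁻¹ᵁ D.To O := by
  rintro _ ⟨⟨z, hz⟩, hzO, rfl⟩
  refine ⟨(D.k.resLE D.T (D.k ⁻¹ᵁ D.T) le_rfl) ⟨z, hz⟩, ?_, ?_⟩
  · show (D.k.resLE D.T (D.k ⁻¹ᵁ D.T) le_rfl ≫ D.L) ⟨z, hz⟩ ∈ O
    rw [D.hL]
    exact hzO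
  · show (D.k.resLE D.T (D.k ⁻¹ᵁ D.T) le_rfl ≫ D.T.ι) ⟨z, hz⟩ = _
    rw [Scheme.Hom.resLE_comp_ι]
    rfl

theorem le_Uo (O : X.Opens) : D.k ⁻¹ᵁ D.To O ≤ D.Uo O := by
  intro z hz
  have hzT : D.k z ∈ D.T := D.T.ι_image_le _ hz
  obtain ⟨⟨t, ht⟩, htO, htz⟩ := hz
  have ht' : t = D.k z := htz
  subst ht'
  refine ⟨⟨z, hzT⟩, ?_, rfl⟩
  show ((D.k ⁻¹ᵁ D.T).ι ≫ i) ⟨z, hzT⟩ ∈ O
  rw [← D.hL]
  have : (D.k.resLE D.T (D.k ⁻¹ᵁ D.T) le_rfl) ⟨z, hzT⟩ = ⟨D.k z, ht⟩ := by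
    refine Subtype.ext ?_
    show (D.k.resLE D.T (D.k ⁻¹ᵁ D.T) le_rfl ≫ D.T.ι) ⟨z, hzT⟩ = _
    rw [Scheme.Hom.resLE_comp_ι]
    rfl
  show D.L ((D.k.resLE D.T (D.k ⁻¹ᵁ D.T) le_rfl) ⟨z, hzT⟩) ∈ O
  rw [this]
  exact htO

theorem preimage_To_le (O : X.Opens) : D.k ⁻¹ᵁ D.To O ≤ i ⁻¹ᵁ O :=
  (D.le_Uo O).trans ((D.k ⁻¹ᵁ D.T).ι.image_preimage_le _)

theorem app_lfun {O : X.Opens} (a : Γ(X, O)) :
    D.k.app (D.To O) (D.lfun a) = ro (D.preimage_To_le O) (i.app O a) := by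
  let U := D.k ⁻¹ᵁ D.T
  let κ := D.k.resLE D.T U le_rfl
  have e : U.ι ⁻¹ᵁ (i ⁻¹ᵁ O) ≤ κ ⁻¹ᵁ (D.L ⁻¹ᵁ O) := by
    rw [← Scheme.Hom.comp_preimage, ← Scheme.Hom.comp_preimage, D.hL]
  have h1 : D.k.appLE (D.To O) (D.Uo O) (D.Uo_le O) (D.lfun a) =
      ro ((D.k ⁻¹ᵁ D.T).ι.image_preimage_le _) (i.app O a) := by
    have h2 : κ.appLE (D.L ⁻¹ᵁ O) (U.ι ⁻¹ᵁ (i ⁻¹ᵁ O)) e (D.L.app O a) =
        D.k.appLE (D.To O) (D.Uo O) (D.Uo_le O) (D.lfun a) := by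
      rw [Scheme.Hom.resLE_appLE]
      rfl
    rw [← h2, Scheme.Hom.app_eq_appLE, ← CommRingCat.comp_apply, Scheme.Hom.appLE_comp_appLE,
      _root_.OmegaSh.appLE_congr_hom D.hL _
        (show U.ι ⁻¹ᵁ (i ⁻¹ᵁ O) ≤ (U.ι ≫ i) ⁻¹ᵁ O from (Scheme.Hom.comp_preimage _ _ _).ge),
      ← Scheme.Hom.appLE_comp_appLE U.ι i O (i ⁻¹ᵁ O) _ le_rfl le_rfl, CommRingCat.comp_apply,
      ← Scheme.Hom.app_eq_appLE, ← Scheme.Hom.app_eq_appLE]
    rfl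
  have h3 := congrArg (ro (D.le_Uo O)) h1
  rw [ro_ro] at h3
  refine Eq.trans ?_ h3
  rw [Scheme.Hom.app_eq_appLE]
  exact (congr($(Scheme.Hom.appLE_map D.k (D.Uo_le O) (homOfLE (D.le_Uo O)).op) (D.lfun a))).symm

/-- A local lift to `Y` of a pulled back function. -/
structure Pair (D : NbhdLift p i j) {O : X.Opens} (a : Γ(X, O)) where
  V : Y.affineOpens
  le : D.K.subschemeι ⁻¹ᵁ V.1 ≤ D.To O
  b : Γ(Y, V.1)
  eq : D.K.subschemeι.app V.1 b = ro le (D.lfun a)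

variable {D} {O : X.Opens} {a : Γ(X, O)}

theorem preimage_j (V : Y.Opens) : j ⁻¹ᵁ V = D.k ⁻¹ᵁ (D.K.subschemeι ⁻¹ᵁ V) :=
  (congrArg (fun g : Z ⟶ Y => g ⁻¹ᵁ V) D.hk).symm.trans (Scheme.Hom.comp_preimage _ _ _)

theorem Pair.jle (P : D.Pair a) : j ⁻¹ᵁ P.V.1 ≤ D.Uo O := by
  exact (preimage_j (D := D) P.V.1).le.trans ((Scheme.Hom.preimage_mono D.k P.le).trans (D.le_Uo O))

theorem Pair.app_b (P : D.Pair a) :
    j.app P.V.1 P.b = ro (P.jle.trans ((D.k ⁻¹ᵁ D.T).ι.image_preimage_le _)) (i.app O a) := by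
  have e : j ⁻¹ᵁ P.V.1 ≤ (D.k ≫ D.K.subschemeι) ⁻¹ᵁ P.V.1 := by rw [D.hk]
  have h1 : (D.k ≫ D.K.subschemeι).appLE P.V.1 (j ⁻¹ᵁ P.V.1) e P.b = j.app P.V.1 P.b := by
    rw [_root_.OmegaSh.appLE_congr_hom D.hk e le_rfl, ← Scheme.Hom.app_eq_appLE]
  rw [← h1, Scheme.Hom.appLE, CommRingCat.comp_apply, Scheme.Hom.comp_app, CommRingCat.comp_apply, P.eq]
  refine (congrArg (ro e) ((app_ro (i := D.k) P.le (D.lfun a)).trans (congrArg _ (D.app_lfun a)))).trans ?_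
  exact (congrArg (ro e) (ro_ro _ _ _)).trans (ro_ro _ _ _)

theorem exists_pair (z : Z) (hz : z ∈ D.Uo O) : ∃ P : D.Pair a, z ∈ j ⁻¹ᵁ P.V.1 := by
  obtain ⟨O', hO', hOO'⟩ := D.K.subschemeι.isClosedEmbedding.isInducing.isOpen_iff.mp (D.To O).2
  have hkz : D.k z ∈ D.To O := D.Uo_le O hz
  obtain ⟨_, ⟨V, hV, rfl⟩, hzV, hVO⟩ := Y.isBasis_affineOpens.exists_subset_of_mem_open
    (show D.K.subschemeι (D.k z) ∈ O' from hOO'.symm.subset hkz) hO'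
  have le : D.K.subschemeι ⁻¹ᵁ V ≤ D.To O := fun y hy => hOO'.subset (hVO hy)
  obtain ⟨b, hb⟩ := D.K.subschemeι_app_surjective ⟨V, hV⟩ (ro le (D.lfun a))
  exact ⟨⟨⟨V, hV⟩, le, b, hb⟩, (preimage_j (D := D) V).ge hzV⟩

variable [QuasiCompact j]

theorem Pair.exists_idl {s : Γ(idl i, O)} (P : D.Pair (idealSect i.ker O s)) :
    ∃ t : Γ(idl j, P.V.1), idealSect j.ker P.V.1 t = P.b :=
  exists_idealSect j _ _ (by rw [P.app_b, app_idealSect]; exact map_zero _)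

/-- The class of the lift. -/
def Pair.val {s : Γ(idl i, O)} (P : D.Pair (idealSect i.ker O s)) : Γ(Omega.conormal j, j ⁻¹ᵁ P.V.1) :=
  conormalSect j P.V.1 P.exists_idl.choose

theorem Pair.val_eq {s : Γ(idl i, O)} (P : D.Pair (idealSect i.ker O s)) (t : Γ(idl j, P.V.1))
    (ht : idealSect j.ker P.V.1 t = P.b) : P.val = conormalSect j P.V.1 t := by
  rw [Pair.val, idealSect_injective j _ (P.exists_idl.choose_spec.trans ht.symm)]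

theorem Pair.val_congr {s : Γ(idl i, O)} (P P' : D.Pair (idealSect i.ker O s)) :
    rs (Omega.conormal j) (inf_le_left : j ⁻¹ᵁ P.V.1 ⊓ j ⁻¹ᵁ P'.V.1 ≤ _) P.val =
      rs (Omega.conormal j) inf_le_right P'.val := by
  refine eq_of_local _ _ fun z hz => ?_
  obtain ⟨_, ⟨V, hV, rfl⟩, hzV, hVle⟩ :=
    Y.isBasis_affineOpens.exists_subset_of_mem_open (show j z ∈ P.V.1 ⊓ P'.V.1 from hz) (P.V.1 ⊓ P'.V.1).2
  have f₁ : V ≤ P.V.1 := fun y hy => (hVle hy).1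
  have f₂ : V ≤ P'.V.1 := fun y hy => (hVle hy).2
  refine ⟨j ⁻¹ᵁ V, fun y hy => ⟨f₁ hy, f₂ hy⟩, hzV, ?_⟩
  obtain ⟨t, ht⟩ := P.exists_idl
  obtain ⟨t', ht'⟩ := P'.exists_idl
  rw [P.val_eq t ht, P'.val_eq t' ht', rs_rs, rs_rs]
  refine (conormalSect_rs f₁ t).symm.trans (Eq.trans ?_ (conormalSect_rs f₂ t'))
  refine conormalSect_eq_of_sub_mem_sq _ _ (D.hK ⟨V, hV⟩ ?_)
  rw [← D.K.ker_subschemeι_app ⟨V, hV⟩, RingHom.mem_ker, idealSect_rs, idealSect_rs, ht, ht']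
  show D.K.subschemeι.app V (ro f₁ P.b - ro f₂ P'.b) = 0
  rw [map_sub, sub_eq_zero, app_ro, app_ro, P.eq, P'.eq, ro_ro, ro_ro]

/-- The target of the retraction. -/
abbrev Tgt (D : NbhdLift p i j) : Z.Modules :=
  (Scheme.Modules.pushforward (D.k ⁻¹ᵁ D.T).ι).obj ((Omega.conormal j).restrict (D.k ⁻¹ᵁ D.T).ι)

theorem existsUnique_rval (D : NbhdLift p i j) {O : X.Opens} (s : Γ(idl i, O)) :
    ∃! v : Γ(Omega.conormal j, D.Uo O), ∀ P : D.Pair (idealSect i.ker O s),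
      rs (Omega.conormal j) P.jle v = P.val :=
  existsUnique_glue_opens (Omega.conormal j) (fun P : D.Pair (idealSect i.ker O s) => j ⁻¹ᵁ P.V.1)
    (fun P => P.jle) (fun z hz => exists_pair z hz) (fun P => P.val) fun P P' => P.val_congr P'

/-- The value of the retraction. -/
def rval (D : NbhdLift p i j) (O : X.Opens) (s : Γ(idl i, O)) : Γ(Omega.conormal j, D.Uo O) :=
  (D.existsUnique_rval s).choose

theorem rval_spec {s : Γ(idl i, O)} (P : D.Pair (idealSect i.ker O s)) :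
    rs (Omega.conormal j) P.jle (D.rval O s) = P.val :=
  (D.existsUnique_rval s).choose_spec.1 P

theorem rval_unique {s : Γ(idl i, O)} (w : Γ(Omega.conormal j, D.Uo O))
    (h : ∀ z ∈ D.Uo O, ∃ P : D.Pair (idealSect i.ker O s), z ∈ j ⁻¹ᵁ P.V.1 ∧
      rs (Omega.conormal j) P.jle w = P.val) : D.rval O s = w := by
  refine eq_of_local _ _ fun z hz => ?_
  obtain ⟨P, hzP, hP⟩ := h z hz
  exact ⟨_, P.jle, hzP, (rval_spec P).trans hP.symm⟩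

/-- Restrict a pair. -/
def Pair.restrict (P : D.Pair a) (V : Y.affineOpens) (h : V.1 ≤ P.V.1) : D.Pair a :=
  ⟨V, (Scheme.Hom.preimage_mono _ h).trans P.le, ro h P.b, by rw [app_ro, P.eq, ro_ro]⟩

theorem exists_pair₂ {a' : Γ(X, O)} (z : Z) (hz : z ∈ D.Uo O) :
    ∃ (P : D.Pair a) (P' : D.Pair a'), P.V = P'.V ∧ z ∈ j ⁻¹ᵁ P.V.1 := by
  obtain ⟨P, hP⟩ := exists_pair (a := a) z hz
  obtain ⟨P', hP'⟩ := exists_pair (a := a') z hz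
  obtain ⟨_, ⟨V, hV, rfl⟩, hzV, hVle⟩ :=
    Y.isBasis_affineOpens.exists_subset_of_mem_open (show j z ∈ P.V.1 ⊓ P'.V.1 from ⟨hP, hP'⟩) (P.V.1 ⊓ P'.V.1).2
  exact ⟨P.restrict ⟨V, hV⟩ fun y hy => (hVle hy).1, P'.restrict ⟨V, hV⟩ fun y hy => (hVle hy).2, rfl, hzV⟩

theorem rval_add (s s' : Γ(idl i, O)) : D.rval O (s + s') = D.rval O s + D.rval O s' :=
  rval_unique _ fun z hz => by
    obtain ⟨⟨V, le, b, hb⟩, ⟨V', le', b', hb'⟩, hV, hzP⟩ :=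
      exists_pair₂ (D := D) (a := idealSect i.ker O s) (a' := idealSect i.ker O s') z hz
    dsimp only at hV
    subst hV
    let Q : D.Pair (idealSect i.ker O (s + s')) := ⟨V, le, b + b', by
      rw [map_add, hb, hb']
      simp only [lfun, map_add]⟩
    refine ⟨Q, hzP, ?_⟩
    obtain ⟨t, ht⟩ := (⟨V, le, b, hb⟩ : D.Pair (idealSect i.ker O s)).exists_idl
    obtain ⟨t', ht'⟩ := (⟨V, le, b', hb'⟩ : D.Pair (idealSect i.ker O s')).exists_idl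
    refine Eq.trans ?_ (Q.val_eq (t + t') ((map_add (idealSect j.ker V.1) t t').trans (congrArg₂ (· + ·) ht ht'))).symm
    refine (map_add _ _ _).trans (Eq.trans ?_ (map_add (conormalSect j _).hom _ _).symm)
    exact congrArg₂ (· + ·) ((rval_spec (⟨V, le, b, hb⟩ : D.Pair (idealSect i.ker O s))).trans (Pair.val_eq _ t ht))
      ((rval_spec (⟨V, le, b', hb'⟩ : D.Pair (idealSect i.ker O s'))).trans (Pair.val_eq _ t' ht'))

theorem rval_smul (r : Γ(X, O)) (s : Γ(idl i, O)) :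
    D.rval O (r • s) = ro ((D.k ⁻¹ᵁ D.T).ι.image_preimage_le _) (i.app O r) • D.rval O s :=
  rval_unique _ fun z hz => by
    obtain ⟨⟨V, le, b, hb⟩, ⟨V', le', b', hb'⟩, hV, hzP⟩ :=
      exists_pair₂ (D := D) (a := r) (a' := idealSect i.ker O s) z hz
    dsimp only at hV
    subst hV
    let Q : D.Pair (idealSect i.ker O (r • s)) := ⟨V, le, b * b', by
      rw [map_mul, hb, hb', idealSect_smul]
      simp only [lfun, map_mul]⟩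
    refine ⟨Q, hzP, ?_⟩
    let P₁ : D.Pair r := ⟨V, le, b, hb⟩
    let P₂ : D.Pair (idealSect i.ker O s) := ⟨V, le, b', hb'⟩
    obtain ⟨t, ht⟩ := P₂.exists_idl
    refine Eq.trans ?_ (Q.val_eq (b • t) ((idealSect_smul j V.1 b t).trans (congrArg (b * ·) ht))).symm
    rw [conormalSect_smul]
    refine (rs_smul _ _ _ _).trans (congrArg₂ (· • ·) ?_ ((rval_spec P₂).trans (P₂.val_eq t ht)))
    exact (ro_ro _ _ _).trans P₁.app_b.symm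

theorem Uo_mono {O' : X.Opens} (h : O' ≤ O) : D.Uo O' ≤ D.Uo O :=
  Scheme.Hom.image_mono _ (Scheme.Hom.preimage_mono _ (Scheme.Hom.preimage_mono _ h))

theorem rval_res {O' : X.Opens} (h : O' ≤ O) (s : Γ(idl i, O)) :
    D.rval O' (rs (idl i) h s) = rs (Omega.conormal j) (Uo_mono h) (D.rval O s) :=
  rval_unique _ fun z hz => by
    obtain ⟨⟨V, le, b, hb⟩, hzP⟩ := exists_pair (D := D) (a := idealSect i.ker O' (rs (idl i) h s)) z hz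
    have hTo : D.To O' ≤ D.To O := Scheme.Hom.image_mono _ (Scheme.Hom.preimage_mono _ h)
    let P' : D.Pair (idealSect i.ker O s) := ⟨V, le.trans hTo, b, by
      rw [hb, idealSect_rs]
      show ro le (D.L.app O' (ro h _)) = _
      rw [app_ro]
      exact ro_ro hTo le _⟩
    refine ⟨⟨V, le, b, hb⟩, hzP, (rs_rs _ _ _ _).trans ((rval_spec P').trans ?_)⟩
    obtain ⟨t, ht⟩ := P'.exists_idl
    rw [P'.val_eq t ht, Pair.val_eq (⟨V, le, b, hb⟩ : D.Pair (idealSect i.ker O' (rs (idl i) h s))) t ht]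

theorem To_le (V₀ : Y.Opens) : D.To (p ⁻¹ᵁ V₀) ≤ D.K.subschemeι ⁻¹ᵁ V₀ := by
  rintro _ ⟨t, ht, rfl⟩
  show (D.T.ι ≫ D.K.subschemeι) t ∈ V₀
  rw [← D.hLp]
  exact ht

theorem lfun_app (V₀ : Y.Opens) (h : D.To (p ⁻¹ᵁ V₀) ≤ D.K.subschemeι ⁻¹ᵁ V₀) (x : Γ(Y, V₀)) :
    D.lfun (p.app V₀ x) = ro h (D.K.subschemeι.app V₀ x) := by
  have e₁ : D.L ⁻¹ᵁ (p ⁻¹ᵁ V₀) ≤ (D.L ≫ p) ⁻¹ᵁ V₀ := (Scheme.Hom.comp_preimage _ _ _).ge
  have e₂ : D.L ⁻¹ᵁ (p ⁻¹ᵁ V₀) ≤ (D.T.ι ≫ D.K.subschemeι) ⁻¹ᵁ V₀ := fun t ht => h ⟨t, ht, rfl⟩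
  have e₃ : D.L ⁻¹ᵁ (p ⁻¹ᵁ V₀) ≤ D.T.ι ⁻¹ᵁ (D.K.subschemeι ⁻¹ᵁ V₀) := fun t ht => h ⟨t, ht, rfl⟩
  have h1 : D.L.app (p ⁻¹ᵁ V₀) (p.app V₀ x) = (D.L ≫ p).appLE V₀ (D.L ⁻¹ᵁ (p ⁻¹ᵁ V₀)) e₁ x := by
    rw [Scheme.Hom.app_eq_appLE, Scheme.Hom.app_eq_appLE, ← CommRingCat.comp_apply, Scheme.Hom.appLE_comp_appLE]
  have h2 : (D.T.ι ≫ D.K.subschemeι).appLE V₀ (D.L ⁻¹ᵁ (p ⁻¹ᵁ V₀)) e₂ x =
      ro e₃ (D.T.ι.app (D.K.subschemeι ⁻¹ᵁ V₀) (D.K.subschemeι.app V₀ x)) := by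
    rw [Scheme.Hom.appLE, CommRingCat.comp_apply, Scheme.Hom.comp_app]
    rfl
  have h3 : D.L.app (p ⁻¹ᵁ V₀) (p.app V₀ x) =
      ro e₃ (D.T.ι.app (D.K.subschemeι ⁻¹ᵁ V₀) (D.K.subschemeι.app V₀ x)) :=
    (h1.trans congr($(_root_.OmegaSh.appLE_congr_hom D.hLp e₁ e₂) x)).trans h2
  exact h3.trans (ro_ro (D.T.ι.image_preimage_le (D.K.subschemeι ⁻¹ᵁ V₀)) (D.T.ι.image_mono e₃)
    (D.K.subschemeι.app V₀ x))

theorem rval_local {s : Γ(idl i, O)} (W : Y.affineOpens) (le : D.K.subschemeι ⁻¹ᵁ W.1 ≤ D.To O)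
    (t : Γ(idl j, W.1)) (hb : D.K.subschemeι.app W.1 (idealSect j.ker W.1 t) = ro le (D.lfun (idealSect i.ker O s)))
    (h : j ⁻¹ᵁ W.1 ≤ D.Uo O) : rs (Omega.conormal j) h (D.rval O s) = conormalSect j W.1 t :=
  let P : D.Pair (idealSect i.ker O s) := ⟨W, le, idealSect j.ker W.1 t, hb⟩
  (rval_spec P).trans (P.val_eq t rfl)

/-- On the piece the map of conormal sheaves has a retraction. -/
theorem exists_retraction (D : NbhdLift p i j) [QuasiCompact i]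
    (ψ : (Scheme.Modules.pullback (𝟙 Z)).obj (Omega.conormal j) ⟶ Omega.conormal i)
    (hψ : IsConormalMap i j p (𝟙 Z) ψ) :
    ∃ r : Omega.conormal i ⟶ D.Tgt,
      (Scheme.Modules.pullbackId Z).inv.app (Omega.conormal j) ≫ ψ ≫ r =
        (Scheme.Modules.restrictAdjunction (D.k ⁻¹ᵁ D.T).ι).unit.app (Omega.conormal j) := by
  obtain ⟨r, hr⟩ := exists_conormal_hom (i := i) (N := D.Tgt) (fun O s => D.rval O s)
    (fun O s t => rval_add s t)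
    (fun O a s => by
      rw [rval_smul]
      show _ = (show Γ(Z, D.Uo O) from ((D.k ⁻¹ᵁ D.T).ι.appIso _).inv ((D.k ⁻¹ᵁ D.T).ι.app _ (i.app O a))) •
        D.rval O s
      simp only [Scheme.Opens.ι_appIso, Scheme.Opens.ι_app]
      rfl)
    (fun O O' h s => rval_res h s)
  refine ⟨r, conormal_hom_ext (i := j) fun V₀ t => ?_⟩
  obtain ⟨s, hs⟩ := exists_conormalMap_val hψ.1 V₀ t
  have hv : ((Scheme.Modules.pullbackId Z).inv.app (Omega.conormal j) ≫ ψ).app (j ⁻¹ᵁ V₀) (conormalSect j V₀ t) =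
      rs (Omega.conormal i) (preimage_comm hψ.1 V₀).le (conormalSect i (p ⁻¹ᵁ V₀) s) :=
    (conormalMap_id_value hψ.1 hψ V₀ t).trans (cVal_eq hψ.1 s hs)
  refine (congrArg (r.app _) hv).trans ?_
  rw [hom_rs, hr, Scheme.Modules.restrictAdjunction_unit_app_app]
  refine eq_of_local (N := Omega.conormal j)
    (U := (D.k ⁻¹ᵁ D.T).ι ''ᵁ ((D.k ⁻¹ᵁ D.T).ι ⁻¹ᵁ (j ⁻¹ᵁ V₀))) _ _ fun z hz => ?_
  have hz' : z ∈ D.Uo (p ⁻¹ᵁ V₀) := Scheme.Hom.image_mono _ (Scheme.Hom.preimage_mono _ (preimage_comm hψ.1 V₀).le) hz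
  obtain ⟨P, hzP⟩ := exists_pair (D := D) (a := idealSect i.ker (p ⁻¹ᵁ V₀) s) z hz'
  obtain ⟨_, ⟨W, hW, rfl⟩, hzW, hWle⟩ := Y.isBasis_affineOpens.exists_subset_of_mem_open
    (show j z ∈ P.V.1 ⊓ V₀ from ⟨hzP, (D.k ⁻¹ᵁ D.T).ι.image_preimage_le _ hz⟩) (P.V.1 ⊓ V₀).2
  have hW₀ : W ≤ V₀ := fun y hy => (hWle hy).2
  have le : D.K.subschemeι ⁻¹ᵁ W ≤ D.To (p ⁻¹ᵁ V₀) :=
    (Scheme.Hom.preimage_mono _ (fun y hy => (hWle hy).1)).trans P.le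
  have hb : D.K.subschemeι.app W (idealSect j.ker W (rs (idl j) hW₀ t)) =
      ro le (D.lfun (idealSect i.ker (p ⁻¹ᵁ V₀) s)) := by
    rw [idealSect_rs, hs, lfun_app (D := D) V₀ (To_le (D := D) V₀), app_ro, ro_ro]
  have h' : j ⁻¹ᵁ W ≤ D.Uo (p ⁻¹ᵁ V₀) :=
    (preimage_j (D := D) W).le.trans ((Scheme.Hom.preimage_mono D.k le).trans (D.le_Uo _))
  have hle : j ⁻¹ᵁ W ≤ (D.k ⁻¹ᵁ D.T).ι ''ᵁ ((D.k ⁻¹ᵁ D.T).ι ⁻¹ᵁ (j ⁻¹ᵁ V₀)) :=
    h'.trans (Scheme.Hom.image_mono _ (Scheme.Hom.preimage_mono _ (preimage_comm hψ.1 V₀).ge))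
  have e1 : (D.k ⁻¹ᵁ D.T).ι ''ᵁ ((D.k ⁻¹ᵁ D.T).ι ⁻¹ᵁ (j ⁻¹ᵁ V₀)) ≤ D.Uo (p ⁻¹ᵁ V₀) :=
    Scheme.Hom.image_mono _ (Scheme.Hom.preimage_mono _ (preimage_comm hψ.1 V₀).le)
  refine ⟨j ⁻¹ᵁ W, hle, hzW, ?_⟩
  exact ((rs_rs (Omega.conormal j) e1 hle (D.rval (p ⁻¹ᵁ V₀) s)).trans
    ((rval_local ⟨W, hW⟩ le (rs (idl j) hW₀ t) hb h').trans (conormalSect_rs hW₀ t))).trans
    (rs_rs (Omega.conormal j) ((D.k ⁻¹ᵁ D.T).ι.image_preimage_le (j ⁻¹ᵁ V₀)) hle (conormalSect j V₀ t)).symm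

end NbhdLift

variable {Z X Y : Scheme.{u}} {p : X ⟶ Y} {i : Z ⟶ X} {j : Z ⟶ Y}

theorem exists_nbhdLift_of (hp : MoreMor.IsFormallySmoothHom p) (hij : i ≫ p = j) (K : Y.IdealSheafData)
    (k : Z ⟶ K.subscheme) (hk : k ≫ K.subschemeι = j)
    (hK : ∀ W : Y.affineOpens, K.ideal W = RingHom.ker (j.app W.1).hom ^ 2) (V : Y.affineOpens)
    (hU : IsAffineOpen (j ⁻¹ᵁ V.1)) (hs : Function.Surjective (j.app V.1)) {z : Z} (hzV : j z ∈ V.1) :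
    ∃ D : NbhdLift p i j, z ∈ D.k ⁻¹ᵁ D.T := by
  let T : K.subscheme.Opens := K.subschemeι ⁻¹ᵁ V.1
  have hT : IsAffineOpen T := V.2.preimage K.subschemeι
  have hkT : k ⁻¹ᵁ T = j ⁻¹ᵁ V.1 :=
    (Scheme.Hom.comp_preimage k K.subschemeι V.1).symm.trans (congrArg (fun g : Z ⟶ Y => g ⁻¹ᵁ V.1) hk)
  have hU' : IsAffineOpen (k ⁻¹ᵁ T) := by rw [hkT]; exact hU
  have hsq : ∀ x y : Γ(K.subscheme, T), k.app T x = 0 → k.app T y = 0 → x * y = 0 := by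
    intro x y hx hy
    obtain ⟨a, rfl⟩ := K.subschemeι_app_surjective V x
    obtain ⟨b, rfl⟩ := K.subschemeι_app_surjective V y
    have hj : ∀ c : Γ(Y, V.1), k.app T (K.subschemeι.app V.1 c) = 0 → c ∈ RingHom.ker (j.app V.1).hom := by
      intro c hc
      have h1 : (k ≫ K.subschemeι).app V.1 c = 0 := by
        rw [Scheme.Hom.comp_app, CommRingCat.comp_apply]
        exact hc
      have h2 : (k ≫ K.subschemeι).appLE V.1 (j ⁻¹ᵁ V.1) (by rw [hk]) c = 0 := by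
        rw [Scheme.Hom.appLE, CommRingCat.comp_apply, h1]
        exact map_zero _
      rwa [_root_.OmegaSh.appLE_congr_hom hk _ le_rfl, ← Scheme.Hom.app_eq_appLE] at h2
    have hab : a * b ∈ K.ideal V := by
      rw [hK, pow_two]
      exact Ideal.mul_mem_mul (hj a hx) (hj b hy)
    rw [← K.ker_subschemeι_app V, RingHom.mem_ker] at hab
    exact (map_mul (K.subschemeι.app V.1).hom a b).symm.trans hab
  have hsurj : Function.Surjective (k.app T).hom := fun b => by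
    obtain ⟨a, ha⟩ := hs (ro hkT.ge b)
    refine ⟨K.subschemeι.app V.1 a, ?_⟩
    have h1 : (k ≫ K.subschemeι).appLE V.1 (j ⁻¹ᵁ V.1) (by rw [hk]) a = j.app V.1 a := by
      rw [_root_.OmegaSh.appLE_congr_hom hk _ le_rfl, ← Scheme.Hom.app_eq_appLE]
    rw [Scheme.Hom.appLE, CommRingCat.comp_apply, Scheme.Hom.comp_app, CommRingCat.comp_apply, ha] at h1
    have h2 := congrArg (ro hkT.le) h1
    rw [ro_ro, ro_self] at h2
    exact h2.trans ((ro_ro _ _ _).trans (ro_self _ _))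
  obtain ⟨l, hl₁, hl₂, -⟩ := exists_lift_sqZero (k.app T) hsurj
    (by
      refine (pow_two _).trans (eq_bot_iff.mpr (Ideal.mul_le.mpr fun x hx y hy => ?_))
      exact (Ideal.mem_bot).mpr (hsq x y hx hy))
    hp (hU'.fromSpec ≫ i) (hT.fromSpec ≫ K.subschemeι) (by
      rw [Scheme.Hom.app_eq_appLE, ← Category.assoc, IsAffineOpen.SpecMap_appLE_fromSpec k hT hU' le_rfl,
        Category.assoc, hk, Category.assoc, hij])
  have hiso : k.resLE T (k ⁻¹ᵁ T) le_rfl ≫ hT.isoSpec.hom = hU'.isoSpec.hom ≫ Spec.map (k.app T) := by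
    rw [← cancel_mono hT.fromSpec, Category.assoc, Category.assoc, Scheme.Hom.app_eq_appLE,
      IsAffineOpen.SpecMap_appLE_fromSpec k hT hU' le_rfl, hT.isoSpec_hom_fromSpec,
      ← Category.assoc hU'.isoSpec.hom, hU'.isoSpec_hom_fromSpec, Scheme.Hom.resLE_comp_ι]
  refine ⟨⟨K, k, hk, fun W => (hK W).le, T, hT.isoSpec.hom ≫ l, ?_, ?_⟩, hkT.ge hzV⟩
  · rw [← Category.assoc, hiso, Category.assoc, hl₁, ← Category.assoc, hU'.isoSpec_hom_fromSpec]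
  · rw [Category.assoc, hl₂, ← Category.assoc, hT.isoSpec_hom_fromSpec]

theorem exists_nbhdLift [IsImmersion j] [QuasiCompact j] (hp : MoreMor.IsFormallySmoothHom p) (hij : i ≫ p = j)
    (z : Z) : ∃ D : NbhdLift p i j, z ∈ D.k ⁻¹ᵁ D.T := by
  obtain ⟨V, hzV, -, hU, hs⟩ := exists_affine_surjective (i := j) z ⊤ trivial
  have hle : j.ker ^ 2 ≤ j.ker := fun _ => Ideal.pow_le_self two_ne_zero
  refine exists_nbhdLift_of hp hij (j.ker ^ 2) (j.toImage ≫ Scheme.IdealSheafData.inclusion hle) ?_ (fun W => ?_)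
    V hU hs hzV
  · rw [Category.assoc, Scheme.IdealSheafData.inclusion_subschemeι]
    exact j.toImage_imageι
  · rw [Scheme.IdealSheafData.ideal_pow, Pi.pow_apply, Scheme.Hom.ker_apply]

theorem mono_conormalMap_of_formallySmooth [IsImmersion j] [QuasiCompact j] [QuasiCompact i]
    (hp : MoreMor.IsFormallySmoothHom p)
    (ψ : (Scheme.Modules.pullback (𝟙 Z)).obj (Omega.conormal j) ⟶ Omega.conormal i)
    (hψ : IsConormalMap i j p (𝟙 Z) ψ) : Mono ψ := by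
  let b : Omega.conormal j ⟶ (Scheme.Modules.pullback (𝟙 Z)).obj (Omega.conormal j) :=
    (Scheme.Modules.pullbackId Z).inv.app (Omega.conormal j)
  suffices Mono (b ≫ ψ) by
    have h : ψ = inv b ≫ (b ≫ ψ) := by rw [IsIso.inv_hom_id_assoc]
    rw [h]
    infer_instance
  refine ⟨fun {M} α β hαβ => ?_⟩
  ext O s
  refine eq_of_local _ _ fun z hz => ?_
  obtain ⟨D, hzU⟩ := exists_nbhdLift (i := i) hp (hψ.1.symm.trans (Category.id_comp j)) z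
  obtain ⟨r, hr⟩ := D.exists_retraction ψ hψ
  let U := D.k ⁻¹ᵁ D.T
  refine ⟨U.ι ''ᵁ (U.ι ⁻¹ᵁ O), U.ι.image_preimage_le O, ⟨⟨z, hzU⟩, hz, rfl⟩, ?_⟩
  have h : ∀ γ : M ⟶ Omega.conormal j, rs (Omega.conormal j) (U.ι.image_preimage_le O) (γ.app O s) =
      r.app O ((γ ≫ b ≫ ψ).app O s) := fun γ => by
    have h1 := congr($(congrArg (fun η => Scheme.Modules.Hom.app η O) hr) (γ.app O s))
    rw [Scheme.Modules.restrictAdjunction_unit_app_app] at h1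
    exact h1.symm
  exact (h α).trans ((congrArg (r.app O) congr($(congrArg (fun η => Scheme.Modules.Hom.app η O) hαβ) s)).trans (h β).symm)

end Groth.L19.OmegaSh
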