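import Groth.Agent.L19.OmegaSh.DiffCompat
import Mathlib.AlgebraicGeometry.Morphisms.FormallyUnramified

/-!
# Formally unramified morphisms and vanishing of derivations
-/

set_option autoImplicit false
set_option linter.style.haveILetI false
set_option backward.isDefEq.respectTransparency.types false
set_option backward.isDefEq.respectTransparency false

universe u

open CategoryTheory CategoryTheory.Limits AlgebraicGeometry TopologicalSpace Opposite

noncomputable section

namespace Groth.L19.OmegaSh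

open Groth.L18.Frame (rs ro)
open _root_.OmegaSh (Der IsUniversal IsDiffCompat pullSect)

variable {X Y : Scheme.{u}}

/-- The chart of a sheaf of differentials on a pair of affine opens. -/
theorem exists_chart_affine {f : X ⟶ Y} {Ω : X.Modules} {d : Der f Ω} (hd : IsUniversal d)
    {U : X.Opens} (hU : IsAffineOpen U) {V : Y.Opens} (hV : IsAffineOpen V) (e : U ≤ f ⁻¹ᵁ V) :
    letI : Algebra Γ(Y, V) Γ(X, U) := (f.appLE V U e).hom.toAlgebra
    ∃ i : Ω.restrict hU.fromSpec ≅
        tilde (R := CommRingCat.of Γ(X, U)) (ModuleCat.of Γ(X, U) Ω[Γ(X, U)⁄Γ(Y, V)]),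
      ∀ a : Γ(X, U), i.hom.app ⊤ ((resDer hU.fromSpec d).app ⊤ ((Scheme.ΓSpecIso Γ(X, U)).inv a)) =
        tilde.toOpen (R := CommRingCat.of Γ(X, U)) (ModuleCat.of Γ(X, U) Ω[Γ(X, U)⁄Γ(Y, V)]) ⊤
          (KaehlerDifferential.D Γ(Y, V) Γ(X, U) a) := by
  letI : Algebra Γ(Y, V) Γ(X, U) := (f.appLE V U e).hom.toAlgebra
  exact exists_chart hd hU.fromSpec hV.fromSpec (IsAffineOpen.SpecMap_appLE_fromSpec f hV hU e)

variable {f : X ⟶ Y}

theorem der_eq_zero_of_formallyUnramified [FormallyUnramified f] {G : X.Modules} (D : Der f G)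
    (U : X.Opens) (a : Γ(X, U)) : D.app U a = 0 := by
  refine eq_of_good (f := f) _ _ fun W hW hWU => ?_
  show rs G hWU (D.app U a) = rs G hWU 0
  rw [← der_map]
  refine Eq.trans ?_ (map_zero _).symm
  obtain ⟨V, e⟩ := hW
  letI : Algebra Γ(Y, V.1) Γ(X, W.1) := (f.appLE V.1 W.1 e).hom.toAlgebra
  haveI : Algebra.FormallyUnramified Γ(Y, V.1) Γ(X, W.1) := f.formallyUnramified_appLE V.2 W.2 e
  letI : Module Γ(Y, V.1) Γ(G, W.1) := Module.compHom _ (algebraMap Γ(Y, V.1) Γ(X, W.1))
  haveI : IsScalarTower Γ(Y, V.1) Γ(X, W.1) Γ(G, W.1) := IsScalarTower.of_compHom _ _ _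
  let δ : Γ(X, W.1) →ₗ[Γ(Y, V.1)] Γ(G, W.1) :=
    { toFun := D.app W.1
      map_add' := map_add (D.app W.1)
      map_smul' := fun c b => by
        rw [Algebra.smul_def, der_mul, show D.app W.1 (algebraMap Γ(Y, V.1) Γ(X, W.1) c) = 0 from der_appLE D e c,
          smul_zero, add_zero]
        rfl }
  let E : Derivation Γ(Y, V.1) Γ(X, W.1) Γ(G, W.1) := Derivation.mk' δ fun x y => der_mul D x y
  have h := Derivation.liftKaehlerDifferential_comp_D E (ro hWU a)
  rw [Subsingleton.elim ((KaehlerDifferential.D Γ(Y, V.1) Γ(X, W.1)) (ro hWU a)) 0, map_zero] at h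
  exact h.symm

theorem formallyUnramified_of_der_eq_zero
    (h : ∀ (G : X.Modules) (D : Der f G) (U : X.Opens) (a : Γ(X, U)), D.app U a = 0) : FormallyUnramified f := by
  refine ⟨fun {V} hV {U} hU e => ?_⟩
  letI : Algebra Γ(Y, V) Γ(X, U) := (f.appLE V U e).hom.toAlgebra
  show Algebra.FormallyUnramified Γ(Y, V) Γ(X, U)
  obtain ⟨D, -, hD⟩ := exists_universal_tilde hV.fromSpec (hU.fromSpec ≫ f)
    (IsAffineOpen.SpecMap_appLE_fromSpec f hV hU e)
  have hzero : ∀ a : Γ(X, U), KaehlerDifferential.D Γ(Y, V) Γ(X, U) a = 0 := by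
    intro a
    have hp := h _ (pushDer hU.fromSpec D) U a
    have h0 : D.app ⊤ ((Scheme.ΓSpecIso Γ(X, U)).inv a) = 0 := by
      have hle : (⊤ : (Spec Γ(X, U)).Opens) ≤ hU.fromSpec ⁻¹ᵁ U := hU.fromSpec_preimage_self.ge
      have h1 : ro hle (hU.fromSpec.app U a) = (Scheme.ΓSpecIso Γ(X, U)).inv a := by
        rw [hU.fromSpec_app_self]
        show ro hle (ro (le_of_eq hU.fromSpec_preimage_self) ((Scheme.ΓSpecIso Γ(X, U)).inv a)) = _
        exact (Groth.L18.Frame.ro_ro _ _ _).trans (Groth.L18.Frame.ro_self _ _)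
      rw [← h1, der_map]
      refine (congrArg (rs _ hle) ?_).trans (map_zero _)
      exact hp
    rw [hD] at h0
    have h2 := congr($((tilde.isoTop (ModuleCat.of (CommRingCat.of Γ(X, U)) Ω[Γ(X, U)⁄Γ(Y, V)])).hom_inv_id)
      (KaehlerDifferential.D Γ(Y, V) Γ(X, U) a))
    refine h2.symm.trans ?_
    exact (congrArg _ h0).trans (map_zero
      (tilde.isoTop (ModuleCat.of (CommRingCat.of Γ(X, U)) Ω[Γ(X, U)⁄Γ(Y, V)])).inv.hom)
  refine ⟨subsingleton_of_forall_eq 0 fun z => ?_⟩
  have hz : z ∈ Submodule.span Γ(X, U) (Set.range (KaehlerDifferential.D Γ(Y, V) Γ(X, U))) := by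
    rw [KaehlerDifferential.span_range_derivation]
    trivial
  have hbot : Submodule.span Γ(X, U) (Set.range (KaehlerDifferential.D Γ(Y, V) Γ(X, U))) = ⊥ := by
    rw [Submodule.span_eq_bot]
    rintro _ ⟨a, rfl⟩
    exact hzero a
  exact (Submodule.mem_bot _).mp (hbot ▸ hz)

theorem formallyUnramified_iff_der_eq_zero : FormallyUnramified f ↔
    ∀ (G : X.Modules) (D : Der f G) (U : X.Opens) (a : Γ(X, U)), D.app U a = 0 :=
  ⟨fun _ _ D => der_eq_zero_of_formallyUnramified D, formallyUnramified_of_der_eq_zero⟩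

theorem isZero_iff_formallyUnramified {Ω : X.Modules} {d : Der f Ω} (hd : IsUniversal d) :
    FormallyUnramified f ↔ IsZero Ω := by
  rw [formallyUnramified_iff_der_eq_zero]
  constructor
  · intro h
    obtain ⟨w, -, hw⟩ := hd Ω d
    have h1 : ∀ α : Ω ⟶ Ω, α = w := fun α => hw α (by
      refine PresheafOfModules.Derivation.ext ?_
      ext U a
      show α.app U.unop (d.app U.unop a) = d.app U.unop a
      rw [h Ω d U.unop a, map_zero])
    exact (IsZero.iff_id_eq_zero Ω).mpr ((h1 _).trans (h1 _).symm)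
  · intro h G D U a
    obtain ⟨α, hα, -⟩ := hd G D
    rw [← show α.app U (d.app U a) = D.app U a from congrArg (fun E : Der f G => E.app U a) hα,
      h.eq_of_src α 0]
    rfl

theorem epi_iff_formallyUnramified {S : Scheme.{u}} (g : Y ⟶ S) (h : X ⟶ S) (w : f ≫ g = h)
    {ΩY : Y.Modules} {dY : Der g ΩY} (hY : IsUniversal dY)
    {ΩX : X.Modules} {dX : Der h ΩX} (hX : IsUniversal dX)
    (c : (Scheme.Modules.pullback f).obj ΩY ⟶ ΩX) (hc : IsDiffCompat f dY dX c) :
    FormallyUnramified f ↔ Epi c := by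
  subst w
  let adj := Scheme.Modules.pullbackPushforwardAdjunction f
  have key : ∀ (G : X.Modules) (α : ΩX ⟶ G), c ≫ α = 0 ↔
      ∀ (U : Y.Opens) (a : Γ(Y, U)), α.app (f ⁻¹ᵁ U) (dX.app (f ⁻¹ᵁ U) (f.app U a)) = 0 := by
    intro G α
    constructor
    · intro h0 U a
      rw [← hc U a]
      exact congr($(congrArg (fun β => Scheme.Modules.Hom.app β (f ⁻¹ᵁ U)) h0) (pullSect f ΩY U (dY.app U a)))
    · intro h0
      apply (adj.homEquiv ΩY G).injective
      obtain ⟨v, -, hv⟩ := hY _ (dY.postcomp ((adj.homEquiv ΩY G) 0).val)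
      refine (hv _ ?_).trans (hv _ rfl).symm
      refine PresheafOfModules.Derivation.ext ?_
      ext U a
      refine (homEquiv_app_diffCompat f dY (c ≫ α) U.unop a).trans ?_
      refine Eq.trans ?_ (homEquiv_app_diffCompat f dY (0 : _ ⟶ G) U.unop a).symm
      refine Eq.trans ?_ (show (0 : Γ(G, f ⁻¹ᵁ U.unop)) = _ from rfl)
      refine Eq.trans ?_ (h0 U.unop a)
      rw [← hc U.unop a]
      rfl
  rw [formallyUnramified_iff_der_eq_zero]
  constructor
  · intro hz
    refine Preadditive.epi_of_cancel_zero c fun {G} α hα => ?_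
    let D : Der f G :=
      { d := fun {U} => (α.app U.unop).hom.comp (dX.app U.unop)
        d_mul := fun {U} a b => (dX.postcomp α.val).d_mul a b
        d_map := fun {U V} i a => (dX.postcomp α.val).d_map i a
        d_app := fun {V} a => (key G α).mp hα V.unop a }
    obtain ⟨v, -, hv⟩ := hX G (dX.postcomp α.val)
    refine (hv α rfl).trans (hv 0 ?_).symm
    refine PresheafOfModules.Derivation.ext ?_
    ext U a
    exact (hz G D U.unop a).symm
  · intro hepi G D U a
    let D' : Der (f ≫ g) G :=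
      { d := fun {U} => D.app U.unop
        d_mul := fun {U} a b => D.d_mul a b
        d_map := fun {U V} i a => D.d_map i a
        d_app := fun {V} c => D.d_app (X := op (g ⁻¹ᵁ V.unop)) (g.app V.unop c) }
    obtain ⟨α, hα, -⟩ := hX G D'
    have hval : ∀ (W : X.Opens) (b : Γ(X, W)), α.app W (dX.app W b) = D.app W b :=
      fun W b => congrArg (fun E : Der (f ≫ g) G => E.app W b) hα
    have h0 : c ≫ α = 0 := (key G α).mpr fun W b => (hval _ _).trans (D.d_app (X := op W) b)
    rw [← hval, (cancel_epi c).mp (h0.trans comp_zero.symm)]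
    rfl

end Groth.L19.OmegaSh
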