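import Groth.Agent.L19.OmegaSh.Rebase
import Groth.Prelude.Def_MoreMor

/-!
# Lifting infinitesimal points along formally smooth and formally étale morphisms
-/

set_option autoImplicit false
set_option linter.style.haveILetI false
set_option backward.isDefEq.respectTransparency.types false
set_option backward.isDefEq.respectTransparency false

universe u

open CategoryTheory CategoryTheory.Limits AlgebraicGeometry TopologicalSpace Opposite

noncomputable section

namespace Groth.L19.OmegaSh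

open Groth.L18.Frame (rs ro rs_rs ro_ro rs_smul ro_self rs_self)
open _root_.OmegaSh (Der IsUniversal IsDiffCompat pullSect)

variable {X Q Q' : Scheme.{u}} {G : X.Modules} {U : X.Opens}

theorem ker_prL_sq : RingHom.ker (prL G U).hom ^ 2 = ⊥ := by
  rw [pow_two, eq_bot_iff, Ideal.mul_le]
  intro x hx y hy
  rw [Ideal.mem_bot]
  have hx' : fst' G x = 0 := hx
  have hy' : fst' G y = 0 := hy
  exact ext G (by simp [hx']) (by simp [hx', hy'])

theorem surjective_prL_hom : Function.Surjective (prL G U).hom := fun a => ⟨mk G U a 0, fst_mk G _ _⟩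

theorem exists_specMap_mk : ∃ ε : Spec Γ(X, U) ≅ Spec (CommRingCat.of (L G U ⧸ RingHom.ker (prL G U).hom)),
    ε.hom ≫ Spec.map (CommRingCat.ofHom (Ideal.Quotient.mk _)) = Spec.map (prL G U) := by
  let e := RingHom.quotientKerEquivOfSurjective (f := (prL G U).hom) surjective_prL_hom
  refine ⟨Scheme.Spec.mapIso e.toCommRingCatIso.op, ?_⟩
  show Spec.map _ ≫ _ = _
  rw [← Spec.map_comp]
  rfl

theorem exists_point_lift {f : Q' ⟶ Q} (hf : MoreMor.IsFormallySmoothHom f) (a : Spec Γ(X, U) ⟶ Q')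
    (b : Spec (L G U) ⟶ Q) (w : Spec.map (prL G U) ≫ b = a ≫ f) :
    ∃ l : Spec (L G U) ⟶ Q', Spec.map (prL G U) ≫ l = a ∧ l ≫ f = b := by
  obtain ⟨ε, hε⟩ := exists_specMap_mk (G := G) (U := U)
  obtain ⟨l, h₁, h₂⟩ := hf (L G U) _ ker_prL_sq (ε.inv ≫ a) b
    (by rw [← cancel_epi ε.hom, reassoc_of% hε, Category.assoc, Iso.hom_inv_id_assoc, w])
  exact ⟨l, by rw [← hε, Category.assoc, h₁, Iso.hom_inv_id_assoc], h₂⟩

theorem point_lift_unique {f : Q' ⟶ Q} (hf : MoreMor.IsFormallyEtaleHom f) {l l' : Spec (L G U) ⟶ Q'}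
    (h₁ : Spec.map (prL G U) ≫ l = Spec.map (prL G U) ≫ l') (h₂ : l ≫ f = l' ≫ f) : l = l' := by
  obtain ⟨ε, hε⟩ := exists_specMap_mk (G := G) (U := U)
  obtain ⟨m, -, hm⟩ := hf (L G U) _ ker_prL_sq (ε.inv ≫ Spec.map (prL G U) ≫ l) (l ≫ f)
    (by rw [← cancel_epi ε.hom, reassoc_of% hε]; simp only [Category.assoc, Iso.hom_inv_id_assoc])
  refine (hm l ⟨?_, rfl⟩).trans (hm l' ⟨?_, h₂.symm⟩).symm
  · rw [← cancel_epi ε.hom, Iso.hom_inv_id_assoc, reassoc_of% hε]
  · rw [← cancel_epi ε.hom, Iso.hom_inv_id_assoc, reassoc_of% hε, h₁]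

theorem formallySmoothHom_of_etale {f : Q' ⟶ Q} (hf : MoreMor.IsFormallyEtaleHom f) :
    MoreMor.IsFormallySmoothHom f := fun A _ I hI a b w => (hf A I hI a b w).exists

/-- Derivations pushed forward are recognised on points. -/
theorem pushDerSq_eq_of_points {S S' X' : Scheme.{u}} {f : Q ⟶ S} {f' : X' ⟶ S'} {g : X' ⟶ Q} {b : S' ⟶ S}
    (hsq : f' ≫ b = g ≫ f) {M : X'.Modules} (D : Der f' M)
    (E : Der f ((Scheme.Modules.pushforward g).obj M)) (P : X'.affineOpens → Prop)
    (hP : ∀ (x : X') (O : X'.Opens), x ∈ O → ∃ U, P U ∧ x ∈ U.1 ∧ U.1 ≤ O)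
    (h : ∀ U, P U → ∃ (W : Q.affineOpens) (e : U.1 ≤ g ⁻¹ᵁ W.1), dPt D U ≫ g = ePt E U W e) :
    pushDerSq g b hsq D = E := by
  refine PresheafOfModules.Derivation.ext ?_
  ext Z a
  refine eq_of_basis (G := M) P hP (Z := g ⁻¹ᵁ Z.unop) _ _ fun U p hU => ?_
  obtain ⟨W, e, hD⟩ := h U p
  refine (μ_dPt_comp D U g hU a).symm.trans ?_
  exact (congrArg (snd' M) (congr($(τ_congr M hD Z.unop _ _) a))).trans (μ_ePt E U W e Z.unop hU a)

/-- Along étale morphisms derivations extend uniquely. -/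
theorem bijective_pushDerSq_of_etale {S S' X' : Scheme.{u}} {f : Q ⟶ S} {f' : X' ⟶ S'} {g : X' ⟶ Q} {b : S' ⟶ S}
    (hg : MoreMor.IsFormallyEtaleHom g) (hb : MoreMor.IsFormallyEtaleHom b) (hsq : f' ≫ b = g ≫ f)
    (M : X'.Modules) : Function.Bijective (fun D : Der f' M => pushDerSq g b hsq D) := by
  let P : X'.affineOpens → Prop := fun U => ∃ W : Q.affineOpens, Good f W ∧ U.1 ≤ g ⁻¹ᵁ W.1
  have hP : ∀ (x : X') (O : X'.Opens), x ∈ O → ∃ U, P U ∧ x ∈ U.1 ∧ U.1 ≤ O := by
    intro x O hx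
    obtain ⟨W, hW, hxW, -⟩ := exists_good (f := f) (g x) ⊤ trivial
    obtain ⟨U, -, hxU, hUle⟩ := exists_good (f := f') x (O ⊓ g ⁻¹ᵁ W.1) ⟨hx, hxW⟩
    exact ⟨U, ⟨W, hW, hUle.trans inf_le_right⟩, hxU, hUle.trans inf_le_left⟩
  constructor
  · intro D₁ D₂ h12
    refine der_ext_points D₁ D₂ P hP fun U hU => point_lift_unique hg ((prL_dPt D₁ U).trans (prL_dPt D₂ U).symm) ?_
    obtain ⟨W, -, e⟩ := hU
    have h12' : pushDerSq g b hsq D₁ = pushDerSq g b hsq D₂ := h12
    rw [dPt_comp hsq D₁ U W e, dPt_comp hsq D₂ U W e, h12']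
  · intro E
    have hl : ∀ (U : X'.affineOpens) (p : P U), ∃ l : Spec (L M U.1) ⟶ X',
        Spec.map (prL M U.1) ≫ l = U.2.fromSpec ∧ l ≫ g = ePt E U p.choose p.choose_spec.2 := fun U p =>
      exists_point_lift (formallySmoothHom_of_etale hg) _ _ (prL_ePt E U _ _)
    have hres : ∀ (U U' : X'.affineOpens) (p : P U) (p' : P U') (h : U'.1 ≤ U.1),
        Spec.map (resL M h) ≫ (hl U p).choose = (hl U' p').choose := by
      intro U U' p p' h
      refine point_lift_unique hg ?_ ?_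
      · rw [← Spec.map_comp_assoc, resL_prL, Spec.map_comp_assoc, (hl U p).choose_spec.1,
          IsAffineOpen.map_fromSpec, (hl U' p').choose_spec.1]
      · rw [Category.assoc, (hl U p).choose_spec.2, resL_ePt, (hl U' p').choose_spec.2]
        exact ePt_indep E U' _ _ _ _
    let F : PointFam f' M :=
      { P := P
        exists_P := hP
        r := fun U p => (hl U p).choose
        prL_r := fun U p => (hl U p).choose_spec.1
        resL_r := hres
        r_base := fun U p => point_lift_unique hb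
          (by rw [← Category.assoc, (hl U p).choose_spec.1]
              simp only [Category.assoc, ← Spec.map_comp_assoc, inlL_prL, Spec.map_id, Category.id_comp])
          (by rw [Category.assoc, hsq, ← Category.assoc, (hl U p).choose_spec.2,
                ePt_base E U _ _ p.choose_spec.1, Category.assoc _ f', hsq]) }
    exact ⟨F.der, pushDerSq_eq_of_points hsq F.der E P hP fun U p =>
      ⟨p.choose, p.choose_spec.2, by rw [F.dPt_der U p]; exact (hl U p).choose_spec.2⟩⟩

end Groth.L19.OmegaSh
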