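import Groth.Agent.L19.OmegaSh.ConormalMaps
import Groth.Agent.L19.OmegaSh.Unramified
import Mathlib.CategoryTheory.Abelian.Exact

/-!
# `f^* Ω_{Y/Z} → Ω_{X/Z} → Ω_{X/Y} → 0`
-/

set_option autoImplicit false
set_option linter.style.haveILetI false
set_option backward.isDefEq.respectTransparency.types false
set_option backward.isDefEq.respectTransparency false

universe u

open CategoryTheory CategoryTheory.Limits AlgebraicGeometry TopologicalSpace Opposite

noncomputable section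

namespace Groth.L19.OmegaSh

open Groth.L18.Frame (rs ro rs_rs rs_self)
open _root_.OmegaSh (Der IsUniversal IsDiffCompat pullSect)

variable {X Y Z : Scheme.{u}} {f : X ⟶ Y} {g : Y ⟶ Z}

/-- Remove the pullback along the identity from a compatible map. -/
theorem diffCompat_id_value {Z' : Scheme.{u}} {h : X ⟶ Z'} {f' : X ⟶ Y} {Ω : X.Modules} {d : Der h Ω}
    {Ω' : X.Modules} {d' : Der f' Ω'} {c : (Scheme.Modules.pullback (𝟙 X)).obj Ω ⟶ Ω'}
    (hc : IsDiffCompat (𝟙 X) d d' c) (U : X.Opens) (a : Γ(X, U)) :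
    ((Scheme.Modules.pullbackId X).inv.app Ω ≫ c).app U (d.app U a) = d'.app U a :=
  (congrArg (c.app U) (pullbackId_inv_app Ω U _)).trans (hc U a)

theorem exact_cotangent_seq {ΩY : Y.Modules} {dY : Der g ΩY} (hY : IsUniversal dY)
    {ΩX : X.Modules} {dX : Der (f ≫ g) ΩX} (hX : IsUniversal dX)
    {ΩXY : X.Modules} {dXY : Der f ΩXY} (hXY : IsUniversal dXY)
    (c₁ : (Scheme.Modules.pullback f).obj ΩY ⟶ ΩX) (hc₁ : IsDiffCompat f dY dX c₁)
    (c₂ : (Scheme.Modules.pullback (𝟙 X)).obj ΩX ⟶ ΩXY) (hc₂ : IsDiffCompat (𝟙 X) dX dXY c₂) :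
    ∃ w : c₁ ≫ (Scheme.Modules.pullbackId X).inv.app ΩX ≫ c₂ = 0,
      (ShortComplex.mk c₁ ((Scheme.Modules.pullbackId X).inv.app ΩX ≫ c₂) w).Exact ∧
        Epi ((Scheme.Modules.pullbackId X).inv.app ΩX ≫ c₂) := by
  let b : ΩX ⟶ ΩXY := (Scheme.Modules.pullbackId X).inv.app ΩX ≫ c₂
  let adj := Scheme.Modules.pullbackPushforwardAdjunction f
  have key : ∀ (G : X.Modules) (α : ΩX ⟶ G), c₁ ≫ α = 0 ↔
      ∀ (U : Y.Opens) (a : Γ(Y, U)), α.app (f ⁻¹ᵁ U) (dX.app (f ⁻¹ᵁ U) (f.app U a)) = 0 := by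
    intro G α
    constructor
    · intro h0 U a
      rw [← hc₁ U a]
      exact congr($(congrArg (fun β => Scheme.Modules.Hom.app β (f ⁻¹ᵁ U)) h0) (pullSect f ΩY U (dY.app U a)))
    · intro h0
      apply (adj.homEquiv ΩY G).injective
      obtain ⟨v, -, hv⟩ := hY _ (dY.postcomp ((adj.homEquiv ΩY G) 0).val)
      refine (hv _ ?_).trans (hv _ rfl).symm
      refine PresheafOfModules.Derivation.ext ?_
      ext U a
      refine (homEquiv_app_diffCompat f dY (c₁ ≫ α) U.unop a).trans ?_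
      refine Eq.trans ?_ (homEquiv_app_diffCompat f dY (0 : _ ⟶ G) U.unop a).symm
      refine Eq.trans ?_ (show (0 : Γ(G, f ⁻¹ᵁ U.unop)) = _ from rfl)
      refine Eq.trans ?_ (h0 U.unop a)
      rw [← hc₁ U.unop a]
      rfl
  have bd : ∀ (U : X.Opens) (a : Γ(X, U)), b.app U (dX.app U a) = dXY.app U a := diffCompat_id_value hc₂
  have w : c₁ ≫ b = 0 := (key _ b).mpr fun U a => (bd _ _).trans (dXY.d_app (X := op U) a)
  refine ⟨w, exact_and_epi_of_desc c₁ b w fun G α hα => ?_⟩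
  let D : Der f G :=
    { d := fun {U} => (α.app U.unop).hom.comp (dX.app U.unop)
      d_mul := fun {U} a b => (dX.postcomp α.val).d_mul a b
      d_map := fun {U V} i a => (dX.postcomp α.val).d_map i a
      d_app := fun {V} a => (key G α).mp hα V.unop a }
  obtain ⟨β, hβ, hu⟩ := hXY G D
  obtain ⟨v, -, hv⟩ := hX G (dX.postcomp α.val)
  refine ⟨β, ?_, fun β' hβ' => hu β' ?_⟩
  · refine (hv (b ≫ β) ?_).trans (hv α rfl).symm
    refine PresheafOfModules.Derivation.ext ?_
    ext U a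
    exact (congrArg (β.app U.unop) (bd U.unop a)).trans (congrArg (fun E : Der f G => E.app U.unop a) hβ)
  · refine PresheafOfModules.Derivation.ext ?_
    ext U a
    refine (congrArg (β'.app U.unop) (bd U.unop a)).symm.trans ?_
    exact congr($(congrArg (fun γ => Scheme.Modules.Hom.app γ U.unop) hβ') (dX.app U.unop a))

end Groth.L19.OmegaSh
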