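import Groth.Agent.L19.OmegaSh.ConormalSplit
import Groth.Agent.L19.OmegaSh.DiffCompat
import Groth.Agent.L16.Exist.Reduce
import Groth.Agent.L16.AffineBC.Local
import Groth.Agent.L18.IdealModule
import Groth.Agent.L19.ZClos.Criteria

/-!
# Extending morphisms along square-zero thickenings with injective conormal map

If `i : Z ⟶ C` is a square-zero thickening over `S` whose restricted cotangent sequence is short exact, a
function on `C` is the same as a function `b` on `Z` with a lift `ω` of `d b` to `i^*Ω_C`; hence a morphism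
`f : Z ⟶ Q` extends to `C` as soon as `df` lifts to `i^*Ω_C`.
-/

set_option autoImplicit false
set_option linter.style.haveILetI false
set_option linter.unusedSectionVars false
set_option backward.isDefEq.respectTransparency.types false
set_option backward.isDefEq.respectTransparency false

universe u

open CategoryTheory CategoryTheory.Limits AlgebraicGeometry TopologicalSpace Opposite

noncomputable section

namespace Groth.L19.OmegaSh.ExtendAlong

open Groth.L18.Frame (rs ro rs_rs ro_ro rs_smul ro_self rs_self)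
open _root_.OmegaSh (Der IsUniversal IsDiffCompat IsConormalDiff idealSect pullSect conormalSect)
open Groth.L19.OmegaSh

/-! ### Gluing morphisms from affine opens of the target -/

/-- A morphism from a compatible family of ring maps indexed by the affine opens of the target. -/
theorem exists_hom_of_family {C Q : Scheme.{u}} (U : Q.affineOpens → C.Opens)
    (hcov : ∀ x : C, ∃ V, x ∈ U V) (hmono : ∀ V W : Q.affineOpens, W.1 ≤ V.1 → U W ≤ U V)
    (hinf : ∀ (x : C) (V V' : Q.affineOpens), x ∈ U V → x ∈ U V' →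
      ∃ W : Q.affineOpens, x ∈ U W ∧ W.1 ≤ V.1 ∧ W.1 ≤ V'.1)
    (μ : ∀ V : Q.affineOpens, Γ(Q, V.1) ⟶ Γ(C, U V))
    (hμ : ∀ (V W : Q.affineOpens) (h : W.1 ≤ V.1),
      Q.presheaf.map (homOfLE h).op ≫ μ W = μ V ≫ C.presheaf.map (homOfLE (hmono V W h)).op) :
    ∃ g : C ⟶ Q, ∀ V, (U V).ι ≫ g = (U V).toSpecΓ ≫ Spec.map (μ V) ≫ V.2.fromSpec ∧
      ∀ e : U V ≤ g ⁻¹ᵁ V.1, g.appLE V.1 (U V) e = μ V := by
  let q : ∀ V : Q.affineOpens, (U V : Scheme.{u}) ⟶ Q := fun V =>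
    (U V).toSpecΓ ≫ Spec.map (μ V) ≫ V.2.fromSpec
  have hq : ∀ (V W : Q.affineOpens) (h : W.1 ≤ V.1), C.homOfLE (hmono V W h) ≫ q V = q W := fun V W h => by
    simp only [q]
    rw [← Scheme.Opens.toSpecΓ_SpecMap_presheaf_map_assoc, ← Spec.map_comp_assoc, ← hμ V W h,
      Spec.map_comp_assoc, V.2.map_fromSpec W.2]
  let 𝒰 : C.OpenCover :=
    { I₀ := Q.affineOpens, X := fun V => (U V : Scheme.{u}), f := fun V => (U V).ι
      mem₀ := by
        rw [Scheme.presieve₀_mem_precoverage_iff]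
        refine ⟨fun x => ?_, fun V => inferInstance⟩
        obtain ⟨V, hV⟩ := hcov x
        exact ⟨V, ⟨x, hV⟩, rfl⟩ }
  have hc : ∀ V V' : Q.affineOpens,
      pullback.fst (U V).ι (U V').ι ≫ q V = pullback.snd (U V).ι (U V').ι ≫ q V' := fun V V' => by
    refine Scheme.hom_ext_of_forall _ _ fun p => ?_
    let x := (pullback.fst (U V).ι (U V').ι ≫ (U V).ι) p
    have hx : x ∈ U V := by
      show (pullback.fst (U V).ι (U V').ι ≫ (U V).ι) p ∈ U V
      rw [Scheme.Hom.comp_apply]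
      exact ((pullback.fst (U V).ι (U V').ι) p).2
    have hx' : x ∈ U V' := by
      show (pullback.fst (U V).ι (U V').ι ≫ (U V).ι) p ∈ U V'
      rw [pullback.condition, Scheme.Hom.comp_apply]
      exact ((pullback.snd (U V).ι (U V').ι) p).2
    obtain ⟨W, hxW, hWV, hWV'⟩ := hinf x V V' hx hx'
    let O := (pullback.fst (U V).ι (U V').ι ≫ (U V).ι) ⁻¹ᵁ (U W)
    refine ⟨O, hxW, ?_⟩
    let k := (pullback.fst (U V).ι (U V').ι ≫ (U V).ι).resLE (U W) O le_rfl
    have hk : k ≫ (U W).ι = O.ι ≫ pullback.fst (U V).ι (U V').ι ≫ (U V).ι :=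
      Scheme.Hom.resLE_comp_ι _ _
    have h1 : O.ι ≫ pullback.fst (U V).ι (U V').ι = k ≫ C.homOfLE (hmono V W hWV) := by
      rw [← cancel_mono (U V).ι, Category.assoc, Category.assoc, Scheme.homOfLE_ι, hk]
    have h2 : O.ι ≫ pullback.snd (U V).ι (U V').ι = k ≫ C.homOfLE (hmono V' W hWV') := by
      rw [← cancel_mono (U V').ι, Category.assoc, Category.assoc, Scheme.homOfLE_ι, hk, pullback.condition]
    rw [reassoc_of% h1, hq V W hWV, reassoc_of% h2, hq V' W hWV']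
  refine ⟨𝒰.glueMorphisms q hc, fun V => ⟨𝒰.ι_glueMorphisms q hc V, fun e => ?_⟩⟩
  have h1 : (U V).toSpecΓ ≫ Spec.map ((𝒰.glueMorphisms q hc).appLE V.1 (U V) e) =
      (U V).toSpecΓ ≫ Spec.map (μ V) := by
    rw [← cancel_mono V.2.fromSpec, Category.assoc, Category.assoc, Scheme.Opens.toSpecΓ_SpecMap_appLE_assoc,
      V.2.toSpecΓ_fromSpec, Scheme.Hom.resLE_comp_ι]
    exact 𝒰.ι_glueMorphisms q hc V
  have h2 := congrArg Scheme.Hom.appTop h1
  simp only [Scheme.Hom.comp_appTop, Scheme.Opens.toSpecΓ_appTop, Scheme.ΓSpecIso_naturality_assoc] at h2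
  rw [← cancel_mono (U V).topIso.inv, ← cancel_epi (Scheme.ΓSpecIso Γ(Q, V.1)).hom]
  exact h2

/-! ### Square-zero closed immersions -/

variable {Z C S : Scheme.{u}} (i : Z ⟶ C) [IsClosedImmersion i]

theorem mul_idealSect (hsq : i.ker ^ 2 = ⊥) (U : C.Opens) (s t : Γ(idl i, U)) :
    idealSect i.ker U s * idealSect i.ker U t = 0 := by
  let P : TopCat.Sheaf CommRingCat C.toTopCat := C.sheaf
  refine P.eq_of_locally_eq' (fun V : {V : C.affineOpens // V.1 ≤ U} => V.1.1)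
    U (fun V => homOfLE V.2) (fun x hx => ?_) _ _ fun V => ?_
  · obtain ⟨V, hV, hxV, hVW⟩ := exists_isAffineOpen_mem_and_subset hx
    exact Opens.mem_iSup.mpr ⟨⟨⟨V, hV⟩, hVW⟩, hxV⟩
  · show ro V.2 (idealSect i.ker U s * idealSect i.ker U t) = ro V.2 0
    have hm : ∀ m : Γ(idl i, U), ro V.2 (idealSect i.ker U m) ∈ i.ker.ideal V.1 := fun m => by
      rw [Scheme.Hom.ker_apply, RingHom.mem_ker]
      exact (app_ro V.2 _).trans ((congrArg _ (app_idealSect i U m)).trans (map_zero _))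
    have h0 := Ideal.mul_mem_mul (hm s) (hm t)
    rw [← pow_two, ← Pi.pow_apply, ← Scheme.IdealSheafData.ideal_pow, hsq,
      Scheme.IdealSheafData.ideal_bot, Pi.bot_apply, Ideal.mem_bot] at h0
    rw [Groth.L18.Frame.ro_mul, h0]
    exact (map_zero (C.presheaf.map (homOfLE V.2).op).hom).symm

/-- A square-zero ideal is its own conormal sheaf. -/
theorem bijective_conormalSect (hsq : i.ker ^ 2 = ⊥) (U : C.Opens) :
    Function.Bijective (conormalSect i U) := by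
  let η := (Scheme.Modules.pullbackPushforwardAdjunction i).unit.app (idl i)
  haveI : Epi η := ⟨fun u v huv => Groth.L16.AffineBC.hom_ext_affine _ _ fun V hV m => by
    obtain ⟨y, rfl⟩ := (Groth.L16.Exist.ηU_spec i (idl i) ⟨V, hV⟩).1 m
    exact ConcreteCategory.congr_hom (congrArg (fun t => Scheme.Modules.Hom.app t V) huv) y⟩
  haveI : Mono η := Preadditive.mono_of_kernel_zero (Groth.L16.AffineBC.hom_ext_affine _ _ fun V hV z => by
    show (kernel.ι η).app V z = 0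
    have hz : η.app V ((kernel.ι η).app V z) = 0 :=
      ConcreteCategory.congr_hom (congrArg (fun t => Scheme.Modules.Hom.app t V) (kernel.condition η)) z
    refine Submodule.smul_induction_on ((Groth.L16.Exist.ηU_spec i (idl i) ⟨V, hV⟩).2 _ hz) ?_ ?_
    · intro b hb (x : Γ(idl i, V)) _
      rw [Scheme.Hom.ker_apply, RingHom.mem_ker] at hb
      obtain ⟨t, rfl⟩ := exists_idealSect i V b hb
      apply idealSect_injective i V
      rw [idealSect_smul, map_zero, mul_idealSect i hsq]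
    · intro x y hx hy
      rw [hx, hy, add_zero])
  haveI : IsIso η := isIso_of_mono_of_epi η
  haveI : IsIso (η.app U) := Scheme.Modules.Hom.isIso_iff_isIso_app.1 inferInstance U
  exact ConcreteCategory.bijective_of_isIso (η.app U)

theorem surjective_of_sq (hsq : i.ker ^ 2 = ⊥) : Function.Surjective i := by
  intro x
  have h : x ∈ (i.ker.support : Set C) := by
    rw [← Scheme.IdealSheafData.support_pow i.ker 2 two_ne_zero, hsq, Scheme.IdealSheafData.support_bot]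
    trivial
  rw [Scheme.Hom.support_ker, i.isClosedEmbedding.isClosed_range.closure_eq] at h
  exact h

variable {pC : C ⟶ S} {Ω₁ : C.Modules} (d₁ : Der pC Ω₁) {Ω₂ : Z.Modules} (d₂ : Der (i ≫ pC) Ω₂)
  {φ : Omega.conormal i ⟶ (Scheme.Modules.pullback i).obj Ω₁} (hφ : IsConormalDiff i d₁ φ)
  {c : (Scheme.Modules.pullback i).obj Ω₁ ⟶ Ω₂} (hc : IsDiffCompat i d₁ d₂ c)

/-- `i^*` of the differential of a function. -/
def dPull (U : C.Opens) (a : Γ(C, U)) : Γ((Scheme.Modules.pullback i).obj Ω₁, i ⁻¹ᵁ U) :=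
  pullSect i Ω₁ U (d₁.app U a)

theorem dPull_add (U : C.Opens) (a b : Γ(C, U)) : dPull i d₁ U (a + b) = dPull i d₁ U a + dPull i d₁ U b := by
  unfold dPull
  rw [map_add]
  exact map_add (pullSect i Ω₁ U).hom _ _

theorem dPull_sub (U : C.Opens) (a b : Γ(C, U)) : dPull i d₁ U (a - b) = dPull i d₁ U a - dPull i d₁ U b := by
  unfold dPull
  rw [map_sub]
  exact map_sub (pullSect i Ω₁ U).hom _ _

theorem dPull_zero (U : C.Opens) : dPull i d₁ U 0 = 0 := by
  unfold dPull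
  rw [map_zero]
  exact map_zero (pullSect i Ω₁ U).hom

theorem dPull_mul (U : C.Opens) (a b : Γ(C, U)) :
    dPull i d₁ U (a * b) = i.app U a • dPull i d₁ U b + i.app U b • dPull i d₁ U a := by
  unfold dPull
  rw [der_mul, map_add, _root_.OmegaSh.pullSect_smul, _root_.OmegaSh.pullSect_smul]

theorem dPull_ro {U U' : C.Opens} (h : U' ≤ U) (a : Γ(C, U)) :
    dPull i d₁ U' (ro h a) = rs _ (i.preimage_mono h) (dPull i d₁ U a) := by
  unfold dPull
  rw [der_map]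
  exact _root_.OmegaSh.pullSect_map i Ω₁ h _

include hφ in
theorem eq_zero_of_app_dPull [Mono φ] (hsq : i.ker ^ 2 = ⊥) {U : C.Opens} {a : Γ(C, U)}
    (h1 : i.app U a = 0) (h2 : dPull i d₁ U a = 0) : a = 0 := by
  obtain ⟨s, rfl⟩ := exists_idealSect i U a h1
  have h3 : φ.app (i ⁻¹ᵁ U) (conormalSect i U s) = φ.app (i ⁻¹ᵁ U) 0 := by
    rw [hφ U s, map_zero]
    exact h2
  have h4 := Groth.L19.ZClos.app_injective_of_mono φ _ h3
  have h5 : s = 0 := (bijective_conormalSect i hsq U).1 (h4.trans (map_zero _).symm)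
  rw [h5, map_zero]

include hφ in
theorem eq_of_app_dPull [Mono φ] (hsq : i.ker ^ 2 = ⊥) {U : C.Opens} {a a' : Γ(C, U)}
    (h1 : i.app U a = i.app U a') (h2 : dPull i d₁ U a = dPull i d₁ U a') : a = a' :=
  sub_eq_zero.1 (eq_zero_of_app_dPull i d₁ hφ hsq (by rw [map_sub, h1, sub_self])
    (by rw [dPull_sub, h2, sub_self]))

theorem exists_preimage_of_app_eq_zero {M N P : Z.Modules} {f : M ⟶ N} {g : N ⟶ P} {w : f ≫ g = 0}
    (hS : (ShortComplex.mk f g w).ShortExact) (W : Z.Opens) (ω : Γ(N, W)) (hω : g.app W ω = 0) :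
    ∃ n : Γ(M, W), f.app W n = ω := by
  let E := SheafOfModules.evaluation.{u} Z.ringCatSheaf (op W)
  haveI : E.Additive := Functor.additive_of_preserves_binary_products E
  haveI := hS.mono_f
  let T := (ShortComplex.mk f g w).map E
  have hk : IsLimit (KernelFork.ofι T.f T.zero) := isLimitForkMapOfIsLimit' E w hS.exact.fIsKernel
  exact (ShortComplex.moduleCat_exact_iff T).1 (ShortComplex.exact_of_f_is_kernel T hk) ω hω

include hφ hc in
theorem existsUnique_lift {w : φ ≫ c = 0} (hS : (ShortComplex.mk φ c w).ShortExact) (hsq : i.ker ^ 2 = ⊥)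
    (U : C.Opens) (b : Γ(Z, i ⁻¹ᵁ U)) (ω : Γ((Scheme.Modules.pullback i).obj Ω₁, i ⁻¹ᵁ U))
    (hω : c.app (i ⁻¹ᵁ U) ω = d₂.app (i ⁻¹ᵁ U) b) :
    ∃! a : Γ(C, U), i.app U a = b ∧ dPull i d₁ U a = ω := by
  haveI := hS.mono_f
  have huniq : ∀ {U' : C.Opens} {a a' : Γ(C, U')}, i.app U' a = i.app U' a' →
      dPull i d₁ U' a = dPull i d₁ U' a' → a = a' := eq_of_app_dPull i d₁ hφ hsq
  have haff : ∀ V : {V : C.affineOpens // V.1 ≤ U}, ∃ a : Γ(C, V.1.1),
      i.app V.1.1 a = ro (i.preimage_mono V.2) b ∧ dPull i d₁ V.1.1 a = rs _ (i.preimage_mono V.2) ω := by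
    rintro ⟨⟨V, hV⟩, hVU⟩
    obtain ⟨a₀, ha₀⟩ := i.app_surjective V hV (ro (i.preimage_mono hVU) b)
    have hz : c.app (i ⁻¹ᵁ V) (rs _ (i.preimage_mono hVU) ω - dPull i d₁ V a₀) = 0 := by
      rw [map_sub, sub_eq_zero]
      refine (hom_rs c (i.preimage_mono hVU) ω).trans ?_
      rw [hω]
      refine Eq.trans ?_ (hc V a₀).symm
      rw [ha₀, der_map]
    obtain ⟨n, hn⟩ := exists_preimage_of_app_eq_zero hS _ _ hz
    obtain ⟨t, ht⟩ := (bijective_conormalSect i hsq V).2 n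
    refine ⟨a₀ + idealSect i.ker V t, by rw [map_add, ha₀, app_idealSect, add_zero], ?_⟩
    rw [dPull_add, show dPull i d₁ V (idealSect i.ker V t) = φ.app (i ⁻¹ᵁ V) (conormalSect i V t) from
      (hφ V t).symm, ht, hn, add_sub_cancel]
  choose a ha using haff
  let P : TopCat.Sheaf CommRingCat C.toTopCat := C.sheaf
  have hcomp : TopCat.Presheaf.IsCompatible P.obj (fun V : {V : C.affineOpens // V.1 ≤ U} => V.1.1) a := by
    intro V V'
    refine huniq ?_ ?_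
    · show i.app _ (ro inf_le_left (a V)) = i.app _ (ro inf_le_right (a V'))
      rw [app_ro, app_ro, (ha V).1, (ha V').1, ro_ro, ro_ro]
    · show dPull i d₁ _ (ro inf_le_left (a V)) = dPull i d₁ _ (ro inf_le_right (a V'))
      rw [dPull_ro, dPull_ro, (ha V).2, (ha V').2, rs_rs, rs_rs]
  have hcov : U ≤ iSup (fun V : {V : C.affineOpens // V.1 ≤ U} => V.1.1) := fun x hx => by
    obtain ⟨V, hV, hxV, hVU⟩ := exists_isAffineOpen_mem_and_subset hx
    exact Opens.mem_iSup.mpr ⟨⟨⟨V, hV⟩, hVU⟩, hxV⟩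
  obtain ⟨A, hA, -⟩ := P.existsUnique_gluing' _ U (fun V => homOfLE V.2) hcov a hcomp
  have hcovZ : i ⁻¹ᵁ U ≤ iSup (fun V : {V : C.affineOpens // V.1 ≤ U} => i ⁻¹ᵁ V.1.1) := fun z hz => by
    obtain ⟨V, hV, hxV, hVU⟩ := exists_isAffineOpen_mem_and_subset (show i z ∈ U from hz)
    exact Opens.mem_iSup.mpr ⟨⟨⟨V, hV⟩, hVU⟩, hxV⟩
  have h1 : i.app U A = b := by
    refine Z.sheaf.eq_of_locally_eq' (fun V : {V : C.affineOpens // V.1 ≤ U} => i ⁻¹ᵁ V.1.1) _
      (fun V => homOfLE (i.preimage_mono V.2)) hcovZ _ _ fun V => ?_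
    show ro (i.preimage_mono V.2) (i.app U A) = ro (i.preimage_mono V.2) b
    rw [← app_ro V.2, show ro V.2 A = a V from hA V, (ha V).1]
  have h2 : dPull i d₁ U A = ω := by
    let G : TopCat.Sheaf Ab Z.toTopCat :=
      ⟨((Scheme.Modules.pullback i).obj Ω₁).presheaf, ((Scheme.Modules.pullback i).obj Ω₁).isSheaf⟩
    refine G.eq_of_locally_eq' (fun V : {V : C.affineOpens // V.1 ≤ U} => i ⁻¹ᵁ V.1.1) _
      (fun V => homOfLE (i.preimage_mono V.2)) hcovZ _ _ fun V => ?_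
    show rs _ (i.preimage_mono V.2) (dPull i d₁ U A) = rs _ (i.preimage_mono V.2) ω
    rw [← dPull_ro i d₁ V.2, show ro V.2 A = a V from hA V, (ha V).2]
  exact ⟨A, ⟨h1, h2⟩, fun A' hA' => huniq (hA'.1.trans h1.symm) (hA'.2.trans h2.symm)⟩

theorem preimage_le_of_comp {Q : Scheme.{u}} {g : C ⟶ Q} {f : Z ⟶ Q} (hgi : i ≫ g = f) (U : Q.Opens) :
    i ⁻¹ᵁ (g ⁻¹ᵁ U) ≤ f ⁻¹ᵁ U := by
  subst hgi
  exact le_rfl

/-- `s` is the lift of `df` defined by the extension `g`. -/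
def IsExtLift {Q : Scheme.{u}} {pQ : Q ⟶ S} {Ω₃ : Q.Modules} (d₃ : Der pQ Ω₃) {f : Z ⟶ Q} (g : C ⟶ Q)
    (hgi : i ≫ g = f) (s : (Scheme.Modules.pullback f).obj Ω₃ ⟶ (Scheme.Modules.pullback i).obj Ω₁) : Prop :=
  ∀ (U : Q.Opens) (a : Γ(Q, U)),
    rs _ (preimage_le_of_comp i hgi U) (s.app (f ⁻¹ᵁ U) (pullSect f Ω₃ U (d₃.app U a))) =
      dPull i d₁ (g ⁻¹ᵁ U) (g.app U a)

variable {Q : Scheme.{u}} {pQ : Q ⟶ S} {f : Z ⟶ Q} (hf : f ≫ pQ = i ≫ pC) {Ω₃ : Q.Modules} {d₃ : Der pQ Ω₃}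
  (df : (Scheme.Modules.pullback f).obj Ω₃ ⟶ Ω₂) (hdf : IsDiffCompat f d₃ d₂ df)

include hφ hc hf hdf in
/-- A lift of `df` gives an extension of `f`. -/
theorem exists_extension {w : φ ≫ c = 0} (hS : (ShortComplex.mk φ c w).ShortExact) (hsq : i.ker ^ 2 = ⊥)
    (s : (Scheme.Modules.pullback f).obj Ω₃ ⟶ (Scheme.Modules.pullback i).obj Ω₁) (hs : s ≫ c = df) :
    ∃ (g : C ⟶ Q) (hgi : i ≫ g = f), g ≫ pQ = pC ∧ IsExtLift i d₁ d₃ g hgi s := by
  haveI := hS.mono_f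
  have hsurj := surjective_of_sq i hsq
  have huniq : ∀ {U' : C.Opens} {a a' : Γ(C, U')}, i.app U' a = i.app U' a' →
      dPull i d₁ U' a = dPull i d₁ U' a' → a = a' := eq_of_app_dPull i d₁ hφ hsq
  have hopen : ∀ W : Q.Opens, IsOpen (i.base '' (f ⁻¹ᵁ W : Set Z)) := fun W => by
    rw [← isClosed_compl_iff, ← Set.image_compl_eq ⟨i.isClosedEmbedding.injective, hsurj⟩]
    exact i.isClosedEmbedding.isClosedMap _ (f ⁻¹ᵁ W).2.isClosed_compl
  let U : Q.affineOpens → C.Opens := fun V => ⟨_, hopen V.1⟩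
  have hU : ∀ V, i ⁻¹ᵁ U V = f ⁻¹ᵁ V.1 := fun V => by
    ext z
    exact ⟨fun ⟨z', hz', e⟩ => (i.isClosedEmbedding.injective e) ▸ hz', fun hz => ⟨z, hz, rfl⟩⟩
  have hmono : ∀ V W : Q.affineOpens, W.1 ≤ V.1 → U W ≤ U V := fun V W h =>
    Set.image_mono (f.preimage_mono h)
  have hcov : ∀ x : C, ∃ V, x ∈ U V := fun x => by
    obtain ⟨z, rfl⟩ := hsurj x
    obtain ⟨V, hV, hzV, -⟩ := exists_isAffineOpen_mem_and_subset (x := f z) (U := ⊤) trivial
    exact ⟨⟨V, hV⟩, z, hzV, rfl⟩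
  have hinf : ∀ (x : C) (V V' : Q.affineOpens), x ∈ U V → x ∈ U V' →
      ∃ W : Q.affineOpens, x ∈ U W ∧ W.1 ≤ V.1 ∧ W.1 ≤ V'.1 := by
    rintro x V V' ⟨z, hz, rfl⟩ ⟨z', hz', e⟩
    obtain rfl := i.isClosedEmbedding.injective e
    obtain ⟨W, hW, hzW, hWV⟩ := exists_isAffineOpen_mem_and_subset (x := f z') (U := V.1 ⊓ V'.1) ⟨hz, hz'⟩
    exact ⟨⟨W, hW⟩, ⟨z', hzW, rfl⟩, fun y hy => (hWV hy).1, fun y hy => (hWV hy).2⟩
  -- values
  let bv : ∀ V : Q.affineOpens, Γ(Q, V.1) → Γ(Z, i ⁻¹ᵁ U V) := fun V a => f.appLE V.1 _ (hU V).le a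
  let wv : ∀ V : Q.affineOpens, Γ(Q, V.1) → Γ((Scheme.Modules.pullback i).obj Ω₁, i ⁻¹ᵁ U V) := fun V a =>
    rs _ (hU V).le (s.app (f ⁻¹ᵁ V.1) (pullSect f Ω₃ V.1 (d₃.app V.1 a)))
  have hbw : ∀ V a, c.app (i ⁻¹ᵁ U V) (wv V a) = d₂.app (i ⁻¹ᵁ U V) (bv V a) := fun V a => by
    refine (hom_rs c (hU V).le _).trans ?_
    have h := hdf V.1 a
    rw [← hs] at h
    refine (congrArg (rs Ω₂ (hU V).le) h).trans ?_
    rw [← der_map]
    rfl
  choose m hm hmu using fun V a => existsUnique_lift i d₁ d₂ hφ hc hS hsq (U V) (bv V a) (wv V a) (hbw V a)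
  have hm' : ∀ {V : Q.affineOpens} {a : Γ(Q, V.1)} {x : Γ(C, U V)}, i.app (U V) x = bv V a →
      dPull i d₁ (U V) x = wv V a → m V a = x := fun h1 h2 => (hmu _ _ _ ⟨h1, h2⟩).symm
  have hw_mul : ∀ V a b, wv V (a * b) = bv V a • wv V b + bv V b • wv V a := fun V a b => by
    simp only [wv]
    rw [der_mul, map_add, _root_.OmegaSh.pullSect_smul, _root_.OmegaSh.pullSect_smul, map_add,
      Scheme.Modules.Hom.app_smul, Scheme.Modules.Hom.app_smul]
    refine (map_add _ _ _).trans ?_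
    exact congrArg₂ (· + ·) ((rs_smul _ _ _ _).trans rfl) ((rs_smul _ _ _ _).trans rfl)
  let μ : ∀ V : Q.affineOpens, Γ(Q, V.1) ⟶ Γ(C, U V) := fun V => CommRingCat.ofHom
    { toFun := m V
      map_one' := hm' (by simp [bv]) (by
        have h1 : dPull i d₁ (U V) 1 = 0 := by
          have h := dPull_mul i d₁ (U V) 1 1
          rw [one_mul, map_one, one_smul] at h
          exact left_eq_add.mp h
        have h2 : wv V 1 = 0 := by
          have h := hw_mul V 1 1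
          rw [one_mul, show bv V 1 = 1 from map_one _, one_smul] at h
          exact left_eq_add.mp h
        rw [h1, h2])
      map_mul' := fun a b => hm' (by rw [map_mul, (hm V a).1, (hm V b).1]; exact (map_mul _ _ _).symm)
        (by rw [dPull_mul, (hm V a).1, (hm V a).2, (hm V b).1, (hm V b).2, hw_mul])
      map_zero' := hm' (by simp [bv]) (by
        rw [dPull_zero]
        simp only [wv, map_zero])
      map_add' := fun a b => hm' (by rw [map_add, (hm V a).1, (hm V b).1]; exact (map_add _ _ _).symm)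
        (by rw [dPull_add, (hm V a).2, (hm V b).2]; simp only [wv, map_add]) }
  have hμ : ∀ (V W : Q.affineOpens) (h : W.1 ≤ V.1),
      Q.presheaf.map (homOfLE h).op ≫ μ W = μ V ≫ C.presheaf.map (homOfLE (hmono V W h)).op := fun V W h => by
    ext a
    refine hm' ?_ ?_
    · show i.app _ (ro (hmono V W h) (m V a)) = _
      rw [app_ro, (hm V a).1]
      have e : Q.presheaf.map (homOfLE h).op ≫ f.appLE W.1 (i ⁻¹ᵁ U W) (hU W).le =
          f.appLE V.1 (i ⁻¹ᵁ U V) (hU V).le ≫ Z.presheaf.map (homOfLE (i.preimage_mono (hmono V W h))).op := by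
        rw [Scheme.Hom.map_appLE, Scheme.Hom.appLE_map]
      exact (congr($e a)).symm
    · show dPull i d₁ _ (ro (hmono V W h) (m V a)) = _
      rw [dPull_ro, (hm V a).2]
      show rs _ _ (wv V a) = wv W (ro h a)
      simp only [wv]
      rw [der_map, _root_.OmegaSh.pullSect_map, hom_rs s (f.preimage_mono h), rs_rs, rs_rs]
  obtain ⟨g, hg⟩ := exists_hom_of_family U hcov hmono hinf μ hμ
  have hgi : i ≫ g = f := by
    refine Scheme.hom_ext_of_forall _ _ fun z => ?_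
    obtain ⟨V, hV, hzV, -⟩ := exists_isAffineOpen_mem_and_subset (x := f z) (U := ⊤) trivial
    let V' : Q.affineOpens := ⟨V, hV⟩
    refine ⟨i ⁻¹ᵁ U V', (hU V').ge hzV, ?_⟩
    have e : μ V' ≫ i.app (U V') = f.appLE V (i ⁻¹ᵁ U V') (hU V').le := by
      ext a
      exact (hm V' a).1
    rw [← morphismRestrict_ι_assoc, (hg V').1, ← Category.assoc (i ∣_ U V'), ← Scheme.Opens.toSpecΓ_naturality,
      Category.assoc, ← Spec.map_comp_assoc, e, Scheme.Opens.toSpecΓ_SpecMap_appLE_assoc,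
      hV.toSpecΓ_fromSpec, Scheme.Hom.resLE_comp_ι]
  refine ⟨g, hgi, ?_, fun W a => ?_⟩
  · refine Scheme.hom_ext_of_forall _ _ fun x => ?_
    obtain ⟨T, hT, hxT, -⟩ := exists_isAffineOpen_mem_and_subset (x := pC x) (U := ⊤) trivial
    obtain ⟨z, rfl⟩ := hsurj x
    have hzT : f z ∈ pQ ⁻¹ᵁ T := by
      show (f ≫ pQ) z ∈ T
      rw [hf]
      exact hxT
    obtain ⟨V, hV, hzV, hVT⟩ := exists_isAffineOpen_mem_and_subset hzT
    let V' : Q.affineOpens := ⟨V, hV⟩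
    have hUT : U V' ≤ pC ⁻¹ᵁ T := by
      rintro _ ⟨z', hz', rfl⟩
      show (i ≫ pC) z' ∈ T
      rw [← hf]
      exact hVT hz'
    refine ⟨U V', ⟨z, hzV, rfl⟩, ?_⟩
    have e : pQ.appLE T V hVT ≫ μ V' = pC.appLE T (U V') hUT := by
      ext t
      refine hm' ?_ ?_
      · show (pC.appLE T (U V') hUT ≫ i.app (U V')) t = (pQ.appLE T V hVT ≫ f.appLE V (i ⁻¹ᵁ U V') (hU V').le) t
        rw [Scheme.Hom.appLE_comp_appLE, Scheme.Hom.app_eq_appLE i, Scheme.Hom.appLE_comp_appLE,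
          _root_.OmegaSh.appLE_congr_hom hf]
      · show dPull i d₁ (U V') (pC.appLE T (U V') hUT t) = wv V' (pQ.appLE T V'.1 hVT t)
        simp only [wv, dPull]
        rw [der_appLE d₁, der_appLE d₃, map_zero, map_zero, map_zero]
        exact (map_zero _).symm
    rw [← Category.assoc, (hg V').1, Category.assoc, Category.assoc, ← IsAffineOpen.SpecMap_appLE_fromSpec pQ hT hV hVT,
      ← Spec.map_comp_assoc, e, Scheme.Opens.toSpecΓ_SpecMap_appLE_assoc, hT.toSpecΓ_fromSpec,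
      Scheme.Hom.resLE_comp_ι]
  · let G : TopCat.Sheaf Ab Z.toTopCat :=
      ⟨((Scheme.Modules.pullback i).obj Ω₁).presheaf, ((Scheme.Modules.pullback i).obj Ω₁).isSheaf⟩
    refine G.eq_of_locally_eq' (fun V : {V : Q.affineOpens // V.1 ≤ W} => i ⁻¹ᵁ U V.1) _
      (fun V => homOfLE (i.preimage_mono (show U V.1 ≤ g ⁻¹ᵁ W from fun x ⟨z, hz, e⟩ => by
        subst e
        show (i ≫ g) z ∈ W
        rw [hgi]
        exact V.2 hz))) (fun z hz => ?_) _ _ fun V => ?_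
    · have hfz : f z ∈ W := by rw [← hgi]; exact hz
      obtain ⟨V, hV, hzV, hVW⟩ := exists_isAffineOpen_mem_and_subset hfz
      exact Opens.mem_iSup.mpr ⟨⟨⟨V, hV⟩, hVW⟩, (hU ⟨V, hV⟩).ge hzV⟩
    · have hVg : U V.1 ≤ g ⁻¹ᵁ W := fun x ⟨z, hz, e⟩ => by
        subst e
        show (i ≫ g) z ∈ W
        rw [hgi]
        exact V.2 hz
      show rs _ (i.preimage_mono hVg) (rs _ _ (s.app (f ⁻¹ᵁ W) (pullSect f Ω₃ W (d₃.app W a)))) =
        rs _ (i.preimage_mono hVg) (dPull i d₁ (g ⁻¹ᵁ W) (g.app W a))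
      have hVV : U V.1 ≤ g ⁻¹ᵁ V.1.1 := fun x ⟨z, hz, e⟩ => by
        subst e
        show (i ≫ g) z ∈ V.1.1
        rw [hgi]
        exact hz
      have e1 : ro hVg (g.app W a) = μ V.1 (ro V.2 a) := by
        have e : g.app W ≫ C.presheaf.map (homOfLE hVg).op = Q.presheaf.map (homOfLE V.2).op ≫ μ V.1 := by
          rw [← (hg V.1).2 hVV, Scheme.Hom.map_appLE, Scheme.Hom.app_eq_appLE, Scheme.Hom.appLE_map]
        exact congr($e a)
      rw [← dPull_ro i d₁ hVg, e1, rs_rs]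
      refine Eq.trans ?_ (hm V.1 (ro V.2 a)).2.symm
      simp only [wv]
      rw [der_map, _root_.OmegaSh.pullSect_map, hom_rs s (f.preimage_mono V.2), rs_rs]

variable {g : C ⟶ Q} (hg : g ≫ pQ = pC)

/-- `a ↦ i^* d₁ (g♯ a)`. -/
def extDer : Der pQ ((Scheme.Modules.pushforward (i ≫ g)).obj ((Scheme.Modules.pullback i).obj Ω₁)) where
  d {V} := AddMonoidHom.mk' (fun a => dPull i d₁ (g ⁻¹ᵁ V.unop) (g.app V.unop a)) fun (a b : Γ(Q, V.unop)) => by
    show dPull i d₁ _ (g.app V.unop (a + b)) = dPull i d₁ _ (g.app V.unop a) + dPull i d₁ _ (g.app V.unop b)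
    rw [map_add, dPull_add]
  d_mul {V} (a b : Γ(Q, V.unop)) := by
    show dPull i d₁ (g ⁻¹ᵁ V.unop) (g.app V.unop (a * b)) =
      i.app (g ⁻¹ᵁ V.unop) (g.app V.unop a) • dPull i d₁ (g ⁻¹ᵁ V.unop) (g.app V.unop b) +
      i.app (g ⁻¹ᵁ V.unop) (g.app V.unop b) • dPull i d₁ (g ⁻¹ᵁ V.unop) (g.app V.unop a)
    rw [map_mul, dPull_mul]
  d_map {V V'} h a := by
    show dPull i d₁ (g ⁻¹ᵁ V'.unop) (g.app V'.unop (ro h.unop.le a)) =
      rs _ (i.preimage_mono (g.preimage_mono h.unop.le)) (dPull i d₁ (g ⁻¹ᵁ V.unop) (g.app V.unop a))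
    rw [app_ro (i := g), dPull_ro]
  d_app {T} t := by
    show dPull i d₁ _ (g.app (pQ ⁻¹ᵁ T.unop) (pQ.app T.unop t)) = 0
    unfold dPull
    have e : g ⁻¹ᵁ (pQ ⁻¹ᵁ T.unop) ≤ pC ⁻¹ᵁ T.unop := by rw [← Scheme.Hom.comp_preimage, hg]
    have h1 : g.app (pQ ⁻¹ᵁ T.unop) (pQ.app T.unop t) = pC.appLE T.unop _ e t := by
      rw [← CommRingCat.comp_apply, ← Scheme.Hom.comp_app, Scheme.Hom.app_eq_appLE,
        _root_.OmegaSh.appLE_congr_hom hg]
      rfl
    rw [h1, der_appLE]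
    exact map_zero _

include hc hg in
/-- An extension of `f` gives a lift of `df`. -/
theorem exists_lift_of_extension (hd₃ : IsUniversal d₃) (hgi : i ≫ g = f)
    (hdf : IsDiffCompat f d₃ d₂ df) :
    ∃ s : (Scheme.Modules.pullback f).obj Ω₃ ⟶ (Scheme.Modules.pullback i).obj Ω₁,
      s ≫ c = df ∧ IsExtLift i d₁ d₃ g hgi s := by
  subst hgi
  let adj := Scheme.Modules.pullbackPushforwardAdjunction (i ≫ g)
  obtain ⟨α, hα, -⟩ := hd₃ _ (extDer i d₁ hg)
  have h1 : ∀ (U : Q.Opens) (a : Γ(Q, U)),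
      ((adj.homEquiv _ _).symm α).app ((i ≫ g) ⁻¹ᵁ U) (pullSect (i ≫ g) Ω₃ U (d₃.app U a)) =
        dPull i d₁ (g ⁻¹ᵁ U) (g.app U a) := fun U a => by
    refine (homEquiv_app_diffCompat (i ≫ g) d₃ _ U a).symm.trans ?_
    rw [Equiv.apply_symm_apply]
    exact congrArg (fun E : Der pQ _ => E.app U a) hα
  refine ⟨(adj.homEquiv _ _).symm α, ?_, fun U a => (rs_self _ _ _).trans (h1 U a)⟩
  obtain ⟨u, -, huniq⟩ := existsUnique_diffCompat (i ≫ g) (𝟙 S)
    (by rw [Category.comp_id, Category.assoc, hg]) hd₃ d₂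
  refine (huniq _ ?_).trans (huniq _ hdf).symm
  intro U a
  refine (congrArg (c.app ((i ≫ g) ⁻¹ᵁ U)) (h1 U a)).trans ?_
  exact (hc (g ⁻¹ᵁ U) (g.app U a)).trans rfl

end Groth.L19.OmegaSh.ExtendAlong
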