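import Groth.Agent.L19.OmegaSh.ExtendAlong
import Groth.Agent.L19.OmegaSh.ConormalMaps
import Mathlib.Algebra.Homology.DerivedCategory.Ext.ExactSequences

/-!
# Morphisms of square-zero thickenings of a fixed scheme and extension classes
-/

set_option autoImplicit false
set_option linter.style.haveILetI false
set_option backward.isDefEq.respectTransparency.types false
set_option backward.isDefEq.respectTransparency false

universe w u

open CategoryTheory CategoryTheory.Limits AlgebraicGeometry TopologicalSpace Opposite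

noncomputable section

namespace Groth.L19.OmegaSh.ExtendAlong

open Groth.L18.Frame (rs ro rs_rs ro_ro rs_smul ro_self rs_self)
open _root_.OmegaSh (Der IsUniversal IsDiffCompat IsConormalDiff IsConormalMap idealSect pullSect conormalSect)
open Groth.L19.OmegaSh

variable {D C C' S : Scheme.{u}} {i : D ⟶ C} {i' : D ⟶ C'} [IsClosedImmersion i] [IsClosedImmersion i']
  {pC : C ⟶ S} {pC' : C' ⟶ S} {Ω₁ : C.Modules} {d₁ : Der pC Ω₁} {Ω₁' : C'.Modules} {d₁' : Der pC' Ω₁'}
  {φ : Omega.conormal i ⟶ (Scheme.Modules.pullback i).obj Ω₁}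
  {φ' : Omega.conormal i' ⟶ (Scheme.Modules.pullback i').obj Ω₁'}
  (hφ : IsConormalDiff i d₁ φ) (hφ' : IsConormalDiff i' d₁' φ')
  {g : C ⟶ C'} (hgi : i ≫ g = i')
  {s : (Scheme.Modules.pullback i').obj Ω₁' ⟶ (Scheme.Modules.pullback i).obj Ω₁}
  (hs : IsExtLift i d₁ d₁' g hgi s)
  {α : (Scheme.Modules.pullback (𝟙 D)).obj (Omega.conormal i') ⟶ Omega.conormal i}
  (hα : IsConormalMap i i' g (𝟙 D) α)

include hφ hφ' hgi hs hα in
/-- The lift of `df` extends the map of conormal sheaves. -/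
theorem comm_conormal :
    ((Scheme.Modules.pullbackId D).inv.app (Omega.conormal i') ≫ α) ≫ φ = φ' ≫ s := by
  refine conormal_hom_ext fun U t => ?_
  have hsq : 𝟙 D ≫ i' = i ≫ g := by rw [Category.id_comp, hgi]
  obtain ⟨s₀, hs₀⟩ := exists_conormalMap_val hsq U t
  have hle : i' ⁻¹ᵁ U ≤ i ⁻¹ᵁ (g ⁻¹ᵁ U) := (preimage_comm hsq U).le
  show φ.app (i' ⁻¹ᵁ U) (((Scheme.Modules.pullbackId D).inv.app _ ≫ α).app (i' ⁻¹ᵁ U) (conormalSect i' U t)) =
    s.app (i' ⁻¹ᵁ U) (φ'.app (i' ⁻¹ᵁ U) (conormalSect i' U t))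
  rw [conormalMap_id_value hsq hα U t, cVal_eq hsq s₀ hs₀, hφ' U t]
  refine (hom_rs φ _ _).trans ?_
  rw [hφ (g ⁻¹ᵁ U) s₀]
  show rs _ hle (dPull i d₁ (g ⁻¹ᵁ U) (idealSect i.ker _ s₀)) = _
  rw [hs₀, ← hs U (idealSect i'.ker U t), rs_rs]
  exact rs_self _ _ _

include hφ hφ' hgi hs hα in
/-- The extension class of the target pushed forward along the map of conormal sheaves is that of the source. -/
theorem extClass_comp {Ω₂ : D.Modules} [HasExt.{w} D.Modules]
    {c : (Scheme.Modules.pullback i).obj Ω₁ ⟶ Ω₂} {c' : (Scheme.Modules.pullback i').obj Ω₁' ⟶ Ω₂}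
    {h₁ : φ ≫ c = 0} {h₂ : φ' ≫ c' = 0} (hS : (ShortComplex.mk φ c h₁).ShortExact)
    (hS' : (ShortComplex.mk φ' c' h₂).ShortExact) (hsc : s ≫ c = c') :
    hS'.extClass.comp (Abelian.Ext.mk₀ ((Scheme.Modules.pullbackId D).inv.app (Omega.conormal i') ≫ α))
      (add_zero 1) = hS.extClass := by
  let Φ : ShortComplex.mk φ' c' h₂ ⟶ ShortComplex.mk φ c h₁ :=
    { τ₁ := (Scheme.Modules.pullbackId D).inv.app (Omega.conormal i') ≫ α, τ₂ := s, τ₃ := 𝟙 Ω₂
      comm₁₂ := comm_conormal hφ hφ' hgi hs hα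
      comm₂₃ := hsc.trans (Category.comp_id c').symm }
  have h := ShortComplex.ShortExact.extClass_naturality hS' hS Φ
  exact h.trans (Abelian.Ext.mk₀_id_comp _)

omit [IsClosedImmersion i'] in
/-- An isomorphism of thickenings induces an isomorphism of conormal sheaves. -/
theorem isIso_conormalMap [IsClosedImmersion i'] (hsq' : i'.ker ^ 2 = ⊥) (hsq : i.ker ^ 2 = ⊥) [IsIso g]
    (hgi : i ≫ g = i') {α : (Scheme.Modules.pullback (𝟙 D)).obj (Omega.conormal i') ⟶ Omega.conormal i}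
    (hα : IsConormalMap i i' g (𝟙 D) α) :
    IsIso ((Scheme.Modules.pullbackId D).inv.app (Omega.conormal i') ≫ α) := by
  have hsurj := surjective_of_sq i' hsq'
  have hq : 𝟙 D ≫ i' = i ≫ g := by rw [Category.id_comp, hgi]
  refine Scheme.Modules.Hom.isIso_iff_isIso_app.2 fun W => ?_
  obtain ⟨U, rfl⟩ : ∃ U : C'.Opens, i' ⁻¹ᵁ U = W := by
    obtain ⟨O, hO, hOW⟩ := i'.isClosedEmbedding.isInducing.isOpen_iff.mp W.2
    exact ⟨⟨O, hO⟩, Opens.ext hOW⟩
  refine (ConcreteCategory.isIso_iff_bijective _).2 ⟨fun x y hxy => ?_, fun y => ?_⟩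
  · obtain ⟨a, rfl⟩ := (bijective_conormalSect i' hsq' U).2 x
    obtain ⟨b, rfl⟩ := (bijective_conormalSect i' hsq' U).2 y
    obtain ⟨a₀, ha₀⟩ := exists_conormalMap_val hq U a
    obtain ⟨b₀, hb₀⟩ := exists_conormalMap_val hq U b
    rw [conormalMap_id_value hq hα, conormalMap_id_value hq hα, cVal_eq hq a₀ ha₀, cVal_eq hq b₀ hb₀] at hxy
    haveI : IsIso (homOfLE (preimage_comm hq U).le) := ⟨homOfLE (preimage_comm hq U).ge, rfl, rfl⟩
    have h1 := (ConcreteCategory.bijective_of_isIso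
      ((Omega.conormal i).presheaf.map (homOfLE (preimage_comm hq U).le).op)).1 hxy
    have h2 : a₀ = b₀ := (bijective_conormalSect i hsq _).1 h1
    have h3 : g.app U (idealSect i'.ker U a) = g.app U (idealSect i'.ker U b) := by rw [← ha₀, ← hb₀, h2]
    rw [idealSect_injective i' U ((ConcreteCategory.bijective_of_isIso (g.app U)).1 h3)]
  · haveI : IsIso (homOfLE (preimage_comm hq U).le) := ⟨homOfLE (preimage_comm hq U).ge, rfl, rfl⟩
    obtain ⟨y', hy'⟩ := (ConcreteCategory.bijective_of_isIso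
      ((Omega.conormal i).presheaf.map (homOfLE (preimage_comm hq U).le).op)).2 y
    obtain ⟨s₀, rfl⟩ := (bijective_conormalSect i hsq _).2 y'
    obtain ⟨a, ha⟩ := (ConcreteCategory.bijective_of_isIso (g.app U)).2 (idealSect i.ker (g ⁻¹ᵁ U) s₀)
    have ha0 : i'.app U a = 0 := by
      have h1 : i.app (g ⁻¹ᵁ U) (g.app U a) = 0 := by rw [ha, app_idealSect]
      subst hgi
      rw [Scheme.Hom.comp_app, CommRingCat.comp_apply]
      exact h1
    obtain ⟨t, rfl⟩ := exists_idealSect i' U a ha0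
    exact ⟨conormalSect i' U t, by rw [conormalMap_id_value hq hα, cVal_eq hq s₀ ha.symm]; exact hy'⟩

/-- A morphism over `D` whose lift of differentials is an isomorphism is an isomorphism. -/
theorem isIso_of_isExtLift {Ω₂ : D.Modules} (d₂ : Der (i ≫ pC) Ω₂)
    {c : (Scheme.Modules.pullback i).obj Ω₁ ⟶ Ω₂} (hc : IsDiffCompat i d₁ d₂ c)
    {S₂' : Der (i' ≫ pC') Ω₂} {c' : (Scheme.Modules.pullback i').obj Ω₁' ⟶ Ω₂} (hc' : IsDiffCompat i' d₁' S₂' c')
    (hd : ∀ (W : D.Opens) (a : Γ(D, W)), S₂'.app W a = d₂.app W a)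
    {h₁ : φ ≫ c = 0} {h₂ : φ' ≫ c' = 0} (hS : (ShortComplex.mk φ c h₁).ShortExact)
    (hS' : (ShortComplex.mk φ' c' h₂).ShortExact) (hsq : i.ker ^ 2 = ⊥) (hsq' : i'.ker ^ 2 = ⊥)
    (hφ : IsConormalDiff i d₁ φ) (hφ' : IsConormalDiff i' d₁' φ')
    (hgi : i ≫ g = i') (hs : IsExtLift i d₁ d₁' g hgi s) [IsIso s] (hsc : s ≫ c = c') : IsIso g := by
  haveI := hS.mono_f
  haveI := hS'.mono_f
  have hsurj := surjective_of_sq i hsq
  have hsurj' := surjective_of_sq i' hsq'
  haveI : IsIso g.base := by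
    have hb : IsHomeomorph g.base := by
      have hi : IsHomeomorph i.base :=
        isHomeomorph_iff_isEmbedding_surjective.mpr ⟨i.isClosedEmbedding.isEmbedding, hsurj⟩
      have hi' : IsHomeomorph i'.base :=
        isHomeomorph_iff_isEmbedding_surjective.mpr ⟨i'.isClosedEmbedding.isEmbedding, hsurj'⟩
      have e : (g.base : C → C') = i'.base ∘ (hi.homeomorph _).symm := by
        funext x
        obtain ⟨z, rfl⟩ := hsurj x
        show g.base (i.base z) = i'.base ((hi.homeomorph _).symm (i.base z))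
        rw [show (hi.homeomorph _).symm (i.base z) = z from (hi.homeomorph _).symm_apply_apply z,
          ← hgi, Scheme.Hom.comp_apply]
      rw [e]
      exact hi'.comp (hi.homeomorph _).symm.isHomeomorph
    exact (TopCat.isoOfHomeo (hb.homeomorph _)).isIso_hom
  haveI : ∀ U : C'.Opensᵒᵖ, IsIso (g.c.app U) := fun ⟨U⟩ => by
    show IsIso (g.app U)
    have hle : i' ⁻¹ᵁ U = i ⁻¹ᵁ (g ⁻¹ᵁ U) := by subst hgi; rfl
    have hsb : ∀ W, Function.Bijective (s.app W) := fun W => by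
      haveI : IsIso (s.app W) := Scheme.Modules.Hom.isIso_iff_isIso_app.1 inferInstance W
      exact ConcreteCategory.bijective_of_isIso (s.app W)
    have happ : ∀ a : Γ(C', U), i.app (g ⁻¹ᵁ U) (g.app U a) = ro hle.ge (i'.app U a) := fun a => by
      subst hgi
      rw [Scheme.Hom.comp_app, CommRingCat.comp_apply]
      exact (ro_self _ _).symm
    refine (ConcreteCategory.isIso_iff_bijective _).2 ⟨fun a b hab => ?_, fun x => ?_⟩
    · haveI : IsIso (homOfLE hle.ge) := ⟨homOfLE hle.le, rfl, rfl⟩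
      refine eq_of_app_dPull i' d₁' hφ' hsq' ?_ ?_
      · have h := congrArg (i.app (g ⁻¹ᵁ U)) hab
        rw [happ, happ] at h
        exact (ConcreteCategory.bijective_of_isIso (D.presheaf.map (homOfLE hle.ge).op)).1 h
      · have h := congrArg (dPull i d₁ (g ⁻¹ᵁ U)) hab
        rw [← hs, ← hs] at h
        exact (hsb _).1 ((ConcreteCategory.bijective_of_isIso
          (((Scheme.Modules.pullback i).obj Ω₁).presheaf.map (homOfLE hle.ge).op)).1 h)
    · let b : Γ(D, i' ⁻¹ᵁ U) := ro hle.le (i.app (g ⁻¹ᵁ U) x)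
      obtain ⟨ω, hω⟩ := (hsb (i' ⁻¹ᵁ U)).2 (rs _ hle.le (dPull i d₁ (g ⁻¹ᵁ U) x))
      have hωb : c'.app (i' ⁻¹ᵁ U) ω = S₂'.app (i' ⁻¹ᵁ U) b := by
        rw [hd, ← hsc]
        refine (congrArg (c.app (i' ⁻¹ᵁ U)) hω).trans ?_
        refine (hom_rs c hle.le _).trans ?_
        exact (congrArg (rs Ω₂ hle.le) (hc (g ⁻¹ᵁ U) x)).trans (der_map d₂ hle.le _).symm
      obtain ⟨a, ⟨ha1, ha2⟩, -⟩ := existsUnique_lift i' d₁' S₂' hφ' hc' hS' hsq' U b ω hωb
      refine ⟨a, eq_of_app_dPull i d₁ hφ hsq ?_ ?_⟩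
      · rw [happ, ha1, ro_ro, ro_self]
      · rw [← hs U a]
        refine (congrArg (fun t => rs _ (preimage_le_of_comp i hgi U) (s.app (i' ⁻¹ᵁ U) t)) ha2).trans ?_
        show rs _ _ (s.app (i' ⁻¹ᵁ U) ω) = _
        rw [hω, rs_rs, rs_self]
  haveI : IsIso g.c := NatIso.isIso_of_isIso_app _
  haveI : IsIso g.toPshHom := PresheafedSpace.isIso_of_components g.toPshHom
  haveI : IsIso g.toLRSHom := by
    haveI : IsIso (LocallyRingedSpace.forgetToSheafedSpace.map g.toLRSHom) := by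
      haveI : IsIso (SheafedSpace.forgetToPresheafedSpace.map
          (LocallyRingedSpace.forgetToSheafedSpace.map g.toLRSHom)) := inferInstanceAs (IsIso g.toPshHom)
      exact isIso_of_reflects_iso _ SheafedSpace.forgetToPresheafedSpace
    exact isIso_of_reflects_iso _ LocallyRingedSpace.forgetToSheafedSpace
  haveI : IsIso (Scheme.forgetToLocallyRingedSpace.map g) := inferInstanceAs (IsIso g.toLRSHom)
  exact isIso_of_reflects_iso g Scheme.forgetToLocallyRingedSpace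

end Groth.L19.OmegaSh.ExtendAlong
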