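import Groth.Agent.L19.OmegaSh.GroupScheme
import Groth.Prelude.Def_Grpd

/-!
# Differentials of a groupoid scheme
-/

set_option autoImplicit false
set_option linter.style.haveILetI false
set_option backward.isDefEq.respectTransparency.types false
set_option backward.isDefEq.respectTransparency false

universe u

open CategoryTheory CategoryTheory.Limits AlgebraicGeometry

noncomputable section

namespace Groth.L19.OmegaSh

variable {S : Scheme.{u}} (G : Grpd.GroupoidScheme S)

theorem lift_c_congr {T : Scheme.{u}} {α β α' β' : T ⟶ G.R} (h : α ≫ G.s = β ≫ G.t)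
    (h' : α' ≫ G.s = β' ≫ G.t) (e₁ : α = α') (e₂ : β = β') :
    pullback.lift α β h ≫ G.c = pullback.lift α' β' h' ≫ G.c := by
  subst e₁ e₂; rfl

/-- `(a, b) ↦ (a ∘ b, a)` identifies the composable pairs with `R ×_{t, U, t} R` -/
theorem isPullback_comp : IsPullback G.c (pullback.fst G.s G.t) G.t G.t := by
  let P := pullback G.s G.t
  let a : P ⟶ G.R := pullback.fst G.s G.t
  let b : P ⟶ G.R := pullback.snd G.s G.t
  have hab : a ≫ G.s = b ≫ G.t := pullback.condition
  have hc : pullback.lift a b hab ≫ G.c = G.c := by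
    rw [show pullback.lift a b hab = 𝟙 P from pullback.hom_ext (by simp [a]) (by simp [b]),
      Category.id_comp]
  have hct : G.c ≫ G.t = a ≫ G.t := by rw [← G.comp_t a b hab, hc]
  let Q := pullback G.t G.t
  let x : Q ⟶ G.R := pullback.fst G.t G.t
  let y : Q ⟶ G.R := pullback.snd G.t G.t
  have h₁ : (y ≫ G.i) ≫ G.s = x ≫ G.t := by rw [Category.assoc, G.i_s, ← pullback.condition]
  let w : Q ⟶ G.R := pullback.lift (y ≫ G.i) x h₁ ≫ G.c
  have h₂ : y ≫ G.s = w ≫ G.t := by rw [G.comp_t, Category.assoc, G.i_t]
  let φ : P ⟶ Q := pullback.lift G.c a hct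
  let ψ : Q ⟶ P := pullback.lift y w h₂
  let e : P ≅ Q :=
    { hom := φ
      inv := ψ
      hom_inv_id := by
        apply pullback.hom_ext
        · simp [φ, ψ, y, a]
        · have h3 : (a ≫ G.i) ≫ G.s = (pullback.lift a b hab ≫ G.c) ≫ G.t := by
            rw [G.comp_t, Category.assoc, G.i_s]
          have h4 : φ ≫ w = pullback.lift (a ≫ G.i) (pullback.lift a b hab ≫ G.c) h3 ≫ G.c := by
            rw [← Category.assoc]
            congr 1
            apply pullback.hom_ext <;> simp [φ, x, y, hc]
          have h5 := G.assoc (a ≫ G.i) a b (by rw [Category.assoc, G.i_s]) hab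
          rw [Category.assoc, Category.id_comp, pullback.lift_snd, h4]
          refine h5.symm.trans ?_
          refine (lift_c_congr G _ (by rw [Category.assoc, Category.assoc, G.e_s, Category.comp_id])
            ((G.i_comp a).trans ?_) rfl).trans (G.e_comp b)
          rw [← Category.assoc, hab, Category.assoc]
      inv_hom_id := by
        apply pullback.hom_ext
        · have h3 : y ≫ G.s = (pullback.lift (y ≫ G.i) x h₁ ≫ G.c) ≫ G.t := h₂
          rw [Category.assoc, Category.id_comp, pullback.lift_fst]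
          refine (G.assoc y (y ≫ G.i) x (by rw [Category.assoc, G.i_t]) h₁).symm.trans ?_
          refine (lift_c_congr G _ (by rw [Category.assoc, Category.assoc, G.e_s, Category.comp_id])
            ((G.comp_i y).trans ?_) rfl).trans (G.e_comp x)
          rw [← Category.assoc, ← pullback.condition, Category.assoc]
        · simp [φ, ψ, y, a] }
  refine IsPullback.of_iso (IsPullback.of_hasPullback G.t G.t) e.symm (Iso.refl _) (Iso.refl _)
    (Iso.refl _) ?_ ?_ (by simp) (by simp)
  · simp only [Iso.refl_hom, Category.comp_id, Iso.symm_hom]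
    rw [← Iso.cancel_iso_hom_left e, Iso.hom_inv_id_assoc]
    exact (pullback.lift_fst _ _ _)
  · simp only [Iso.refl_hom, Category.comp_id, Iso.symm_hom]
    rw [← Iso.cancel_iso_hom_left e, Iso.hom_inv_id_assoc]
    exact (pullback.lift_snd _ _ _)

theorem groupoid_omega_iso [QuasiSeparated G.t] :
    Nonempty ((Scheme.Modules.pullback G.s).obj (Omega.conormal G.e) ≅ Omega.sheaf G.t) := by
  haveI : IsImmersion (G.e ≫ G.t) := by rw [G.e_t]; exact MorphismProperty.id_mem @IsImmersion _
  haveI : IsImmersion G.e := IsImmersion.of_comp G.e G.t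
  haveI : QuasiCompact (G.e ≫ G.t) := by rw [G.e_t]; exact MorphismProperty.id_mem @QuasiCompact _
  haveI : QuasiCompact G.e := QuasiCompact.of_comp G.e G.t
  have hd := isUniversal_dOmega (f := G.t)
  obtain ⟨e₁⟩ := nonempty_conormal_iso_pullback G.e G.e_t hd
  have h : 𝟙 G.R ≫ G.s = (G.s ≫ G.e) ≫ G.t := by
    rw [Category.id_comp, Category.assoc, G.e_t, Category.comp_id]
  obtain ⟨e₂⟩ := nonempty_iso_pullback_of_shear₂ (σ := G.s) G.e (pullback.fst G.s G.t)
    (pullback.snd G.s G.t) G.c (IsPullback.of_hasPullback G.s G.t).flip (isPullback_comp G)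
    (pullback.lift (𝟙 _) (G.s ≫ G.e) h) (pullback.lift_snd _ _ _)
    ((lift_c_congr G h (by rw [Category.assoc, Category.assoc, G.e_t, Category.comp_id]) rfl
      (by rw [Category.id_comp])).trans (G.comp_e (𝟙 _))) hd
  exact ⟨(Scheme.Modules.pullback G.s).mapIso e₁ ≪≫ e₂.symm⟩

end Groth.L19.OmegaSh
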