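import Groth.Agent.L19.OmegaSh.DiagPoint
import Groth.Prelude.Def_OmegaPn

/-!
# Principal parts of order one: sections vanishing on the diagonal square to zero
-/

set_option autoImplicit false
set_option linter.style.haveILetI false
set_option backward.isDefEq.respectTransparency.types false
set_option backward.isDefEq.respectTransparency false

universe u

open CategoryTheory CategoryTheory.Limits AlgebraicGeometry TopologicalSpace Opposite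

noncomputable section

namespace Groth.L19.OmegaSh

open Groth.L18.Frame (rs ro rs_rs ro_ro rs_smul ro_self rs_self)
open PrinPart

theorem mul_eq_zero_of_ker {X Y : Scheme.{u}} (I K : X.IdealSheafData)
    (hIK : ∀ V : X.affineOpens, I.ideal V * I.ideal V ≤ K.ideal V) (j : Y ⟶ K.subscheme) (i : Y ⟶ X)
    (hj : j ≫ K.subschemeι = i) (hi : ∀ (V : X.affineOpens) (c : Γ(X, V.1)), i.app V.1 c = 0 → c ∈ I.ideal V)
    (O : K.subscheme.Opens) (s t : Γ(K.subscheme, O)) (hs : j.app O s = 0) (ht : j.app O t = 0) : s * t = 0 := by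
  obtain ⟨O', hO', hOO'⟩ := K.subschemeι.isClosedEmbedding.isInducing.isOpen_iff.mp O.2
  refine K.subscheme.IsSheaf.section_ext fun x hx => ?_
  obtain ⟨_, ⟨W, hW, rfl⟩, hxW, hWO⟩ :=
    X.isBasis_affineOpens.exists_subset_of_mem_open (show K.subschemeι x ∈ O' from hOO'.symm.subset hx) hO'
  have hV : K.subschemeι ⁻¹ᵁ W ≤ O := fun z hz => hOO'.subset (hWO hz)
  refine ⟨K.subschemeι ⁻¹ᵁ W, hV, hxW, ?_⟩
  show ro hV (s * t) = ro hV 0
  obtain ⟨a, ha⟩ := K.subschemeι_app_surjective ⟨W, hW⟩ (ro hV s)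
  obtain ⟨b, hb⟩ := K.subschemeι_app_surjective ⟨W, hW⟩ (ro hV t)
  have hmem : ∀ (c : Γ(X, W)) (r : Γ(K.subscheme, O)), j.app O r = 0 →
      K.subschemeι.app W c = ro hV r → c ∈ I.ideal ⟨W, hW⟩ := by
    intro c r hr hc
    subst hj
    refine hi _ _ ?_
    rw [Scheme.Hom.comp_app, CommRingCat.comp_apply, hc]
    refine (congr($(j.naturality (homOfLE hV).op) r)).trans ?_
    show ro _ (j.app O r) = 0
    rw [hr]
    exact map_zero _
  have hab : K.subschemeι.app W (a * b) = 0 := by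
    have h1 := hIK ⟨W, hW⟩ (Ideal.mul_mem_mul (hmem a s hs ha) (hmem b t ht hb))
    rw [← K.ker_subschemeι_app ⟨W, hW⟩] at h1
    exact RingHom.mem_ker.mp h1
  rw [map_mul, ha, hb] at hab
  exact (map_mul _ _ _).trans (hab.trans (map_zero _).symm)

/-- The ideal of `Y` in its first infinitesimal neighbourhood squares to zero. -/
theorem mul_eq_zero_infNbhd_one {X Y : Scheme.{u}} (i : Y ⟶ X) [IsClosedImmersion i] (O : (infNbhd i 1).Opens)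
    (s t : Γ(infNbhd i 1, O)) (hs : (toInfNbhd i 1).app O s = 0) (ht : (toInfNbhd i 1).app O t = 0) : s * t = 0 :=
  mul_eq_zero_of_ker i.ker (i.ker ^ (1 + 1))
    (fun V => by rw [Scheme.IdealSheafData.ideal_pow, Pi.pow_apply, one_add_one_eq_two, pow_two])
    (toInfNbhd i 1) i (toInfNbhd_ι i 1) (fun V c hc => by rw [i.ker_apply V]; exact hc) O s t hs ht

theorem app_sub_eq_zero {X N : Scheme.{u}} (j : X ⟶ N) (p q : N ⟶ X) (hp : j ≫ p = 𝟙 X) (hq : j ≫ q = 𝟙 X)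
    (U : X.Opens) (e : p ⁻¹ᵁ U ≤ q ⁻¹ᵁ U) (a : Γ(X, U)) :
    j.app (p ⁻¹ᵁ U) (q.appLE U (p ⁻¹ᵁ U) e a - p.app U a) = 0 := by
  have e' : j ⁻¹ᵁ (p ⁻¹ᵁ U) ≤ (𝟙 X : X ⟶ X) ⁻¹ᵁ U := by rw [← Scheme.Hom.comp_preimage, hp]
  rw [map_sub, sub_eq_zero, Scheme.Hom.app_eq_appLE, Scheme.Hom.app_eq_appLE, ← CommRingCat.comp_apply,
    ← CommRingCat.comp_apply, Scheme.Hom.appLE_comp_appLE, Scheme.Hom.appLE_comp_appLE,
    _root_.OmegaSh.appLE_congr_hom hp _ e', _root_.OmegaSh.appLE_congr_hom hq _ e']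

theorem appLE_app_eq {X N S : Scheme.{u}} (f : X ⟶ S) (p q : N ⟶ X) (h : p ≫ f = q ≫ f) (V : S.Opens)
    (e : p ⁻¹ᵁ (f ⁻¹ᵁ V) ≤ q ⁻¹ᵁ (f ⁻¹ᵁ V)) (c : Γ(S, V)) :
    q.appLE (f ⁻¹ᵁ V) (p ⁻¹ᵁ (f ⁻¹ᵁ V)) e (f.app V c) = p.app (f ⁻¹ᵁ V) (f.app V c) := by
  have e' : p ⁻¹ᵁ (f ⁻¹ᵁ V) ≤ (p ≫ f) ⁻¹ᵁ V := (Scheme.Hom.comp_preimage _ _ _).ge
  rw [Scheme.Hom.app_eq_appLE, Scheme.Hom.app_eq_appLE, ← CommRingCat.comp_apply, ← CommRingCat.comp_apply,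
    Scheme.Hom.appLE_comp_appLE, Scheme.Hom.appLE_comp_appLE, _root_.OmegaSh.appLE_congr_hom h.symm _ e']

section

variable {X S : Scheme.{u}} (f : X ⟶ S)

/-- `d¹` of a function, as a function on the neighbourhood. -/
def dfn (U : X.Opens) (a : Γ(X, U)) : Γ(nbhd f 1, pr1 f 1 ⁻¹ᵁ U) :=
  (pr2 f 1).appLE U (pr1 f 1 ⁻¹ᵁ U) (preimage_pr1 f 1 U).le a

theorem dP_smul (F : X.Modules) (U : X.Opens) (a : Γ(X, U)) (t : Γ(F, U)) :
    dP f 1 F U (a • t) = (show Γ(PMod f 1 F, U) from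
      dfn f U a • (show Γ((Scheme.Modules.pullback (pr2 f 1)).obj F, pr1 f 1 ⁻¹ᵁ U) from dP f 1 F U t)) := by
  show rs ((Scheme.Modules.pullback (pr2 f 1)).obj F) (preimage_pr1 f 1 U).le
    (_root_.OmegaSh.pullSect (pr2 f 1) F U (a • t)) = _
  have h1 := Scheme.Modules.Hom.app_smul ((Scheme.Modules.pullbackPushforwardAdjunction (pr2 f 1)).unit.app F) a t
  refine (congrArg (rs ((Scheme.Modules.pullback (pr2 f 1)).obj F) (preimage_pr1 f 1 U).le) h1).trans ?_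
  exact rs_smul ((Scheme.Modules.pullback (pr2 f 1)).obj F) (preimage_pr1 f 1 U).le ((pr2 f 1).app U a)
    (_root_.OmegaSh.pullSect (pr2 f 1) F U t)

theorem toNbhd_sub_dfn (U : X.Opens) (a : Γ(X, U)) :
    (toNbhd f 1).app (pr1 f 1 ⁻¹ᵁ U) (dfn f U a - (pr1 f 1).app U a) = 0 :=
  app_sub_eq_zero (toNbhd f 1) (pr1 f 1) (pr2 f 1) (toNbhd_pr1 f 1) (toNbhd_pr2 f 1) U (preimage_pr1 f 1 U).le a

/-- A linear map out of `P¹` is a derivation up to its value at one. -/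
theorem leibniz_diffOp {G : X.Modules} (u : P f 1 ⟶ G) (U : X.Opens) (a b : Γ(X, U)) :
    u.app U (dn f 1 U (a * b)) + (a * b) • u.app U (dn f 1 U 1) =
      a • u.app U (dn f 1 U b) + b • u.app U (dn f 1 U a) := by
  rw [← Scheme.Modules.Hom.app_smul, ← Scheme.Modules.Hom.app_smul, ← Scheme.Modules.Hom.app_smul, ← map_add,
    ← map_add]
  congr 1
  let M := (Scheme.Modules.pullback (pr2 f 1)).obj (Coh.structureModule X)
  let e : Γ(M, pr1 f 1 ⁻¹ᵁ U) := dn f 1 U 1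
  have hd : ∀ c : Γ(X, U), (show Γ(M, pr1 f 1 ⁻¹ᵁ U) from dn f 1 U c) = dfn f U c • e := by
    intro c
    refine Eq.trans ?_ (dP_smul f (Coh.structureModule X) U c (_root_.OmegaSh.strSect X U 1))
    refine congrArg (dP f 1 (Coh.structureModule X) U) ?_
    show (c : Γ(X, U)) = c * 1
    rw [mul_one]
  show (show Γ(M, pr1 f 1 ⁻¹ᵁ U) from dn f 1 U (a * b)) + (pr1 f 1).app U (a * b) • e =
    (pr1 f 1).app U a • (show Γ(M, pr1 f 1 ⁻¹ᵁ U) from dn f 1 U b) +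
      (pr1 f 1).app U b • (show Γ(M, pr1 f 1 ⁻¹ᵁ U) from dn f 1 U a)
  rw [hd, hd, hd, ← add_smul, smul_smul, smul_smul, ← add_smul]
  congr 1
  have h0 := mul_eq_zero_infNbhd_one (diagCl f) _ _ _ (toNbhd_sub_dfn f U a) (toNbhd_sub_dfn f U b)
  have hm : dfn f U (a * b) = dfn f U a * dfn f U b := map_mul _ _ _
  rw [map_mul, hm]
  linear_combination h0

theorem dn_app_base {G : X.Modules} (u : P f 1 ⟶ G) (V : S.Opens) (c : Γ(S, V)) :
    u.app (f ⁻¹ᵁ V) (dn f 1 (f ⁻¹ᵁ V) (f.app V c)) = f.app V c • u.app (f ⁻¹ᵁ V) (dn f 1 (f ⁻¹ᵁ V) 1) := by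
  rw [← Scheme.Modules.Hom.app_smul]
  congr 1
  let M := (Scheme.Modules.pullback (pr2 f 1)).obj (Coh.structureModule X)
  refine Eq.trans (b := (show Γ(M, pr1 f 1 ⁻¹ᵁ (f ⁻¹ᵁ V)) from
    dfn f (f ⁻¹ᵁ V) (f.app V c) • (show Γ(M, pr1 f 1 ⁻¹ᵁ (f ⁻¹ᵁ V)) from dn f 1 (f ⁻¹ᵁ V) 1))) ?_ ?_
  · refine Eq.trans ?_ (dP_smul f (Coh.structureModule X) _ _ (_root_.OmegaSh.strSect X _ 1))
    refine congrArg (dP f 1 (Coh.structureModule X) (f ⁻¹ᵁ V)) ?_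
    show (f.app V c : Γ(X, f ⁻¹ᵁ V)) = f.app V c * 1
    rw [mul_one]
  · refine congrArg (fun r : Γ(nbhd f 1, pr1 f 1 ⁻¹ᵁ (f ⁻¹ᵁ V)) =>
      r • (show Γ(M, pr1 f 1 ⁻¹ᵁ (f ⁻¹ᵁ V)) from dn f 1 (f ⁻¹ᵁ V) 1)) ?_
    exact appLE_app_eq f (pr1 f 1) (pr2 f 1) (pr1_comp f 1) V (preimage_pr1 f 1 _).le c

end

end Groth.L19.OmegaSh
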