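import Groth.Agent.L19.OmegaSh.Along

/-!
# Changing the base of derivations without changing their values
-/

set_option autoImplicit false
set_option linter.style.haveILetI false
set_option backward.isDefEq.respectTransparency.types false
set_option backward.isDefEq.respectTransparency false

universe u

open CategoryTheory CategoryTheory.Limits AlgebraicGeometry TopologicalSpace Opposite

noncomputable section

namespace Groth.L19.OmegaSh

open Groth.L18.Frame (rs ro rs_rs ro_ro rs_smul ro_self rs_self)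
open _root_.OmegaSh (Der IsUniversal)

variable {X Y Q : Scheme.{u}} {f : X ⟶ Y} {G : X.Modules}

/-- A derivation whose points do not move over `Q` kills the functions of `Q`. -/
theorem der_app_of_dPt_comp (D : Der f G) (h : X ⟶ Q) (P : X.affineOpens → Prop)
    (hP : ∀ (x : X) (O : X.Opens), x ∈ O → ∃ U, P U ∧ x ∈ U.1 ∧ U.1 ≤ O)
    (hh : ∀ U, P U → dPt D U ≫ h = (Spec.map (inlL G U.1) ≫ U.2.fromSpec) ≫ h) (Z : Q.Opens) (c : Γ(Q, Z)) :
    D.app (h ⁻¹ᵁ Z) (h.app Z c) = 0 := by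
  refine eq_of_basis (G := G) P hP _ _ fun U hU hUZ => ?_
  rw [← μ_dPt_comp D U h hUZ]
  refine Eq.trans ?_ (map_zero _).symm
  have e' : ⊤ ≤ (dPt D U ≫ h) ⁻¹ᵁ Z := top_le_of_prL _ h (prL_dPt_comp D U h) hUZ
  have e : ⊤ ≤ ((Spec.map (inlL G U.1) ≫ U.2.fromSpec) ≫ h) ⁻¹ᵁ Z := (hh U hU) ▸ e'
  refine (congrArg (snd' G) (congr($(τ_congr G (hh U hU) Z _ e) c))).trans ?_
  refine (μ_comp G _ h (W := h ⁻¹ᵁ Z)
    (show ⊤ ≤ (Spec.map (inlL G U.1) ≫ U.2.fromSpec) ⁻¹ᵁ (h ⁻¹ᵁ Z) from e) le_rfl e c).trans ?_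
  rw [μ_specMap U.2 _ _ hUZ]
  exact snd_mk G _ _

/-- The same values, relative to `h`. -/
def rebase (D : Der f G) (h : X ⟶ Q) (hD : ∀ (Z : Q.Opens) (c : Γ(Q, Z)), D.app (h ⁻¹ᵁ Z) (h.app Z c) = 0) :
    Der h G where
  d {U} := D.app U.unop
  d_mul {U} a b := D.d_mul a b
  d_map {U V} i a := D.d_map i a
  d_app {V} c := hD V.unop c

theorem rebase_app (D : Der f G) (h : X ⟶ Q) (hD : ∀ (Z : Q.Opens) (c : Γ(Q, Z)), D.app (h ⁻¹ᵁ Z) (h.app Z c) = 0)
    (U : X.Opens) (a : Γ(X, U)) : (rebase D h hD).app U a = D.app U a := rfl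

/-- Universality is kept if the two kinds of derivations agree. -/
theorem isUniversal_rebase {Ω : X.Modules} {d : Der f Ω} (hd : IsUniversal d) (h : X ⟶ Q) (k : Q ⟶ Y)
    (hf : h ≫ k = f) (hD : ∀ (Z : Q.Opens) (c : Γ(Q, Z)), d.app (h ⁻¹ᵁ Z) (h.app Z c) = 0) :
    IsUniversal (rebase d h hD) := by
  intro N E
  have hkill : ∀ (V : Y.Opens) (c : Γ(Y, V)), E.app (f ⁻¹ᵁ V) (f.app V c) = 0 := by
    subst hf
    exact fun V c => E.d_app (X := op (k ⁻¹ᵁ V)) (k.app V c)
  obtain ⟨α, hα, hu⟩ := hd N (rebase E f hkill)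
  refine ⟨α, ?_, fun β hβ => hu β ?_⟩
  · refine PresheafOfModules.Derivation.ext ?_
    ext U a
    exact congrArg (fun E' : Der f N => E'.app U.unop a) hα
  · refine PresheafOfModules.Derivation.ext ?_
    ext U a
    exact congrArg (fun E' : Der h N => E'.app U.unop a) hβ

theorem der_pow_succ (D : Der f G) (U : X.Opens) (a : Γ(X, U)) (n : ℕ) :
    D.app U (a ^ (n + 1)) = (((n + 1 : ℕ) : Γ(X, U)) * a ^ n) • D.app U a := by
  induction n with
  | zero => simp
  | succ n ih =>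
    rw [pow_succ a (n + 1), der_mul, ih, smul_smul, ← add_smul]
    congr 1
    push_cast
    ring

end Groth.L19.OmegaSh
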