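import Groth.Agent.L19.OmegaSh.Lift

/-!
# Formally smooth morphisms and differentials
-/

set_option autoImplicit false
set_option linter.style.haveILetI false
set_option backward.isDefEq.respectTransparency.types false
set_option backward.isDefEq.respectTransparency false

universe u

open CategoryTheory CategoryTheory.Limits AlgebraicGeometry TopologicalSpace Opposite

noncomputable section

namespace Groth.L19.OmegaSh

open Groth.L18.Frame (rs ro rs_rs ro_ro rs_smul ro_self rs_self)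
open _root_.OmegaSh (Der IsUniversal IsDiffCompat pullSect)

variable {X Y S : Scheme.{u}}

/-- Along a formally smooth morphism derivations extend on small affines. -/
theorem exists_der_extension {f : X ⟶ Y} (hf : MoreMor.IsFormallySmoothHom f) {g : Y ⟶ S} (U : X.affineOpens)
    (W : Y.affineOpens) (hW : Good g W) (e : U.1 ≤ f ⁻¹ᵁ W.1) {M : (U.1 : Scheme.{u}).Modules}
    (E : Der g ((Scheme.Modules.pushforward (U.1.ι ≫ f)).obj M)) :
    ∃ D : Der (U.1.ι ≫ f ≫ g) M,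
      pushDerSq (U.1.ι ≫ f) (𝟙 S) (f := g) (f' := U.1.ι ≫ f ≫ g)
        (by rw [Category.comp_id, Category.assoc]) D = E := by
  haveI : IsAffine (U.1 : Scheme.{u}) := U.2
  let T : (U.1 : Scheme.{u}).affineOpens := ⟨⊤, isAffineOpen_top _⟩
  have hT : ∀ V : (U.1 : Scheme.{u}).affineOpens, V.1 ≤ (U.1.ι ≫ f) ⁻¹ᵁ W.1 := fun V z _ => e z.2
  obtain ⟨l, hl₁, hl₂⟩ := exists_point_lift hf (T.2.fromSpec ≫ U.1.ι) (ePt E T W (hT T))
    (by rw [prL_ePt, Category.assoc])
  have hr : Set.range l ⊆ Set.range U.1.ι := by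
    rintro _ ⟨z, rfl⟩
    obtain ⟨z', rfl⟩ := (surjective_prL M T.1).surj z
    rw [← Scheme.Hom.comp_apply, hl₁, Scheme.Hom.comp_apply]
    exact ⟨_, rfl⟩
  let m := IsOpenImmersion.lift U.1.ι l hr
  have hm₁ : Spec.map (prL M T.1) ≫ m = T.2.fromSpec := by
    rw [← cancel_mono U.1.ι, Category.assoc, IsOpenImmersion.lift_fac, hl₁]
  have hm₂ : m ≫ U.1.ι ≫ f = ePt E T W (hT T) := by rw [IsOpenImmersion.lift_fac_assoc, hl₂]
  let F : PointFam (U.1.ι ≫ f ≫ g) M :=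
    { P := fun _ => True
      exists_P := fun x O hx => by
        obtain ⟨_, ⟨V, hV, rfl⟩, hxV, hVO⟩ :=
          (U.1 : Scheme.{u}).isBasis_affineOpens.exists_subset_of_mem_open hx O.2
        exact ⟨⟨V, hV⟩, trivial, hxV, hVO⟩
      r := fun V _ => Spec.map (resL M (le_top : V.1 ≤ T.1)) ≫ m
      prL_r := fun V _ => by
        rw [← Spec.map_comp_assoc, resL_prL, Spec.map_comp_assoc, hm₁, IsAffineOpen.map_fromSpec]
      resL_r := fun V V' _ _ h => by
        rw [← Spec.map_comp_assoc]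
        congr 2
        ext a
        refine ext M ?_ ?_
        · simp only [CommRingCat.hom_comp, RingHom.comp_apply, fst_resL]
          exact ro_ro _ _ _
        · simp only [CommRingCat.hom_comp, RingHom.comp_apply, snd_resL]
          exact rs_rs M _ _ _
      r_base := fun V _ => by
        rw [Category.assoc, ← Category.assoc U.1.ι f g, ← Category.assoc m, hm₂, ← Category.assoc (Spec.map _),
          resL_ePt E (U := T) (U' := V) le_top W (hT T), ePt_base E V W _ hW] }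
  refine ⟨F.der, pushDerSq_eq_of_points _ F.der E F.P F.exists_P fun V p => ⟨W, hT V, ?_⟩⟩
  rw [F.dPt_der V p]
  show (Spec.map (resL M _) ≫ m) ≫ U.1.ι ≫ f = _
  rw [Category.assoc, hm₂, resL_ePt E (U := T) (U' := V) le_top W (hT T)]

theorem app_eq_zero_of_comp_zero {A B : X.Modules} (c : A ⟶ B) (Z : X.Opens) (s : Γ(A, Z))
    (h : ∀ x ∈ Z, ∃ U : X.affineOpens, x ∈ U.1 ∧
      ∃ α : B ⟶ (Scheme.Modules.pushforward U.1.ι).obj (A.restrict U.1.ι),
        c ≫ α = (Scheme.Modules.restrictAdjunction U.1.ι).unit.app A)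
    (hs : c.app Z s = 0) : s = 0 := by
  refine eq_of_basis (G := A)
    (fun V => ∃ U : X.affineOpens, V.1 ≤ Z → V.1 ≤ U.1 ∧
      ∃ α : B ⟶ (Scheme.Modules.pushforward U.1.ι).obj (A.restrict U.1.ι),
        c ≫ α = (Scheme.Modules.restrictAdjunction U.1.ι).unit.app A) ?_ s 0 fun V hV hVZ => ?_
  · intro x O hx
    by_cases hxZ : x ∈ Z
    · obtain ⟨U, hxU, hU⟩ := h x hxZ
      obtain ⟨_, ⟨V, hV, rfl⟩, hxV, hVle⟩ :=
        X.isBasis_affineOpens.exists_subset_of_mem_open (show x ∈ O ⊓ U.1 from ⟨hx, hxU⟩) (O ⊓ U.1).2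
      exact ⟨⟨V, hV⟩, ⟨U, fun _ => ⟨fun z hz => (hVle hz).2, hU⟩⟩, hxV, fun z hz => (hVle hz).1⟩
    · obtain ⟨_, ⟨V, hV, rfl⟩, hxV, hVle⟩ := X.isBasis_affineOpens.exists_subset_of_mem_open hx O.2
      exact ⟨⟨V, hV⟩, ⟨⟨V, hV⟩, fun hle => absurd (hle hxV) hxZ⟩, hxV, hVle⟩
  · obtain ⟨U, hU⟩ := hV
    obtain ⟨hVU, α, hα⟩ := hU hVZ
    have h1 : ((Scheme.Modules.restrictAdjunction U.1.ι).unit.app A).app Z s = 0 := by
      rw [← hα]
      exact (congrArg (α.app Z) hs).trans (map_zero _)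
    rw [Scheme.Modules.restrictAdjunction_unit_app_app] at h1
    have hV' : V.1 ≤ U.1.ι ''ᵁ (U.1.ι ⁻¹ᵁ Z) := fun z hz => ⟨⟨z, hVU hz⟩, hVZ hz, rfl⟩
    refine ((rs_rs A (U.1.ι.image_preimage_le Z) hV' s).symm.trans ((congrArg (rs A hV') h1).trans ?_))
    exact (map_zero _).trans (map_zero _).symm

/-- For `f` formally smooth the map `f^* Ω_{Y/S} → Ω_{X/S}` is injective. -/
theorem mono_diffCompat_of_formallySmooth {g : Y ⟶ S} {h : X ⟶ S} {f : X ⟶ Y} (w : f ≫ g = h)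
    (hf : MoreMor.IsFormallySmoothHom f) {ΩY : Y.Modules} {dY : Der g ΩY} (hY : IsUniversal dY)
    {ΩX : X.Modules} {dX : Der h ΩX} (hX : IsUniversal dX)
    {c : (Scheme.Modules.pullback f).obj ΩY ⟶ ΩX} (hc : IsDiffCompat f dY dX c) : Mono c := by
  subst w
  let adj := Scheme.Modules.pullbackPushforwardAdjunction f
  let A := (Scheme.Modules.pullback f).obj ΩY
  have key : ∀ x : X, ∃ U : X.affineOpens, x ∈ U.1 ∧
      ∃ α : ΩX ⟶ (Scheme.Modules.pushforward U.1.ι).obj (A.restrict U.1.ι),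
        c ≫ α = (Scheme.Modules.restrictAdjunction U.1.ι).unit.app A := by
    intro x
    obtain ⟨W, hW, hxW, -⟩ := exists_good (f := g) (f x) ⊤ trivial
    obtain ⟨_, ⟨U, hU, rfl⟩, hxU, hUle⟩ :=
      X.isBasis_affineOpens.exists_subset_of_mem_open (show x ∈ f ⁻¹ᵁ W.1 from hxW) (f ⁻¹ᵁ W.1).2
    let Ua : X.affineOpens := ⟨U, hU⟩
    refine ⟨Ua, hxU, ?_⟩
    let η := (Scheme.Modules.restrictAdjunction Ua.1.ι).unit.app A
    let E : Der g ((Scheme.Modules.pushforward (Ua.1.ι ≫ f)).obj (A.restrict Ua.1.ι)) :=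
      dY.postcomp (adj.unit.app ΩY ≫ (Scheme.Modules.pushforward f).map η ≫
        (Scheme.Modules.pushforwardComp Ua.1.ι f).hom.app (A.restrict Ua.1.ι)).val
    obtain ⟨D₀, hD₀⟩ := exists_der_extension hf Ua W hW hUle E
    obtain ⟨α, hα, -⟩ := hX _ (pushDer Ua.1.ι D₀)
    refine ⟨α, ?_⟩
    obtain ⟨c₀, -, huniq⟩ := existsUnique_diffCompat f (𝟙 S) (Category.comp_id _) hY (pushDer Ua.1.ι D₀)
    refine (huniq _ (hα ▸ isDiffCompat_postcomp f hc α)).trans (huniq η ?_).symm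
    intro Z a
    have h2 : (pushDerSq (Ua.1.ι ≫ f) (𝟙 S) (f := g) (f' := Ua.1.ι ≫ f ≫ g)
        (by rw [Category.comp_id, Category.assoc]) D₀).app Z a = E.app Z a :=
      congrArg (fun E' : Der g _ => E'.app Z a) hD₀
    refine Eq.trans ?_ (h2.symm.trans ?_)
    · rfl
    · show D₀.app _ ((Ua.1.ι ≫ f).app Z a) = D₀.app _ (Ua.1.ι.app (f ⁻¹ᵁ Z) (f.app Z a))
      rw [Scheme.Hom.comp_app]
      rfl
  refine ⟨fun {N} φ ψ hφ => ?_⟩
  ext Z s
  rw [← sub_eq_zero]
  refine app_eq_zero_of_comp_zero c Z _ (fun x _ => key x) ?_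
  rw [map_sub, sub_eq_zero]
  exact congr($(congrArg (fun β => Scheme.Modules.Hom.app β Z) hφ) s)

end Groth.L19.OmegaSh
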