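import Groth.Agent.L18.Frame
import Groth.Prelude.Def_Omega3
import Mathlib.Algebra.TrivSqZeroExt.Basic
import Mathlib.AlgebraicGeometry.AffineScheme
import Mathlib.Topology.Sheaves.SheafCondition.UniqueGluing

/-!
# Square-zero thickenings of affine opens by the sections of a module, and gluing
-/

set_option autoImplicit false
set_option linter.style.haveILetI false
set_option backward.isDefEq.respectTransparency.types false
set_option backward.isDefEq.respectTransparency false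

universe u

open CategoryTheory CategoryTheory.Limits AlgebraicGeometry TopologicalSpace Opposite

noncomputable section

namespace Groth.L19.OmegaSh

open Groth.L18.Frame (rs ro rs_rs ro_ro rs_smul)

variable {X : Scheme.{u}} (F : X.Modules)

/-- The opposite action on sections. -/
local instance opModule (U : X.Opens) : Module Γ(X, U)ᵐᵒᵖ Γ(F, U) :=
  Module.compHom _ ((RingHom.id Γ(X, U)).fromOpposite fun x y => mul_comm x y)

local instance opCentral (U : X.Opens) : IsCentralScalar Γ(X, U) Γ(F, U) := ⟨fun _ _ => rfl⟩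

/-- `Γ(X, U) ⋉ Γ(F, U)`. -/
def L (U : X.Opens) : CommRingCat.{u} := CommRingCat.of (TrivSqZeroExt Γ(X, U) Γ(F, U))

def mk (U : X.Opens) (a : Γ(X, U)) (m : Γ(F, U)) : L F U :=
  (TrivSqZeroExt.inl a + TrivSqZeroExt.inr m : TrivSqZeroExt Γ(X, U) Γ(F, U))

def fst' {U : X.Opens} (x : L F U) : Γ(X, U) := TrivSqZeroExt.fst x

def snd' {U : X.Opens} (x : L F U) : Γ(F, U) := TrivSqZeroExt.snd x

@[simp] theorem fst_mk {U : X.Opens} (a : Γ(X, U)) (m : Γ(F, U)) : fst' F (mk F U a m) = a :=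
  (TrivSqZeroExt.fst_add _ _).trans (by simp)

@[simp] theorem snd_mk {U : X.Opens} (a : Γ(X, U)) (m : Γ(F, U)) : snd' F (mk F U a m) = m :=
  (TrivSqZeroExt.snd_add _ _).trans (by simp)

theorem ext {U : X.Opens} {x y : L F U} (h₁ : fst' F x = fst' F y) (h₂ : snd' F x = snd' F y) : x = y :=
  TrivSqZeroExt.ext h₁ h₂

@[simp] theorem fst_add {U : X.Opens} (x y : L F U) : fst' F (x + y) = fst' F x + fst' F y :=
  TrivSqZeroExt.fst_add _ _

@[simp] theorem snd_add {U : X.Opens} (x y : L F U) : snd' F (x + y) = snd' F x + snd' F y :=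
  TrivSqZeroExt.snd_add _ _

@[simp] theorem fst_mul {U : X.Opens} (x y : L F U) : fst' F (x * y) = fst' F x * fst' F y :=
  TrivSqZeroExt.fst_mul _ _

@[simp] theorem snd_mul {U : X.Opens} (x y : L F U) :
    snd' F (x * y) = fst' F x • snd' F y + fst' F y • snd' F x :=
  TrivSqZeroExt.snd_mul _ _

@[simp] theorem fst_one (U : X.Opens) : fst' F (1 : L F U) = 1 := TrivSqZeroExt.fst_one

@[simp] theorem snd_one (U : X.Opens) : snd' F (1 : L F U) = 0 := TrivSqZeroExt.snd_one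

@[simp] theorem fst_zero (U : X.Opens) : fst' F (0 : L F U) = 0 := TrivSqZeroExt.fst_zero

@[simp] theorem snd_zero (U : X.Opens) : snd' F (0 : L F U) = 0 := TrivSqZeroExt.snd_zero

/-- A ring map into `Γ(X, U) ⋉ Γ(F, U)` from a derivation along a ring map. -/
def liftHom {R : CommRingCat.{u}} {U : X.Opens} (φ : R ⟶ Γ(X, U)) (δ : R →+ Γ(F, U))
    (hδ : ∀ a b : R, δ (a * b) = φ a • δ b + φ b • δ a) : R ⟶ L F U :=
  CommRingCat.ofHom
    { toFun := fun a => mk F U (φ a) (δ a)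
      map_one' := by
        refine ext F ?_ ?_
        · simp
        · simpa using hδ 1 1
      map_mul' := fun a b => by
        show (mk F U (φ (a * b)) (δ (a * b)) : L F U) = (mk F U (φ a) (δ a) : L F U) * mk F U (φ b) (δ b)
        refine ext F ?_ ?_
        · rw [fst_mul, fst_mk, fst_mk, fst_mk, map_mul]
        · rw [snd_mul, snd_mk, snd_mk, snd_mk, fst_mk, fst_mk, hδ]
      map_zero' := by refine ext F ?_ ?_ <;> simp
      map_add' := fun a b => by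
        show (mk F U (φ (a + b)) (δ (a + b)) : L F U) = (mk F U (φ a) (δ a) : L F U) + mk F U (φ b) (δ b)
        refine ext F ?_ ?_
        · rw [fst_add, fst_mk, fst_mk, fst_mk, map_add]
        · rw [snd_add, snd_mk, snd_mk, snd_mk, map_add] }

@[simp] theorem fst_liftHom {R : CommRingCat.{u}} {U : X.Opens} (φ : R ⟶ Γ(X, U)) (δ : R →+ Γ(F, U))
    (hδ : ∀ a b : R, δ (a * b) = φ a • δ b + φ b • δ a) (a : R) : fst' F (liftHom F φ δ hδ a) = φ a :=
  fst_mk F _ _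

@[simp] theorem snd_liftHom {R : CommRingCat.{u}} {U : X.Opens} (φ : R ⟶ Γ(X, U)) (δ : R →+ Γ(F, U))
    (hδ : ∀ a b : R, δ (a * b) = φ a • δ b + φ b • δ a) (a : R) : snd' F (liftHom F φ δ hδ a) = δ a :=
  snd_mk F _ _

/-- The trivial section. -/
def inlL (U : X.Opens) : Γ(X, U) ⟶ L F U :=
  liftHom F (𝟙 _) 0 (by simp)

/-- The projection. -/
def prL (U : X.Opens) : L F U ⟶ Γ(X, U) :=
  CommRingCat.ofHom
    { toFun := fst' F
      map_one' := fst_one F U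
      map_mul' := fun a b => fst_mul F a b
      map_zero' := fst_zero F U
      map_add' := fun a b => fst_add F a b }

@[simp] theorem prL_apply {U : X.Opens} (x : L F U) : prL F U x = fst' F x := rfl

/-- The second projection. -/
def sndHom (U : X.Opens) : L F U →+ Γ(F, U) where
  toFun := snd' F
  map_zero' := snd_zero F U
  map_add' := snd_add F

/-- Restriction. -/
def resL {U U' : X.Opens} (h : U' ≤ U) : L F U ⟶ L F U' :=
  liftHom F (prL F U ≫ X.presheaf.map (homOfLE h).op)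
    (((F.presheaf.map (homOfLE h).op).hom).comp (sndHom F U)) fun x y => by
      show rs F h (snd' F (x * y)) = ro h (fst' F x) • rs F h (snd' F y) + ro h (fst' F y) • rs F h (snd' F x)
      rw [snd_mul, ← rs_smul, ← rs_smul]
      exact map_add _ _ _

@[simp] theorem fst_resL {U U' : X.Opens} (h : U' ≤ U) (x : L F U) :
    fst' F (resL F h x) = ro h (fst' F x) := fst_liftHom F _ _ _ x

@[simp] theorem snd_resL {U U' : X.Opens} (h : U' ≤ U) (x : L F U) :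
    snd' F (resL F h x) = rs F h (snd' F x) := snd_liftHom F _ _ _ x

theorem resL_prL {U U' : X.Opens} (h : U' ≤ U) :
    resL F h ≫ prL F U' = prL F U ≫ X.presheaf.map (homOfLE h).op := by
  ext x
  exact fst_resL F h x

theorem surjective_prL (U : X.Opens) : Surjective (Spec.map (prL F U)) := by
  refine ⟨fun q => ?_⟩
  have hsurj : Function.Surjective (prL F U).hom := fun a => ⟨mk F U a 0, fst_mk F a 0⟩
  have hr : Set.range (PrimeSpectrum.comap (prL F U).hom) = PrimeSpectrum.zeroLocus (RingHom.ker (prL F U).hom) :=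
    range_comap_of_surjective _ _ hsurj
  have hq : q ∈ Set.range (PrimeSpectrum.comap (prL F U).hom) := by
    rw [hr, PrimeSpectrum.mem_zeroLocus]
    intro z hz
    have hz0 : fst' F z = 0 := hz
    have hzz : z * z = 0 := by
      refine ext F ?_ ?_ <;> simp [hz0]
    have hp : (q : PrimeSpectrum (L F U)).asIdeal.IsPrime := (q : PrimeSpectrum (L F U)).2
    rcases hp.mem_or_mem (show z * z ∈ (q : PrimeSpectrum (L F U)).asIdeal from hzz ▸ zero_mem _) with h | h <;>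
      exact h
  exact hq

theorem le_preimage_of_range {Q : Scheme.{u}} {U : X.Opens} (q : Spec (L F U) ⟶ Q) (W : Q.Opens)
    (h : (⊤ : (Spec Γ(X, U)).Opens) ≤ (Spec.map (prL F U) ≫ q) ⁻¹ᵁ W) : ⊤ ≤ q ⁻¹ᵁ W := by
  intro z _
  obtain ⟨w, rfl⟩ := (surjective_prL F U).surj z
  exact h (Set.mem_univ w)

/-- The ring map to `Γ(X, U) ⋉ Γ(F, U)` defined by a point of `Q`. -/
def τ {Q : Scheme.{u}} {U : X.Opens} (q : Spec (L F U) ⟶ Q) (W : Q.Opens) (e : ⊤ ≤ q ⁻¹ᵁ W) :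
    Γ(Q, W) ⟶ L F U :=
  q.appLE W ⊤ e ≫ (Scheme.ΓSpecIso (L F U)).hom

theorem τ_congr {Q : Scheme.{u}} {U : X.Opens} {q q' : Spec (L F U) ⟶ Q} (h : q = q') (W : Q.Opens)
    (e : ⊤ ≤ q ⁻¹ᵁ W) (e' : ⊤ ≤ q' ⁻¹ᵁ W) : τ F q W e = τ F q' W e' := by
  subst h; rfl

theorem τ_res {Q : Scheme.{u}} {U U' : X.Opens} (hU : U' ≤ U) (q : Spec (L F U) ⟶ Q)
    (q' : Spec (L F U') ⟶ Q) (hq : Spec.map (resL F hU) ≫ q = q') {W W' : Q.Opens} (hW : W' ≤ W)
    (e : ⊤ ≤ q ⁻¹ᵁ W) (e' : ⊤ ≤ q' ⁻¹ᵁ W') :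
    Q.presheaf.map (homOfLE hW).op ≫ τ F q' W' e' = τ F q W e ≫ resL F hU := by
  subst hq
  simp only [τ, Category.assoc, ← Scheme.ΓSpecIso_naturality]
  rw [Scheme.Hom.map_appLE_assoc, Scheme.Hom.appTop, Scheme.Hom.app_eq_appLE,
    Scheme.Hom.appLE_comp_appLE_assoc]
  rfl

theorem τ_fst {Q : Scheme.{u}} {U : X.Opens} (hU : IsAffineOpen U) (q : Spec (L F U) ⟶ Q) (g : X ⟶ Q)
    (hq : Spec.map (prL F U) ≫ q = hU.fromSpec ≫ g) (W : Q.Opens) (e : ⊤ ≤ q ⁻¹ᵁ W) (hW : U ≤ g ⁻¹ᵁ W) :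
    τ F q W e ≫ prL F U = g.appLE W U hW := by
  have e1 : (⊤ : (Spec Γ(X, U)).Opens) ≤ hU.fromSpec ⁻¹ᵁ U := hU.fromSpec_preimage_self.ge
  have h1 : hU.fromSpec.appLE U ⊤ e1 = (Scheme.ΓSpecIso Γ(X, U)).inv := by
    rw [Scheme.Hom.appLE, hU.fromSpec_app_self, Category.assoc, ← Functor.map_comp]
    exact (congrArg ((Scheme.ΓSpecIso Γ(X, U)).inv ≫ ·) ((Spec Γ(X, U)).presheaf.map_id _)).trans
      (Category.comp_id _)
  have h2 : ∀ (a : Spec Γ(X, U) ⟶ Q) (_ : a = hU.fromSpec ≫ g) (ea : ⊤ ≤ a ⁻¹ᵁ W),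
      a.appLE W ⊤ ea = g.appLE W U hW ≫ (Scheme.ΓSpecIso Γ(X, U)).inv := by
    rintro a rfl ea
    rw [← h1, Scheme.Hom.appLE_comp_appLE]
  rw [τ, Category.assoc, ← Scheme.ΓSpecIso_naturality, Scheme.Hom.appTop, Scheme.Hom.app_eq_appLE,
    Scheme.Hom.appLE_comp_appLE_assoc]
  show (Spec.map (prL F U) ≫ q).appLE W ⊤ _ ≫ _ = _
  rw [h2 _ hq, Category.assoc, Iso.inv_hom_id, Category.comp_id]

/-- The `F`-component. -/
def μ {Q : Scheme.{u}} {U : X.Opens} (q : Spec (L F U) ⟶ Q) (W : Q.Opens) (e : ⊤ ≤ q ⁻¹ᵁ W)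
    (s : Γ(Q, W)) : Γ(F, U) :=
  snd' F (τ F q W e s)

theorem μ_add {Q : Scheme.{u}} {U : X.Opens} (q : Spec (L F U) ⟶ Q) (W : Q.Opens) (e : ⊤ ≤ q ⁻¹ᵁ W)
    (s t : Γ(Q, W)) : μ F q W e (s + t) = μ F q W e s + μ F q W e t := by
  rw [μ, map_add, snd_add]; rfl

theorem μ_mul {Q : Scheme.{u}} {U : X.Opens} (hU : IsAffineOpen U) (q : Spec (L F U) ⟶ Q) (g : X ⟶ Q)
    (hq : Spec.map (prL F U) ≫ q = hU.fromSpec ≫ g) (W : Q.Opens) (e : ⊤ ≤ q ⁻¹ᵁ W) (hW : U ≤ g ⁻¹ᵁ W)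
    (s t : Γ(Q, W)) :
    μ F q W e (s * t) = g.appLE W U hW s • μ F q W e t + g.appLE W U hW t • μ F q W e s := by
  have h := τ_fst F hU q g hq W e hW
  rw [μ, map_mul, snd_mul, ← h]
  rfl

theorem μ_res {Q : Scheme.{u}} {U U' : X.Opens} (hU : U' ≤ U) (q : Spec (L F U) ⟶ Q)
    (q' : Spec (L F U') ⟶ Q) (hq : Spec.map (resL F hU) ≫ q = q') {W W' : Q.Opens} (hW : W' ≤ W)
    (e : ⊤ ≤ q ⁻¹ᵁ W) (e' : ⊤ ≤ q' ⁻¹ᵁ W') (s : Γ(Q, W)) :
    μ F q' W' e' (ro hW s) = rs F hU (μ F q W e s) := by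
  have h := congr($(τ_res F hU q q' hq hW e e') s)
  exact (congrArg (snd' F) h).trans (snd_resL F hU _)

theorem μ_comp {Q Q' : Scheme.{u}} {U : X.Opens} (q : Spec (L F U) ⟶ Q) (p : Q ⟶ Q') {W : Q.Opens}
    {W' : Q'.Opens} (e : ⊤ ≤ q ⁻¹ᵁ W) (hp : W ≤ p ⁻¹ᵁ W') (e' : ⊤ ≤ (q ≫ p) ⁻¹ᵁ W') (s : Γ(Q', W')) :
    μ F (q ≫ p) W' e' s = μ F q W e (p.appLE W' W hp s) := by
  simp only [μ, τ, ← CommRingCat.comp_apply, ← Category.assoc, Scheme.Hom.appLE_comp_appLE]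

/-- A compatible family on the affine opens satisfying a local condition glues uniquely. -/
theorem existsUnique_glue (P : X.affineOpens → Prop)
    (hP : ∀ (x : X) (O : X.Opens), x ∈ O → ∃ U, P U ∧ x ∈ U.1 ∧ U.1 ≤ O)
    (Z : X.Opens) (m : ∀ U : X.affineOpens, P U → U.1 ≤ Z → Γ(F, U.1))
    (hm : ∀ (U U' : X.affineOpens) (p : P U) (p' : P U') (hZ : U.1 ≤ Z) (hZ' : U'.1 ≤ Z) (h : U'.1 ≤ U.1),
      rs F h (m U p hZ) = m U' p' hZ') :
    ∃! s : Γ(F, Z), ∀ (U : X.affineOpens) (p : P U) (h : U.1 ≤ Z), rs F h s = m U p h := by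
  let ι := {U : X.affineOpens // P U ∧ U.1 ≤ Z}
  let V : ι → X.Opens := fun i => i.1.1
  let G : TopCat.Sheaf Ab X.toTopCat := ⟨F.presheaf, F.isSheaf⟩
  have hcov : Z ≤ iSup V := fun x hx => by
    obtain ⟨U, p, hxU, hUZ⟩ := hP x Z hx
    exact Opens.mem_iSup.mpr ⟨⟨U, p, hUZ⟩, hxU⟩
  have hcompat : TopCat.Presheaf.IsCompatible G.obj V fun i => m i.1 i.2.1 i.2.2 := by
    intro i j
    refine G.eq_of_locally_eq' (fun k : {U : X.affineOpens // P U ∧ U.1 ≤ V i ⊓ V j} => k.1.1)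
      (V i ⊓ V j) (fun k => homOfLE k.2.2) ?_ _ _ fun k => ?_
    · intro x hx
      obtain ⟨U, p, hxU, hUO⟩ := hP x _ hx
      exact Opens.mem_iSup.mpr ⟨⟨U, p, hUO⟩, hxU⟩
    · show rs F k.2.2 (rs F inf_le_left (m i.1 i.2.1 i.2.2)) =
        rs F k.2.2 (rs F inf_le_right (m j.1 j.2.1 j.2.2))
      rw [rs_rs, rs_rs, hm i.1 k.1 i.2.1 k.2.1 i.2.2 ((k.2.2.trans inf_le_left).trans i.2.2),
        hm j.1 k.1 j.2.1 k.2.1 j.2.2]
  obtain ⟨s, hs, huniq⟩ := G.existsUnique_gluing' V Z (fun i => homOfLE i.2.2) hcov _ hcompat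
  exact ⟨s, fun U p h => hs ⟨U, p, h⟩, fun t ht => huniq t fun i => ht i.1 i.2.1 i.2.2⟩

end Groth.L19.OmegaSh
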