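import Groth.Agent.L19.OmegaSh.ConormalLift
import Groth.Agent.L19.Thick.Basic

/-!
# The conormal sequence of universal thickenings along a formally smooth morphism
-/

set_option autoImplicit false
set_option linter.style.haveILetI false
set_option linter.unusedSectionVars false
set_option backward.isDefEq.respectTransparency.types false
set_option backward.isDefEq.respectTransparency false

universe u

open CategoryTheory CategoryTheory.Limits AlgebraicGeometry TopologicalSpace Opposite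

noncomputable section

namespace Groth.L19.OmegaSh

open Groth.L18.Frame (rs ro rs_rs ro_ro rs_smul ro_self rs_self)
open _root_.OmegaSh (IsConormalMap idealSect pullSect conormalSect)

variable {Z X Y Z' Z'' : Scheme.{u}}

/-- Locally on `Z''` the morphism of universal thickenings has a section. -/
theorem exists_nbhdLift_thickening (i : Z ⟶ X) (p : X ⟶ Y) (hp : MoreMor.IsFormallySmoothHom p)
    (i' : Z ⟶ Z') (a : Z' ⟶ X) (hZ' : _root_.OmegaSh.IsUnivThickening i i' a)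
    (i'' : Z ⟶ Z'') (b : Z'' ⟶ Y) (hZ'' : _root_.OmegaSh.IsUnivThickening (i ≫ p) i'' b)
    (k : Z' ⟶ Z'') (hk₁ : i' ≫ k = i'') (hk₂ : k ≫ b = a ≫ p) (z : Z) :
    ∃ D : NbhdLift k i' i'', z ∈ D.k ⁻¹ᵁ D.T := by
  haveI : IsClosedImmersion i'' := hZ''.1.1.1
  haveI : Surjective i'' := hZ''.1.1.2
  obtain ⟨_, ⟨V, hV, rfl⟩, hzV, -⟩ :=
    Z''.isBasis_affineOpens.exists_subset_of_mem_open (Set.mem_univ (i'' z)) isOpen_univ
  have hW : IsAffineOpen (i'' ⁻¹ᵁ V) := hV.preimage i''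
  have hthick := Groth.L19.Thick.firstOrder_restrict hZ''.1 V
  have hsq : RingHom.ker (i''.app V).hom ^ 2 = ⊥ := by
    have h := congrArg (fun J => J.ideal ⟨V, hV⟩) hZ''.1.2
    simp only [Scheme.IdealSheafData.ideal_mul, Pi.mul_apply, Scheme.IdealSheafData.ideal_bot, Pi.bot_apply,
      Scheme.Hom.ker_apply] at h
    rw [pow_two]
    exact h
  obtain ⟨l, hl₁, hl₂, -⟩ := exists_lift_sqZero (i''.app V) (i''.app_surjective V hV) hsq hp
    (hW.fromSpec ≫ i) (hV.fromSpec ≫ b) (by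
      rw [Scheme.Hom.app_eq_appLE, ← Category.assoc, IsAffineOpen.SpecMap_appLE_fromSpec i'' hV hW le_rfl,
        Category.assoc, hZ''.2.1, Category.assoc])
  have hiso : i'' ∣_ V ≫ hV.isoSpec.hom = hW.isoSpec.hom ≫ Spec.map (i''.app V) := by
    rw [← cancel_mono hV.fromSpec, Category.assoc, Category.assoc, Scheme.Hom.app_eq_appLE,
      IsAffineOpen.SpecMap_appLE_fromSpec i'' hV hW le_rfl, hV.isoSpec_hom_fromSpec,
      ← Category.assoc hW.isoSpec.hom, hW.isoSpec_hom_fromSpec, morphismRestrict_ι]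
  -- the section
  let s₀ : (Scheme.Opens.toScheme V) ⟶ X := hV.isoSpec.hom ≫ l
  have hs₀ : i'' ∣_ V ≫ s₀ = (i'' ⁻¹ᵁ V).ι ≫ i := by
    rw [← Category.assoc, hiso, Category.assoc, hl₁, ← Category.assoc, hW.isoSpec_hom_fromSpec]
  have hs₀p : s₀ ≫ p = (Scheme.Opens.ι V) ≫ b := by
    rw [Category.assoc, hl₂, ← Category.assoc, hV.isoSpec_hom_fromSpec]
  obtain ⟨s, ⟨hs₁, hs₂⟩, -⟩ := hZ'.2.2 _ _ (i'' ∣_ V) s₀ (i'' ⁻¹ᵁ V).ι hthick hs₀
  have hsk : s ≫ k = (Scheme.Opens.ι V) := by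
    obtain ⟨t, -, hu⟩ := hZ''.2.2 _ _ (i'' ∣_ V) ((Scheme.Opens.ι V) ≫ b) (i'' ⁻¹ᵁ V).ι hthick
      (by rw [morphismRestrict_ι_assoc, hZ''.2.1])
    refine (hu _ ⟨?_, ?_⟩).trans (hu _ ⟨morphismRestrict_ι _ _, rfl⟩).symm
    · rw [← Category.assoc, hs₁, Category.assoc, hk₁]
    · rw [Category.assoc, hk₂, ← Category.assoc, hs₂, hs₀p]
  -- the neighbourhood
  have hle : i''.ker ^ 2 ≤ i''.ker := fun _ => Ideal.pow_le_self two_ne_zero
  let K : Z''.IdealSheafData := i''.ker ^ 2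
  let κ : Z ⟶ K.subscheme := i''.toImage ≫ Scheme.IdealSheafData.inclusion hle
  have hκ : κ ≫ K.subschemeι = i'' := by
    rw [Category.assoc, Scheme.IdealSheafData.inclusion_subschemeι]
    exact i''.toImage_imageι
  let T : K.subscheme.Opens := K.subschemeι ⁻¹ᵁ V
  refine ⟨⟨K, κ, hκ, fun W => ?_, T, K.subschemeι.resLE V T le_rfl ≫ s, ?_, ?_⟩, ?_⟩
  · rw [Scheme.IdealSheafData.ideal_pow, Pi.pow_apply, Scheme.Hom.ker_apply]
  · have e : κ ⁻¹ᵁ T ≤ i'' ⁻¹ᵁ V := le_of_eq (by rw [← Scheme.Hom.comp_preimage, hκ])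
    have h1 : κ.resLE T (κ ⁻¹ᵁ T) le_rfl ≫ K.subschemeι.resLE V T le_rfl =
        Z.homOfLE e ≫ i'' ∣_ V := by
      rw [← cancel_mono (Scheme.Opens.ι V), Category.assoc, Category.assoc, morphismRestrict_ι, Scheme.Hom.resLE_comp_ι,
        Scheme.Hom.resLE_comp_ι_assoc, hκ, Scheme.homOfLE_ι_assoc]
    rw [reassoc_of% h1, hs₁, Scheme.homOfLE_ι_assoc]
  · rw [Category.assoc, hsk, Scheme.Hom.resLE_comp_ι]
  · show z ∈ κ ⁻¹ᵁ (K.subschemeι ⁻¹ᵁ V)
    rw [← Scheme.Hom.comp_preimage, hκ]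
    exact hzV

variable {p : X ⟶ Y} {i : Z ⟶ X} {j : Z ⟶ Y}

/-- Local lifts make the map of conormal sheaves locally split. -/
theorem exists_local_leftInverse [QuasiCompact i] [QuasiCompact j] (D : NbhdLift p i j)
    (ψ : (Scheme.Modules.pullback (𝟙 Z)).obj (Omega.conormal j) ⟶ Omega.conormal i)
    (hψ : IsConormalMap i j p (𝟙 Z) ψ) :
    ∃ r : (Scheme.Modules.restrictFunctor (D.k ⁻¹ᵁ D.T).ι).obj (Omega.conormal i) ⟶
        (Scheme.Modules.restrictFunctor (D.k ⁻¹ᵁ D.T).ι).obj ((Scheme.Modules.pullback (𝟙 Z)).obj (Omega.conormal j)),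
      (Scheme.Modules.restrictFunctor (D.k ⁻¹ᵁ D.T).ι).map ψ ≫ r = 𝟙 _ := by
  obtain ⟨r, hr⟩ := D.exists_retraction ψ hψ
  let adj := Scheme.Modules.restrictAdjunction (D.k ⁻¹ᵁ D.T).ι
  let F := Scheme.Modules.restrictFunctor (D.k ⁻¹ᵁ D.T).ι
  let b : Omega.conormal j ⟶ (Scheme.Modules.pullback (𝟙 Z)).obj (Omega.conormal j) :=
    (Scheme.Modules.pullbackId Z).inv.app (Omega.conormal j)
  let r' : F.obj (Omega.conormal i) ⟶ F.obj (Omega.conormal j) := (adj.homEquiv _ _).symm r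
  have h : F.map (b ≫ ψ) ≫ r' = 𝟙 _ := by
    apply (adj.homEquiv _ _).injective
    rw [Adjunction.homEquiv_naturality_left, Equiv.apply_symm_apply, Adjunction.homEquiv_id, Category.assoc]
    exact hr
  refine ⟨r' ≫ F.map b, ?_⟩
  rw [← cancel_epi (F.map b), Category.comp_id, ← Category.assoc, ← F.map_comp, ← Category.assoc, h,
    Category.id_comp]

/-- A map of sheaves which is locally split is a monomorphism. -/
theorem mono_of_local_leftInverse {M N : Z.Modules} (ψ : M ⟶ N)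
    (h : ∀ z : Z, ∃ (U : Z.Opens) (r : (Scheme.Modules.restrictFunctor U.ι).obj N ⟶
      (Scheme.Modules.restrictFunctor U.ι).obj M), z ∈ U ∧ (Scheme.Modules.restrictFunctor U.ι).map ψ ≫ r = 𝟙 _) :
    Mono ψ := by
  refine ⟨fun {L} α β hαβ => ?_⟩
  ext O s
  refine eq_of_local _ _ fun z hz => ?_
  obtain ⟨U, r, hzU, hr⟩ := h z
  have e : (Scheme.Modules.restrictFunctor U.ι).map α = (Scheme.Modules.restrictFunctor U.ι).map β := by
    rw [← Category.comp_id ((Scheme.Modules.restrictFunctor U.ι).map α), ← hr, ← Category.assoc,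
      ← Functor.map_comp, hαβ, Functor.map_comp, Category.assoc, hr, Category.comp_id]
  refine ⟨U.ι ''ᵁ (U.ι ⁻¹ᵁ O), U.ι.image_preimage_le O, ⟨⟨z, hzU⟩, hz, rfl⟩, ?_⟩
  have h2 := congr($(congrArg (fun η => Scheme.Modules.Hom.app η (U.ι ⁻¹ᵁ O)) e)
    (rs L (U.ι.image_preimage_le O) s))
  exact ((app_rs' α (U.ι.image_preimage_le O) s).symm.trans h2).trans (app_rs' β (U.ι.image_preimage_le O) s)
where
  app_rs' {A B : Z.Modules} (φ : A ⟶ B) {U U' : Z.Opens} (h : U' ≤ U) (s : Γ(A, U)) :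
      φ.app U' (rs A h s) = rs B h (φ.app U s) := congr($(φ.mapPresheaf.naturality (homOfLE h).op) s)

end Groth.L19.OmegaSh
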